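import Mathlib

/-!
# Counting lemmas for fixed-point-free automorphisms of prime power order

A distribution `m` on `ZMod N` whose autocorrelation is constant away from `0` and one larger at `0` is
constant up to one entry; the multiplicative order of `q` modulo a power of an odd prime dividing
`q ^ e + 1`.
-/

set_option autoImplicit false

namespace Cfsg.Agent.Lib.ShultGross

/-- If the autocorrelation of `m` is `L` off zero and `L + 1` at zero and `m 0 = 0`, then the total is
`N - 1` or `1`. -/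
theorem total_of_autocorrelation {N : ℕ} [NeZero N] (hN : 2 ≤ N) (m : ZMod N → ℕ) (L : ℕ)
    (h0 : ∑ a, m a * m a = L + 1) (hs : ∀ s : ZMod N, s ≠ 0 → ∑ a, m a * m (a + s) = L)
    (hzero : m 0 = 0) : (∑ a, m a) + 1 = N ∨ ∑ a, m a = 1 := by
  classical
  let g : ZMod N → ZMod N → ℕ := fun s a => if m a = m (a + s) then 0 else 1
  have hsq : ∀ s : ZMod N, s ≠ 0 → ∑ a, ((m a : ℤ) - m (a + s)) ^ 2 = 2 := by
    intro s hss
    have h1 : ∑ a, m (a + s) * m (a + s) = L + 1 := by
      rw [← h0]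
      exact Equiv.sum_comp (Equiv.addRight s) (fun a => m a * m a)
    have h2 : ∑ a, ((m a : ℤ) - m (a + s)) ^ 2 =
        ((∑ a, m a * m a : ℕ) : ℤ) + (∑ a, m (a + s) * m (a + s) : ℕ) -
          2 * (∑ a, m a * m (a + s) : ℕ) := by
      push_cast
      rw [Finset.mul_sum, ← Finset.sum_add_distrib, ← Finset.sum_sub_distrib]
      exact Finset.sum_congr rfl fun a _ => by ring
    rw [h2, h0, h1, hs s hss]
    push_cast
    ring
  have hg : ∀ s, s ≠ 0 → ∑ a, g s a ≤ 2 := by
    intro s hss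
    have : ((∑ a, g s a : ℕ) : ℤ) ≤ 2 := by
      rw [← hsq s hss, Nat.cast_sum]
      refine Finset.sum_le_sum fun a _ => ?_
      simp only [g]
      split
      · simpa using sq_nonneg _
      · rename_i h
        have : (m a : ℤ) - m (a + s) ≠ 0 := sub_ne_zero.2 (by exact_mod_cast h)
        have h1 := Int.one_le_abs this
        push_cast
        nlinarith [sq_abs ((m a : ℤ) - m (a + s))]
    exact_mod_cast this
  -- some value is attained at all but one place
  obtain ⟨a₀, ha₀⟩ : ∃ a, ∑ s, g s a ≤ 1 := by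
    by_contra h
    push Not at h
    have h1 : ∑ _a : ZMod N, 2 ≤ ∑ a, ∑ s, g s a := Finset.sum_le_sum fun a _ => h a
    have h2 : ∑ s, ∑ a, g s a ≤ ∑ s : ZMod N, if s = 0 then 0 else 2 := by
      refine Finset.sum_le_sum fun s _ => ?_
      split
      · subst s; simp [g]
      · exact hg s ‹_›
    have h3 : (∑ s : ZMod N, if s = 0 then 0 else 2) = 2 * (N - 1) := by
      rw [Finset.sum_ite, Finset.sum_const_zero, zero_add, Finset.sum_const, smul_eq_mul,
        Finset.filter_ne', Finset.card_erase_of_mem (Finset.mem_univ _), Finset.card_univ, ZMod.card,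
        mul_comm]
    rw [Finset.sum_comm] at h1
    rw [Finset.sum_const, Finset.card_univ, ZMod.card, smul_eq_mul] at h1
    omega
  -- exactly one exceptional place
  have hne : ∃ b, m b ≠ m a₀ := by
    by_contra h
    push Not at h
    have h1 := hs 1 (by
      haveI : Fact (1 < N) := ⟨hN⟩
      exact one_ne_zero)
    simp only [h] at h1 h0
    omega
  obtain ⟨b, hb⟩ := hne
  have huniq : ∀ c, c ≠ b → m c = m a₀ := by
    intro c hc
    by_contra hc'
    have h1 : (g (b - a₀) a₀) + g (c - a₀) a₀ ≤ ∑ s, g s a₀ := by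
      rw [← Finset.sum_pair (f := fun s => g s a₀) (fun h => hc (sub_left_inj.1 h).symm)]
      exact Finset.sum_le_sum_of_subset (Finset.subset_univ _)
    simp only [g, add_sub_cancel, if_neg (Ne.symm hb), if_neg (Ne.symm hc')] at h1
    simp only [g] at ha₀
    omega
  have hdiff : ((m b : ℤ) - m a₀) ^ 2 = 1 := by
    have hs0 : a₀ - b ≠ 0 := sub_ne_zero.2 fun h => hb (h ▸ rfl)
    have h1 := hsq _ hs0
    have hb' : b - (a₀ - b) ≠ b := fun h => hs0 (sub_eq_self.1 h)
    rw [← Finset.sum_subset (Finset.subset_univ {b, b - (a₀ - b)}) (fun c _ hc => ?_),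
      Finset.sum_pair (Ne.symm hb')] at h1
    · rw [huniq (b + (a₀ - b)) (fun h => hs0 (add_eq_left.1 h)), huniq _ hb',
        sub_add_cancel] at h1
      nlinarith
    · simp only [Finset.mem_insert, Finset.mem_singleton, not_or] at hc
      rw [huniq c hc.1, huniq (c + (a₀ - b)) (fun h => hc.2 (eq_sub_of_add_eq h))]
      ring
  have htot : (∑ a, m a) + m a₀ = N * m a₀ + m b := by
    rw [← Finset.add_sum_erase _ _ (Finset.mem_univ b),
      Finset.sum_congr rfl (fun c hc => huniq c (Finset.ne_of_mem_erase hc)), Finset.sum_const,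
      Finset.card_erase_of_mem (Finset.mem_univ b), Finset.card_univ, ZMod.card, smul_eq_mul]
    obtain ⟨N', rfl⟩ : ∃ N', N = N' + 1 := ⟨N - 1, by omega⟩
    rw [Nat.add_sub_cancel]
    ring
  rcases eq_or_ne (0 : ZMod N) b with h | h
  · subst h
    rw [hzero] at hdiff htot
    have hA : (m a₀ : ℤ) = 1 := by push_cast at hdiff; nlinarith [Int.natCast_nonneg (m a₀)]
    have hA' : m a₀ = 1 := by exact_mod_cast hA
    rw [hA'] at htot
    left
    omega
  · have hA : m a₀ = 0 := (huniq 0 h) ▸ hzero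
    rw [hA] at htot hdiff
    have hB : (m b : ℤ) = 1 := by push_cast at hdiff; nlinarith [Int.natCast_nonneg (m b)]
    have hB' : m b = 1 := by exact_mod_cast hB
    right
    rw [hB', mul_zero] at htot
    omega

/-- If `p ^ j = q ^ e + 1` and `p ^ (j + k) ∣ q ^ D - 1`, then `2 * e * p ^ k ∣ D`. -/
theorem dvd_of_prime_pow_dvd {p q j k e D : ℕ} (hp : p.Prime) (hp2 : Odd p) (hq : 2 ≤ q)
    (hj : 1 ≤ j) (he : 1 ≤ e) (hN : p ^ j = q ^ e + 1) (hD : p ^ (j + k) ∣ q ^ D - 1) :
    2 * e * p ^ k ∣ D := by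
  haveI := Fact.mk hp
  have hp3 : 3 ≤ p := by
    obtain ⟨t, ht⟩ := hp2
    have := hp.two_le
    omega
  have hqe : q ≤ q ^ e := Nat.le_self_pow (by omega) q
  have hpdvd : p ∣ q ^ e + 1 := hN ▸ dvd_pow_self p (by omega)
  have hpm : ¬ p ∣ q ^ e - 1 := fun h => by
    have h2 := Nat.dvd_sub hpdvd h
    rw [show q ^ e + 1 - (q ^ e - 1) = 2 by omega] at h2
    exact absurd (Nat.le_of_dvd two_pos h2) (by omega)
  have hpq : ¬ p ∣ q := fun h => by
    have h1 : p ∣ q ^ e := dvd_pow h (by omega)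
    exact hp.one_lt.ne' (Nat.dvd_one.1 ((Nat.dvd_add_right h1).1 hpdvd))
  have hprod : q ^ (2 * e) - 1 = (q ^ e + 1) * (q ^ e - 1) := by
    rw [mul_comm 2 e, pow_mul, ← Nat.sq_sub_sq, one_pow]
  have hper : p ^ j ∣ q ^ (2 * e) - 1 := by rw [hprod, hN]; exact dvd_mul_right _ _
  -- the order modulo `p ^ j`
  have hDj : p ^ j ∣ q ^ D - 1 := (pow_dvd_pow p (Nat.le_add_right j k)).trans hD
  have hone : ∀ n, p ^ j ∣ q ^ n - 1 ↔ (q : ZMod (p ^ j)) ^ n = 1 := fun n => by
    rw [← ZMod.natCast_eq_zero_iff, Nat.cast_sub (Nat.one_le_pow _ _ (by omega)), sub_eq_zero,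
      Nat.cast_pow, Nat.cast_one]
  have hord : orderOf (q : ZMod (p ^ j)) = 2 * e := by
    have h1 : orderOf (q : ZMod (p ^ j)) ∣ 2 * e := orderOf_dvd_of_pow_eq_one ((hone _).1 hper)
    obtain ⟨f, hf⟩ := h1
    rcases Nat.lt_or_ge f 2 with hf2 | hf2
    · rcases Nat.eq_zero_or_pos f with h | h
      · subst h; omega
      · have : f = 1 := by omega
        subst this; omega
    · exfalso
      have hle : orderOf (q : ZMod (p ^ j)) ≤ e := by nlinarith
      have h2 := (hone _).2 (pow_orderOf_eq_one (q : ZMod (p ^ j)))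
      have h3 : q ^ orderOf (q : ZMod (p ^ j)) ≤ q ^ e := Nat.pow_le_pow_right (by omega) hle
      have h4 : 0 < orderOf (q : ZMod (p ^ j)) := by
        rcases Nat.eq_zero_or_pos (orderOf (q : ZMod (p ^ j))) with h | h
        · rw [h, zero_mul] at hf; omega
        · exact h
      have h5 : q ≤ q ^ orderOf (q : ZMod (p ^ j)) := Nat.le_self_pow h4.ne' q
      have h6 := Nat.le_of_dvd (by omega) h2
      omega
  obtain ⟨m, rfl⟩ : 2 * e ∣ D := hord ▸ orderOf_dvd_of_pow_eq_one ((hone _).1 hDj)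
  rcases Nat.eq_zero_or_pos m with hm | hm
  · subst hm; simp
  refine mul_dvd_mul_left _ ((padicValNat_dvd_iff_le hm.ne').2 ?_)
  have hlt : 1 < q ^ (2 * e) := Nat.one_lt_pow (by omega) (by omega)
  have hLTE := padicValNat.pow_sub_pow (p := p) hp2 hlt (dvd_trans (dvd_pow_self p (by omega)) hper)
    (fun h => hpq (hp.dvd_of_dvd_pow h)) hm.ne'
  rw [one_pow, ← pow_mul, hprod, ← hN, padicValNat.mul (pow_ne_zero _ hp.ne_zero) (by omega),
    padicValNat.prime_pow, padicValNat.eq_zero_of_not_dvd hpm, add_zero] at hLTE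
  have h7 : j + k ≤ padicValNat p (q ^ (2 * e * m) - 1) := by
    refine (padicValNat_dvd_iff_le ?_).1 hD
    have h8 : 1 < q ^ (2 * e * m) := Nat.one_lt_pow (by positivity) (by omega)
    omega
  omega

end Cfsg.Agent.Lib.ShultGross
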