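import Mathlib
import Cfsg.Agent.Lib.HallHigmanB.Average
import Cfsg.Agent.Lib.ShultGross.Counting

/-!
# The degree of an irreducible class two group with a freely acting automorphism

`σ : Q →* End U` is irreducible with commutators acting as scalars, `A` of order dividing `N` induces `θ`
on `Q`, every coset of the scalar subgroup other than itself has a free `θ`-orbit, and `A` has no fixed
vector.  Then `dim U + 1 = N` or `dim U = 1`.
-/

set_option autoImplicit false

namespace Cfsg.Agent.Lib.ShultGross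

open Module
open Cfsg.Agent.Lib.HallHigmanB (IsIrred sum_trace_smul finrank_ne_zero pow_mul_sigma)

variable {k U Q : Type*} [Field k] [AddCommGroup U] [Module k U] [Group Q]

/-- The elements acting centrally in the image. -/
def scalarSub (σ : Q →* Module.End k U) : Subgroup Q where
  carrier := {g | ∀ h, σ g * σ h = σ h * σ g}
  one_mem' h := by rw [map_one, one_mul, mul_one]
  mul_mem' {a b} ha hb h := by rw [map_mul, mul_assoc, hb h, ← mul_assoc, ha h, mul_assoc]
  inv_mem' {a} ha h := by
    calc σ a⁻¹ * σ h = σ a⁻¹ * (σ h * σ a) * σ a⁻¹ := by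
          rw [mul_assoc, mul_assoc, ← map_mul σ a, mul_inv_cancel, map_one, mul_one]
      _ = σ h * σ a⁻¹ := by
          rw [← ha h, ← mul_assoc, ← map_mul σ a⁻¹, inv_mul_cancel, map_one, one_mul]

theorem mem_scalarSub {σ : Q →* Module.End k U} {g : Q} :
    g ∈ scalarSub σ ↔ ∀ h, σ g * σ h = σ h * σ g := Iff.rfl

instance scalarSub_normal (σ : Q →* Module.End k U) : (scalarSub σ).Normal where
  conj_mem g hg n := by
    have h1 : σ (n * g * n⁻¹) = σ g := by
      rw [map_mul, map_mul, ← hg n, mul_assoc, ← map_mul, mul_inv_cancel, map_one, mul_one]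
    intro h
    rw [h1]
    exact hg h

theorem mem_scalarSub_of_smul {σ : Q →* Module.End k U} {g : Q} {c : k} (h : σ g = c • 1) :
    g ∈ scalarSub σ := fun x => by rw [h, smul_mul_assoc, mul_smul_comm, one_mul, mul_one]

theorem mem_scalarSub_of_central (σ : Q →* Module.End k U) {g : Q} (h : ∀ x, g * x = x * g) :
    g ∈ scalarSub σ := fun x => by rw [← map_mul, ← map_mul, h]

variable [IsAlgClosed k] [FiniteDimensional k U] [Nontrivial U]

theorem exists_smul_of_mem {σ : Q →* Module.End k U} (hσ : IsIrred σ) {g : Q}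
    (hg : g ∈ scalarSub σ) : ∃ c : k, σ g = c • 1 :=
  hσ.exists_scalar _ hg

/-- Elements outside the scalar subgroup have trace zero. -/
theorem trace_eq_zero {σ : Q →* Module.End k U} (hσ : IsIrred σ)
    (hcl : ∀ a b, a * b * a⁻¹ * b⁻¹ ∈ scalarSub σ) {g : Q} (hg : g ∉ scalarSub σ) :
    LinearMap.trace k U (σ g) = 0 := by
  obtain ⟨h, hh⟩ : ∃ h, σ g * σ h ≠ σ h * σ g := by
    by_contra hall
    push Not at hall
    exact hg hall
  obtain ⟨c, hc⟩ := exists_smul_of_mem hσ (hcl h g)
  have h1 : σ h * σ g * σ h⁻¹ = c • σ g := by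
    calc σ h * σ g * σ h⁻¹ = σ (h * g * h⁻¹ * g⁻¹) * σ g := by
          rw [← map_mul, ← map_mul, ← map_mul, inv_mul_cancel_right]
      _ = c • σ g := by rw [hc, smul_mul_assoc, one_mul]
  have h2 := congrArg (LinearMap.trace k U) h1
  rw [map_smul, LinearMap.trace_mul_comm, ← mul_assoc, ← map_mul, inv_mul_cancel, map_one, one_mul,
    smul_eq_mul] at h2
  rcases eq_or_ne c 1 with rfl | hc1
  · refine absurd ?_ hh
    rw [one_smul] at h1
    conv_lhs => rw [← h1]
    rw [mul_assoc, ← map_mul σ h⁻¹ h, inv_mul_cancel, map_one, mul_one]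
  · have h3 : (c - 1) * LinearMap.trace k U (σ g) = 0 := by rw [sub_mul, one_mul, ← h2, sub_self]
    exact (mul_eq_zero.1 h3).resolve_left (sub_ne_zero.2 hc1)

variable [Fintype Q]

/-- Every operator is a combination of one element from each coset. -/
theorem span_out_eq_top {σ : Q →* Module.End k U} (hσ : IsIrred σ)
    (hQ : (Fintype.card Q : k) ≠ 0) :
    ⊤ ≤ Submodule.span k (Set.range fun e : Q ⧸ scalarSub σ => σ e.out) := by
  intro h _
  have hd := finrank_ne_zero σ hσ hQ
  have hsum := sum_trace_smul σ hσ hQ h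
  have hne : (Fintype.card Q : k) / (finrank k U : k) ≠ 0 := div_ne_zero hQ hd
  rw [← inv_smul_smul₀ hne h, ← hsum]
  refine Submodule.smul_mem _ _ (Submodule.sum_mem _ fun g _ => Submodule.smul_mem _ _ ?_)
  obtain ⟨r, hr⟩ := QuotientGroup.mk_out_eq_mul (scalarSub σ) g
  obtain ⟨c, hc⟩ := exists_smul_of_mem hσ (inv_mem r.2)
  have : σ g = c • σ (Quotient.out (QuotientGroup.mk g : Q ⧸ scalarSub σ)) := by
    calc σ g = σ (Quotient.out (QuotientGroup.mk g : Q ⧸ scalarSub σ)) * σ (r : Q)⁻¹ := by
          rw [← map_mul, hr, mul_inv_cancel_right]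
      _ = _ := by rw [hc, mul_smul_comm, mul_one]
  rw [this]
  exact Submodule.smul_mem _ _ (Submodule.subset_span ⟨_, rfl⟩)

/-- The scalar subgroup has index `d ^ 2`. -/
theorem index_scalarSub {σ : Q →* Module.End k U} (hσ : IsIrred σ) (hQ : (Fintype.card Q : k) ≠ 0)
    (hcl : ∀ a b, a * b * a⁻¹ * b⁻¹ ∈ scalarSub σ) :
    (scalarSub σ).index = finrank k U * finrank k U := by
  classical
  letI := Fintype.ofFinite (Q ⧸ scalarSub σ)
  have hd := finrank_ne_zero σ hσ hQ
  have hli : LinearIndependent k fun e : Q ⧸ scalarSub σ => σ e.out := by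
    rw [Fintype.linearIndependent_iff]
    intro c hc e
    have h := congrArg (fun F => LinearMap.trace k U (σ (e.out)⁻¹ * F)) hc
    simp only [Finset.mul_sum, mul_smul_comm, map_sum, map_smul, mul_zero, map_zero, smul_eq_mul] at h
    rw [Finset.sum_eq_single e] at h
    · rw [← map_mul, inv_mul_cancel, map_one, LinearMap.trace_one] at h
      exact (mul_eq_zero.1 h).resolve_right hd
    · intro f _ hfe
      rw [← map_mul, trace_eq_zero hσ hcl, mul_zero]
      intro hmem
      refine hfe ?_
      have h1 : (QuotientGroup.mk e.out : Q ⧸ scalarSub σ) = QuotientGroup.mk f.out :=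
        QuotientGroup.eq.2 hmem
      rw [QuotientGroup.out_eq', QuotientGroup.out_eq'] at h1
      exact h1.symm
    · simp
  rw [Subgroup.index, Nat.card_eq_fintype_card,
    ← Module.finrank_eq_card_basis (Basis.mk hli (span_out_eq_top hσ hQ)), Module.finrank_linearMap]

end Cfsg.Agent.Lib.ShultGross
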