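import Cfsg.Agent.Lib.HallHigmanB.Select

/-!
# A minimal moved invariant `q`-subgroup, and transfer of fixed cosets
-/

set_option autoImplicit false

namespace Cfsg.Agent.Lib.ShultGross

open Subgroup
open Cfsg.Agent.Lib
open Cfsg.Agent.Lib.HallHigmanB (centralizer_zpowers_eq_singleton)

variable {H : Type*} [Group H] [Finite H] {p : ℕ} [Fact p.Prime]

/-- The minimal configuration. -/
theorem exists_moved_minimal {O : Subgroup H} {x y : H} (hxO : x ∈ normalizer (O : Set H))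
    (hyx : y ∈ zpowers x) {n : ℕ} (hxn : x ^ p ^ n = 1) (hO : (Nat.card O).Coprime p)
    (hy : ¬ O ≤ centralizer {y}) :
    ∃ (q : ℕ) (Q : Subgroup H), q.Prime ∧ q ≠ p ∧ Q ≤ O ∧ IsPGroup q Q ∧
      x ∈ normalizer (Q : Set H) ∧ ⁅⁅Q, Q⁆, Q⁆ = ⊥ ∧ ⁅Q, zpowers y⁆ = Q ∧ Q ≠ ⊥ := by
  classical
  set A := zpowers x with hA
  have hAO : A ≤ normalizer (O : Set H) := zpowers_le.2 hxO
  have hcop : (Nat.card A).Coprime (Nat.card O) := by
    rw [hA, Nat.card_zpowers]
    exact ((hO.symm.pow_left n).coprime_dvd_left (orderOf_dvd_of_pow_eq_one hxn))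
  have hsol : Group.IsSolvable A := inferInstance
  -- some invariant Sylow subgroup is moved
  obtain ⟨q, hq, P, hP, hPy⟩ : ∃ q : ℕ, ∃ _ : Fact q.Prime, ∃ P : Sylow q O,
      A ≤ normalizer (((P : Subgroup O).map O.subtype : Subgroup H) : Set H) ∧
        ¬ (P : Subgroup O).map O.subtype ≤ centralizer {y} := by
    by_contra hall
    push Not at hall
    refine hy ?_
    have hdvd : Nat.card O ∣ Nat.card (O ⊓ centralizer {y} : Subgroup H) := by
      rw [Nat.dvd_iff_prime_pow_dvd_dvd]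
      intro q k hq hk
      haveI := Fact.mk hq
      obtain ⟨P, hP⟩ := Coprime.exists_invariant_sylow (p := q) hAO hcop (Or.inl hsol)
      refine dvd_trans ?_ (card_dvd_of_le (le_inf (map_subtype_le (P : Subgroup O))
        (hall q ⟨hq⟩ P hP)))
      rw [card_map_of_injective O.subtype_injective]
      exact P.pow_dvd_card_of_pow_dvd_card hk
    have := eq_of_le_of_card_ge (inf_le_left : O ⊓ centralizer {y} ≤ O)
      (Nat.le_of_dvd Nat.card_pos hdvd)
    exact this.ge.trans inf_le_right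
  have hqp : q ≠ p := by
    rintro rfl
    refine hPy ?_
    have hP0 : (P : Subgroup O) = ⊥ := by
      obtain ⟨k, hk⟩ := P.2.exists_card_eq
      rcases Nat.eq_zero_or_pos k with h0 | h0
      · exact eq_bot_of_card_eq _ (by rw [hk, h0, pow_zero])
      · exfalso
        refine (Nat.Prime.coprime_iff_not_dvd hq.out).1 hO.symm ?_
        exact (dvd_pow_self q h0.ne').trans (hk ▸ card_subgroup_dvd_card _)
    rw [hP0, Subgroup.map_bot]
    exact bot_le
  obtain ⟨Q, ⟨hQO, hQp, hQx, hQy⟩, hmin⟩ := (wellFounded_lt (α := Subgroup H)).has_min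
    {Q | Q ≤ O ∧ IsPGroup q Q ∧ x ∈ normalizer (Q : Set H) ∧ ¬ Q ≤ centralizer {y}}
    ⟨(P : Subgroup O).map O.subtype, map_subtype_le _, P.2.map _, hP (mem_zpowers x), hPy⟩
  have hmin' : ∀ R, R ≤ Q → R ≠ Q → x ∈ normalizer (R : Set H) → R ≤ centralizer {y} := by
    intro R h1 h2 h3
    by_contra h4
    exact hmin R ⟨h1.trans hQO, hQp.to_le h1, h3, h4⟩ (lt_of_le_of_ne h1 h2)
  have hAQ : A ≤ normalizer (Q : Set H) := zpowers_le.2 hQx
  have hyQ : zpowers y ≤ normalizer (Q : Set H) := (zpowers_le.2 hyx).trans hAQ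
  have hyA : A ≤ normalizer (zpowers y : Set H) := by
    refine le_trans ?_ (centralizer_le_normalizer _)
    rw [centralizer_zpowers_eq_singleton, hA, zpowers_le, mem_centralizer_singleton_iff]
    obtain ⟨i, rfl⟩ := mem_zpowers_iff.1 hyx
    exact (Commute.zpow_self x i).eq.symm
  have hcopQ : (Nat.card (zpowers y)).Coprime (Nat.card Q) :=
    (hcop.coprime_dvd_left (card_dvd_of_le (zpowers_le.2 hyx))).coprime_dvd_right (card_dvd_of_le hQO)
  have hQeq : ⁅Q, zpowers y⁆ = Q := by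
    by_contra hne
    have h1 := hmin' _ (Coprime.commutator_le_of_le_normalizer hyQ) hne
      (Coprime.le_normalizer_commutator hAQ hyA (mem_zpowers x))
    have h2 : ⁅⁅Q, zpowers y⁆, zpowers y⁆ = ⊥ := by
      rw [commutator_eq_bot_iff_le_centralizer, centralizer_zpowers_eq_singleton]
      exact h1
    have h3 := Coprime.commutator_eq_bot_of_commutator_commutator_eq_bot hyQ hcopQ h2
    rw [commutator_eq_bot_iff_le_centralizer, centralizer_zpowers_eq_singleton] at h3
    exact hQy h3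
  haveI := hq
  have hQne : Q ≠ ⊥ := fun h => hQy (h ▸ bot_le)
  have hD : ⁅Q, Q⁆ < Q := Coprime.commutator_lt_of_isPGroup hQp hQp le_normalizer hQne
  have hDy : ⁅Q, Q⁆ ≤ centralizer {y} :=
    hmin' _ hD.le hD.ne (Coprime.le_normalizer_commutator hAQ hAQ (mem_zpowers x))
  have hDQ : ⁅⁅Q, Q⁆, Q⁆ = ⊥ := by
    have h1 : ⁅⁅zpowers y, ⁅Q, Q⁆⁆, Q⁆ = ⊥ := by
      rw [show ⁅zpowers y, ⁅Q, Q⁆⁆ = ⊥ by
        rw [commutator_comm, commutator_eq_bot_iff_le_centralizer, centralizer_zpowers_eq_singleton]; exact hDy,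
        commutator_bot_left]
    have h2 : ⁅⁅⁅Q, Q⁆, Q⁆, zpowers y⁆ = ⊥ := by
      rw [commutator_eq_bot_iff_le_centralizer, centralizer_zpowers_eq_singleton]
      exact ((commutator_mono hD.le le_rfl)).trans hDy
    have h3 := commutator_commutator_eq_bot_of_rotate h1 h2
    rw [hQeq, commutator_comm] at h3
    exact h3
  exact ⟨q, Q, hq.out, hqp, hQO, hQp, hQx, hDQ, hQeq, hQne⟩

omit [Finite H] in
theorem normalizerHom_pow_apply {Q : Subgroup H} {y : H} (hy : y ∈ normalizer (Q : Set H)) (i : ℕ)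
    (a : Q) : (((normalizerMonoidHom Q ⟨y, hy⟩) ^ i) a : H) = y ^ i * a * (y ^ i)⁻¹ := by
  rw [← map_pow, normalizerMonoidHom_apply_apply_coe]
  rfl

/-- If `Q = [Q, y]`, then modulo an invariant subgroup with abelian quotient `y` fixes no nontrivial coset. -/
theorem mem_of_fixed_coset {Q : Subgroup H} {y : H} (hy : y ∈ normalizer (Q : Set H))
    (hQy : ⁅Q, zpowers y⁆ = Q) (K : Subgroup Q) [K.Normal]
    (hK : ∀ a b : Q, a * b * a⁻¹ * b⁻¹ ∈ K) (hKy : ∀ g ∈ K, normalizerMonoidHom Q ⟨y, hy⟩ g ∈ K)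
    {g : Q} (hg : g⁻¹ * normalizerMonoidHom Q ⟨y, hy⟩ g ∈ K) : g ∈ K := by
  classical
  set φ : MulAut Q := normalizerMonoidHom Q ⟨y, hy⟩ with hφ
  let f : Q →* Q ⧸ K := QuotientGroup.mk' K
  have hcomm : ∀ u v : Q ⧸ K, u * v = v * u := by
    intro u v
    obtain ⟨a, rfl⟩ := QuotientGroup.mk'_surjective K u
    obtain ⟨b, rfl⟩ := QuotientGroup.mk'_surjective K v
    have h : f (a * b * a⁻¹ * b⁻¹) = 1 := (QuotientGroup.eq_one_iff _).2 (hK a b)
    rwa [map_mul, map_mul, map_mul, map_inv, map_inv, mul_inv_eq_one, mul_inv_eq_iff_eq_mul] at h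
  letI : CommGroup (Q ⧸ K) := { mul_comm := hcomm }
  let ψ : Q →* Q ⧸ K :=
    { toFun := fun a => f (φ a) / f a
      map_one' := by simp
      map_mul' := fun a b => by simp only [map_mul]; exact mul_div_mul_comm _ _ _ _ }
  have hstep : ∀ (i : ℕ) (a : Q), f ((φ ^ i) a) / f a ∈ ψ.range := by
    intro i
    induction i with
    | zero => intro a; simp [one_mem]
    | succ i ih =>
      intro a
      rw [pow_succ', MulAut.mul_apply, ← div_mul_div_cancel (f (φ ((φ ^ i) a))) (f ((φ ^ i) a)) (f a)]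
      exact mul_mem ⟨(φ ^ i) a, rfl⟩ (ih a)
  have htop : ψ.range = ⊤ := by
    rw [eq_top_iff]
    intro z _
    obtain ⟨a, rfl⟩ := QuotientGroup.mk'_surjective K z
    have hle : Q ≤ (ψ.range.comap f).map Q.subtype := by
      conv_lhs => rw [← hQy]
      rw [commutator_le]
      intro b hb c hc
      obtain ⟨i, rfl⟩ := (mem_powers_iff_mem_zpowers (x := y) (y := c)).2 hc
      refine ⟨⟨b, hb⟩ * ((φ ^ i) ⟨b, hb⟩)⁻¹, ?_, ?_⟩
      · have h1 := inv_mem (hstep i ⟨b, hb⟩)
        rw [inv_div] at h1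
        rw [SetLike.mem_coe, mem_comap, map_mul, map_inv, ← div_eq_mul_inv]
        exact h1
      · rw [coe_subtype, coe_mul, coe_inv, hφ, normalizerHom_pow_apply, commutatorElement_def]
        group
    obtain ⟨a', ha', he⟩ := hle a.2
    rw [show a = a' from Subtype.ext he.symm]
    exact ha'
  have hker : ψ.ker = K := by
    have hle : K ≤ ψ.ker := fun a ha => by
      show f (φ a) / f a = 1
      rw [show f a = 1 from (QuotientGroup.eq_one_iff _).2 ha,
        show f (φ a) = 1 from (QuotientGroup.eq_one_iff _).2 (hKy a ha), div_one]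
    have h1 : ψ.ker.index = K.index := by
      rw [index_ker, htop, card_top]
      rfl
    refine (eq_of_le_of_card_ge hle ?_).symm
    have h2 := card_mul_index ψ.ker
    have h3 := card_mul_index K
    rw [h1] at h2
    exact le_of_eq (Nat.eq_of_mul_eq_mul_right
      (Nat.pos_of_ne_zero index_ne_zero_of_finite) (h2.trans h3.symm))
  rw [← hker]
  show f (φ g) / f g = 1
  rw [div_eq_one]
  exact (QuotientGroup.eq.2 hg).symm

omit [Finite H] in
/-- An automorphism of a finite group without fixed points moves every coset of an invariant subgroup. -/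
theorem mem_of_fpf {Q : Type*} [Group Q] [Finite Q] {α : MulAut Q} (hα : ∀ g, α g = g → g = 1)
    {K : Subgroup Q} (hK : ∀ g ∈ K, α g ∈ K) {g : Q} (hg : g⁻¹ * α g ∈ K) : g ∈ K := by
  have hinj : Function.Injective fun m : K => (⟨(m : Q)⁻¹ * α m,
      mul_mem (inv_mem m.2) (hK _ m.2)⟩ : K) := by
    intro a b h
    have h1 : (a : Q)⁻¹ * α a = (b : Q)⁻¹ * α b := congrArg Subtype.val h
    refine Subtype.ext (mul_inv_eq_one.1 (hα _ ?_))
    rw [map_mul, map_inv]
    calc α a * (α b)⁻¹ = a * ((a : Q)⁻¹ * α a) * (α b)⁻¹ := by group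
      _ = a * ((b : Q)⁻¹ * α b) * (α b)⁻¹ := by rw [h1]
      _ = a * (b : Q)⁻¹ := by group
  obtain ⟨m, hm⟩ := Finite.surjective_of_injective hinj ⟨_, hg⟩
  have h1 : (m : Q)⁻¹ * α m = g⁻¹ * α g := congrArg Subtype.val hm
  have : g * (m : Q)⁻¹ = 1 := hα _ (by
    rw [map_mul, map_inv]
    calc α g * (α m)⁻¹ = g * (g⁻¹ * α g) * (α m)⁻¹ := by group
      _ = g * ((m : Q)⁻¹ * α m) * (α m)⁻¹ := by rw [h1]
      _ = g * (m : Q)⁻¹ := by group)
  rw [mul_inv_eq_one.1 this]
  exact m.2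

end Cfsg.Agent.Lib.ShultGross
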