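import Cfsg.Agent.Lib.ShultGross.Core

/-!
# Twisted commutants of an operator of finite order
-/

set_option autoImplicit false
set_option linter.style.haveILetI false

namespace Cfsg.Agent.Lib.ShultGross

open Module
open Cfsg.Agent.Lib.HallHigmanB (IsIrred pow_mul_sigma)

section Proj

variable {k X : Type*} [Field k] [AddCommGroup X] [Module k X] {N : ℕ} [NeZero N]

/-- The projection onto the `χ a` eigenspace of an operator of order dividing `N`. -/
noncomputable def eigProj (B : Module.End k X) (χ : AddChar (ZMod N) k) (a : ZMod N) :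
    Module.End k X :=
  (N : k)⁻¹ • ∑ i : ZMod N, χ (-(i * a)) • B ^ i.val

variable {B : Module.End k X} (χ : AddChar (ZMod N) k)

theorem mul_eigProj (hB : B ^ N = 1) (a : ZMod N) :
    B * eigProj B χ a = χ a • eigProj B χ a := by
  have hval : ∀ i : ZMod N, B * B ^ i.val = B ^ (i + 1).val := fun i => by
    rw [← pow_succ', pow_eq_pow_mod (i.val + 1) hB, ← ZMod.val_natCast, Nat.cast_add, Nat.cast_one,
      ZMod.natCast_zmod_val]
  simp only [eigProj, mul_smul_comm, Finset.mul_sum, hval, smul_comm (χ a), Finset.smul_sum, smul_smul]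
  refine Fintype.sum_equiv (Equiv.addRight 1) _ _ fun i => ?_
  simp only [Equiv.coe_addRight]
  rw [mul_assoc, ← AddChar.map_add_eq_mul, show -((i + 1) * a) + a = -(i * a) by ring]

theorem eigProj_comm (a : ZMod N) (x : X) : eigProj B χ a (B x) = B (eigProj B χ a x) := by
  have : Commute (eigProj B χ a) B :=
    (Commute.sum_left _ _ _ fun i _ => ((Commute.refl B).pow_left _).smul_left _).smul_left _
  exact LinearMap.congr_fun this.eq x

theorem eigProj_eigenvector (hχ : χ.IsPrimitive) (hN : (N : k) ≠ 0) {x : X} {b : ZMod N}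
    (hx : B x = χ b • x) (a : ZMod N) : eigProj B χ a x = if a = b then x else 0 := by
  have hpow : ∀ n : ℕ, (B ^ n) x = χ ((n : ZMod N) * b) • x := by
    intro n
    induction n with
    | zero => simp
    | succ n ih =>
      rw [pow_succ', Module.End.mul_apply, ih, map_smul, hx, smul_smul, ← AddChar.map_add_eq_mul]
      push_cast
      ring_nf
  simp only [eigProj, LinearMap.smul_apply, LinearMap.coe_sum, Finset.sum_apply, hpow,
    ZMod.natCast_zmod_val, smul_smul, ← AddChar.map_add_eq_mul, ← Finset.sum_smul]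
  have h1 : (∑ i : ZMod N, χ (-(i * a) + i * b)) = if a = b then (N : k) else 0 := by
    rw [show (∑ i : ZMod N, χ (-(i * a) + i * b)) = ∑ i : ZMod N, χ (i * (b - a)) from
      Finset.sum_congr rfl fun i _ => by ring_nf, AddChar.sum_mulShift _ hχ]
    simp [sub_eq_zero, eq_comm, ZMod.card]
  rw [h1]
  split
  · rw [inv_mul_cancel₀ hN, one_smul]
  · rw [mul_zero, zero_smul]

theorem sum_eigProj (hχ : χ.IsPrimitive) (hN : (N : k) ≠ 0) : ∑ a, eigProj B χ a = 1 := by
  simp only [eigProj, ← Finset.smul_sum]
  rw [Finset.sum_comm]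
  simp only [← Finset.sum_smul]
  rw [Finset.sum_eq_single 0]
  · simp only [zero_mul, neg_zero, AddChar.map_zero_eq_one, Finset.sum_const, Finset.card_univ,
      ZMod.card, nsmul_eq_mul, mul_one, ZMod.val_zero, pow_zero, smul_smul]
    rw [inv_mul_cancel₀ hN, one_smul]
  · intro i _ hi
    rw [show (∑ a : ZMod N, χ (-(i * a))) = ∑ a : ZMod N, χ (a * (-i)) from
      Finset.sum_congr rfl fun a _ => by ring_nf, AddChar.sum_mulShift _ hχ,
      if_neg (neg_ne_zero.2 hi), Nat.cast_zero, zero_smul]
  · simp

theorem eigenspace_le_range (hχ : χ.IsPrimitive) (hN : (N : k) ≠ 0) (a : ZMod N) :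
    Module.End.eigenspace B (χ a) ≤ LinearMap.range (eigProj B χ a) := fun x hx =>
  ⟨x, by rw [eigProj_eigenvector χ hχ hN (Module.End.mem_eigenspace_iff.1 hx), if_pos rfl]⟩

theorem eigProj_mem (hB : B ^ N = 1) (a : ZMod N) (x : X) :
    eigProj B χ a x ∈ Module.End.eigenspace B (χ a) :=
  Module.End.mem_eigenspace_iff.2 (LinearMap.congr_fun (mul_eigProj χ hB a) x)

theorem sum_finrank_eigenspace [FiniteDimensional k X] (hχ : χ.IsPrimitive) (hN : (N : k) ≠ 0)
    (hB : B ^ N = 1) : ∑ a, finrank k (Module.End.eigenspace B (χ a)) = finrank k X := by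
  let e : X ≃ₗ[k] ∀ a, Module.End.eigenspace B (χ a) := LinearEquiv.ofBijective
    (LinearMap.pi fun a => (eigProj B χ a).codRestrict _ (eigProj_mem χ hB a)) (by
      constructor
      · intro x y h
        have : ∀ a, eigProj B χ a x = eigProj B χ a y := fun a => congrArg Subtype.val (congrFun h a)
        have h1 := LinearMap.congr_fun (sum_eigProj (B := B) χ hχ hN) x
        have h2 := LinearMap.congr_fun (sum_eigProj (B := B) χ hχ hN) y
        simp only [LinearMap.coe_sum, Finset.sum_apply, Module.End.one_apply] at h1 h2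
        rw [← h1, ← h2, Finset.sum_congr rfl fun a _ => this a]
      · intro f
        refine ⟨∑ b, (f b : X), funext fun a => Subtype.ext ?_⟩
        simp only [LinearMap.pi_apply, LinearMap.codRestrict_apply, map_sum,
          AddSubmonoidClass.coe_finsetSum]
        rw [Finset.sum_congr rfl fun b _ =>
          eigProj_eigenvector χ hχ hN (Module.End.mem_eigenspace_iff.1 (f b).2) a]
        simp)
  rw [e.finrank_eq, Module.finrank_pi_fintype]

end Proj

variable {k U Q : Type*} [Field k] [IsAlgClosed k] [AddCommGroup U] [Module k U]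
  [FiniteDimensional k U] [Nontrivial U] [Group Q] [Fintype Q]

/-- Orbit representatives: a set of elements meeting every nontrivial orbit of `θ` on the cosets, of
size `(index - 1) / N`. -/
theorem exists_orbit_reps {R : Subgroup Q} [R.Normal] (θ : MulAut Q) {N : ℕ} (hN : 0 < N)
    (hθN : θ ^ N = 1) (hR : ∀ g ∈ R, θ g ∈ R)
    (hfree : ∀ i, 0 < i → i < N → ∀ g, g⁻¹ * (θ ^ i) g ∈ R → g ∈ R) :
    ∃ S : Finset Q, S.card * N + 1 = R.index ∧
      ∀ g, g ∉ R → ∃ s ∈ S, ∃ i, g⁻¹ * (θ ^ i) s ∈ R := by
  classical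
  have hpow : ∀ (i : ℕ) (g : Q), g ∈ R → (θ ^ i) g ∈ R := fun i => by
    induction i with
    | zero => exact fun g hg => hg
    | succ i ih => intro g hg; rw [pow_succ', MulAut.mul_apply]; exact hR _ (ih g hg)
  let act : ℕ → Q ⧸ R → Q ⧸ R := fun i => QuotientGroup.map R R (θ ^ i).toMonoidHom
    (fun g hg => Subgroup.mem_comap.2 (hpow i g hg))
  have act_mk : ∀ i g, act i (QuotientGroup.mk g) = QuotientGroup.mk ((θ ^ i) g) := fun i g => rfl
  have act_add : ∀ i j e, act i (act j e) = act (i + j) e := fun i j e => by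
    obtain ⟨g, rfl⟩ := QuotientGroup.mk_surjective e
    rw [act_mk, act_mk, act_mk, pow_add, MulAut.mul_apply]
  have act_mod : ∀ i e, act (i % N) e = act i e := fun i e => by
    obtain ⟨g, rfl⟩ := QuotientGroup.mk_surjective e
    rw [act_mk, act_mk, ← pow_eq_pow_mod i hθN]
  have act_one : ∀ i, act i 1 = 1 := fun i => map_one (QuotientGroup.map R R _ _)
  have act_zero : ∀ e, act 0 e = e := fun e => by
    obtain ⟨g, rfl⟩ := QuotientGroup.mk_surjective e; rfl
  have act_free : ∀ i e, 0 < i → i < N → act i e = e → e = 1 := by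
    intro i e hi hiN he
    obtain ⟨g, rfl⟩ := QuotientGroup.mk_surjective e
    rw [act_mk] at he
    exact (QuotientGroup.eq_one_iff g).2 (hfree i hi hiN g (QuotientGroup.eq.1 he.symm))
  let rel : Setoid (Q ⧸ R) :=
    { r := fun e f => ∃ i, act i e = f
      iseqv := ⟨fun e => ⟨0, act_zero e⟩, fun {e f} ⟨i, h⟩ => ⟨i * (N - 1), by
        rw [← h, act_add, ← act_mod, show i * (N - 1) + i = i * N by
          obtain ⟨M, rfl⟩ : ∃ M, N = M + 1 := ⟨N - 1, by omega⟩
          rw [Nat.add_sub_cancel]; ring, Nat.mul_mod_left, act_zero]⟩,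
        fun {e f g} ⟨i, h⟩ ⟨j, h'⟩ => ⟨j + i, by rw [← act_add, h, h']⟩⟩ }
  let rep : Q ⧸ R → Q ⧸ R := fun e => (Quotient.mk rel e).out
  have hrep : ∀ e, ∃ i, act i (rep e) = e := fun e => Quotient.mk_out (s := rel) e
  letI := Fintype.ofFinite (Q ⧸ R)
  set E := (Finset.univ : Finset (Q ⧸ R)).erase 1 with hE
  have hrep1 : ∀ e ∈ E, rep e ≠ 1 := fun e he h => by
    obtain ⟨i, hi⟩ := hrep e
    rw [h, act_one] at hi
    exact Finset.ne_of_mem_erase he hi.symm
  refine ⟨(E.image rep).image Quotient.out, ?_, ?_⟩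
  · rw [Finset.card_image_of_injective _ Quotient.out_injective, Subgroup.index,
      Nat.card_eq_fintype_card,
      ← Finset.card_univ, ← Finset.card_erase_add_one (Finset.mem_univ (1 : Q ⧸ R)), ← hE]
    congr 1
    suffices h : (E.image rep ×ˢ Finset.range N).card = E.card by
      rwa [Finset.card_product, Finset.card_range] at h
    refine Finset.card_bij (fun x _ => act x.2 x.1) (fun x hx => ?_) (fun x hx y hy h => ?_)
      fun e he => ?_
    · simp only [Finset.mem_product, Finset.mem_image, Finset.mem_range] at hx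
      obtain ⟨⟨e, he, hex⟩, -⟩ := hx
      refine Finset.mem_erase.2 ⟨fun h1 => hrep1 e he ?_, Finset.mem_univ _⟩
      have h2 := act_add (x.2 * (N - 1)) x.2 x.1
      rw [h1, act_one, ← act_mod (x.2 * (N - 1) + x.2), show x.2 * (N - 1) + x.2 = x.2 * N by
        obtain ⟨M, rfl⟩ : ∃ M, N = M + 1 := ⟨N - 1, by omega⟩
        rw [Nat.add_sub_cancel]; ring, Nat.mul_mod_left, act_zero] at h2
      rw [hex, ← h2]
    · simp only [Finset.mem_product, Finset.mem_image, Finset.mem_range] at hx hy
      obtain ⟨⟨e, he, hex⟩, hx2⟩ := hx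
      obtain ⟨⟨f, hf, hfy⟩, hy2⟩ := hy
      have hxy : x.1 = y.1 := by
        rw [← hex, ← hfy]
        show Quotient.out _ = Quotient.out _
        congr 1
        refine Quotient.sound (s := rel) ?_
        obtain ⟨i, hi⟩ := hrep e
        obtain ⟨j, hj⟩ := hrep f
        rw [hex] at hi
        rw [hfy] at hj
        refine Setoid.trans (Setoid.symm (show rel x.1 e from ⟨i, hi⟩)) ?_
        refine Setoid.trans (show rel x.1 (act x.2 x.1) from ⟨_, rfl⟩) ?_
        rw [h]
        exact Setoid.trans (Setoid.symm (show rel y.1 (act y.2 y.1) from ⟨_, rfl⟩)) ⟨j, hj⟩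
      refine Prod.ext hxy ?_
      have hx1 : x.1 ≠ 1 := hex ▸ hrep1 e he
      rw [← hxy] at h
      have key : ∀ a b, a < b → b < N → act a x.1 ≠ act b x.1 := fun a b hab hb heq => by
        have h1 := congrArg (act (N - a)) heq
        rw [act_add, act_add, ← act_mod (N - a + a), show N - a + a = N by omega, Nat.mod_self,
          act_zero, ← act_mod (N - a + b), show N - a + b = N + (b - a) by omega, Nat.add_mod_left,
          Nat.mod_eq_of_lt (by omega)] at h1
        exact hx1 (act_free (b - a) _ (by omega) (by omega) h1.symm)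
      rcases lt_trichotomy x.2 y.2 with hlt | heq | hgt
      · exact absurd h (key _ _ hlt hy2)
      · exact heq
      · exact absurd h.symm (key _ _ hgt hx2)
    · obtain ⟨i, hi⟩ := hrep e
      refine ⟨(rep e, i % N), Finset.mem_product.2 ⟨Finset.mem_image_of_mem _ he,
        Finset.mem_range.2 (Nat.mod_lt _ hN)⟩, ?_⟩
      show act (i % N) (rep e) = e
      rw [act_mod, hi]
  · intro g hg
    have he : (QuotientGroup.mk g : Q ⧸ R) ∈ E :=
      Finset.mem_erase.2 ⟨fun h => hg ((QuotientGroup.eq_one_iff g).1 h), Finset.mem_univ _⟩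
    obtain ⟨i, hi⟩ := hrep (QuotientGroup.mk g : Q ⧸ R)
    refine ⟨_, Finset.mem_image_of_mem _ (Finset.mem_image_of_mem _ he), i, ?_⟩
    refine QuotientGroup.eq.1 ?_
    rw [← act_mk, QuotientGroup.out_eq', hi]

/-- The dimension theorem, with the spectrum: every eigenvalue except `1` is simple. -/
theorem eigen_of_free {σ : Q →* Module.End k U} (hσ : IsIrred σ)
    (hQ : (Fintype.card Q : k) ≠ 0) (hcl : ∀ a b, a * b * a⁻¹ * b⁻¹ ∈ scalarSub σ)
    {A : Module.End k U} {θ : MulAut Q} {N : ℕ} [NeZero N] (hN2 : 2 ≤ N) {ζ : k}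
    (hζ : IsPrimitiveRoot ζ N) (hA : ∀ g, A * σ g = σ (θ g) * A) (hAN : A ^ N = 1)
    (hθN : θ ^ N = 1)
    (hfree : ∀ i, 0 < i → i < N → ∀ g, g⁻¹ * (θ ^ i) g ∈ scalarSub σ → g ∈ scalarSub σ)
    (hfix : ∀ u, A u = u → u = 0) :
    (finrank k U + 1 = N ∧ ∀ a : ZMod N, a ≠ 0 →
      finrank k (Module.End.eigenspace A (AddChar.zmodChar N hζ.pow_eq_one a)) = 1) ∨
      finrank k U = 1 := by
  classical
  haveI := hζ.neZero'
  have hN : (N : k) ≠ 0 := NeZero.ne _
  let χ : AddChar (ZMod N) k := AddChar.zmodChar N hζ.pow_eq_one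
  have hχ : χ.IsPrimitive := AddChar.zmodChar_primitive_of_primitive_root N hζ
  have hAA : A * A ^ (N - 1) = 1 := by rw [← pow_succ', Nat.sub_add_cancel (by omega), hAN]
  have hAA' : A ^ (N - 1) * A = 1 := by rw [← pow_succ, Nat.sub_add_cancel (by omega), hAN]
  have hAinv : ∀ g, σ (θ g) = A * σ g * A ^ (N - 1) := fun g => by
    rw [hA, mul_assoc, hAA, mul_one]
  -- conjugation by `A`
  let B : Module.End k (Module.End k U) := LinearMap.mulLeft k A * LinearMap.mulRight k (A ^ (N - 1))
  have hBapp : ∀ F, B F = A * F * A ^ (N - 1) := fun F => (mul_assoc _ _ _).symm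
  have hBpow : ∀ (i : ℕ) (F : Module.End k U), (B ^ i) F = A ^ i * F * (A ^ (N - 1)) ^ i := by
    intro i F
    induction i with
    | zero => simp
    | succ i ih =>
      rw [pow_succ', Module.End.mul_apply, ih, hBapp, pow_succ' A, pow_succ (A ^ (N - 1))]
      simp only [mul_assoc]
  have hBN : B ^ N = 1 := LinearMap.ext fun F => by
    rw [hBpow, hAN, ← pow_mul, mul_comm, pow_mul, hAN, one_pow, one_mul, mul_one, Module.End.one_apply]
  have hBσ : ∀ (i : ℕ) (g : Q), (B ^ i) (σ g) = σ ((θ ^ i) g) := by
    intro i g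
    induction i with
    | zero => simp
    | succ i ih => rw [pow_succ', Module.End.mul_apply, ih, hBapp, ← hAinv, pow_succ', MulAut.mul_apply]
  have hR : ∀ g ∈ scalarSub σ, θ g ∈ scalarSub σ := fun g hg => by
    obtain ⟨c, hc⟩ := exists_smul_of_mem hσ hg
    refine mem_scalarSub_of_smul (c := c) ?_
    rw [hAinv, hc, mul_smul_comm, mul_one, smul_mul_assoc, hAA]
  obtain ⟨S, hScard, hS⟩ := exists_orbit_reps θ (by omega) hθN hR hfree
  rw [index_scalarSub hσ hQ hcl] at hScard
  let m : ZMod N → ℕ := fun a => finrank k (Module.End.eigenspace A (χ a))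
  have htot : ∑ a, m a = finrank k U := sum_finrank_eigenspace χ hχ hN hAN
  -- upper bound
  have hupper : ∀ s : ZMod N, finrank k (Module.End.eigenspace B (χ s)) ≤
      S.card + if s = 0 then 1 else 0 := by
    intro s
    let T : Finset (Module.End k U) :=
      S.image (fun t => eigProj B χ s (σ t)) ∪ if s = 0 then {eigProj B χ s 1} else ∅
    have hle : Module.End.eigenspace B (χ s) ≤ Submodule.span k (T : Set (Module.End k U)) := by
      refine (eigenspace_le_range χ hχ hN s).trans ?_
      rw [LinearMap.range_eq_map, ← eq_top_iff.2 (span_out_eq_top hσ hQ), Submodule.map_span,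
        Submodule.span_le]
      rintro _ ⟨_, ⟨e, rfl⟩, rfl⟩
      simp only [SetLike.mem_coe]
      by_cases he : e.out ∈ scalarSub σ
      · obtain ⟨c, hc⟩ := exists_smul_of_mem hσ he
        rw [hc, map_smul]
        refine Submodule.smul_mem _ _ ?_
        rcases eq_or_ne s 0 with hs | hs
        · exact Submodule.subset_span (Finset.mem_union_right _ (by simp [hs]))
        · rw [eigProj_eigenvector χ hχ hN (b := 0) (by
            rw [hBapp, mul_one, hAA, AddChar.map_zero_eq_one, one_smul]) s, if_neg hs]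
          exact zero_mem _
      · obtain ⟨t, ht, i, hti⟩ := hS _ he
        obtain ⟨c, hc⟩ := exists_smul_of_mem hσ (inv_mem hti)
        have hσe : σ e.out = c • (B ^ i) (σ t) := by
          calc σ e.out = σ ((θ ^ i) t) * σ ((e.out⁻¹ * (θ ^ i) t)⁻¹) := by
                rw [← map_mul, mul_inv_rev, inv_inv, mul_inv_cancel_left]
            _ = c • (B ^ i) (σ t) := by rw [hc, mul_smul_comm, mul_one, hBσ]
        rw [hσe, map_smul]
        refine Submodule.smul_mem _ _ ?_
        have hcm : eigProj B χ s ((B ^ i) (σ t)) = (χ s) ^ i • eigProj B χ s (σ t) := by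
          clear hσe hc hti
          induction i with
          | zero => simp
          | succ i ih =>
            rw [pow_succ', Module.End.mul_apply, eigProj_comm, ← Module.End.mul_apply,
              mul_eigProj χ hBN, LinearMap.smul_apply, ih, smul_smul, pow_succ']
        rw [hcm]
        exact Submodule.smul_mem _ _ (Submodule.subset_span
          (Finset.mem_union_left _ (Finset.mem_image_of_mem _ ht)))
    refine (Submodule.finrank_mono hle).trans ((finrank_span_finset_le_card T).trans ?_)
    refine (Finset.card_union_le _ _).trans (add_le_add Finset.card_image_le ?_)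
    split <;> simp
  -- lower bound
  have hlower : ∀ s : ZMod N, ∑ a, m a * m (a + s) ≤ finrank k (Module.End.eigenspace B (χ s)) := by
    intro s
    let P : ∀ a : ZMod N, U →ₗ[k] Module.End.eigenspace A (χ a) := fun a =>
      (eigProj A χ a).codRestrict _ (eigProj_mem χ hAN a)
    let Ψ₀ : (∀ a, Module.End.eigenspace A (χ a) →ₗ[k] Module.End.eigenspace A (χ (a + s))) →ₗ[k]
        Module.End k U :=
      { toFun := fun F => ∑ a, (Submodule.subtype _).comp ((F a).comp (P a))
        map_add' := fun F G => by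
          simp only [Pi.add_apply, LinearMap.add_comp, LinearMap.comp_add, Finset.sum_add_distrib]
        map_smul' := fun c F => by
          simp only [Pi.smul_apply, LinearMap.smul_comp, LinearMap.comp_smul, Finset.smul_sum,
            RingHom.id_apply] }
    have hmem : ∀ F, Ψ₀ F ∈ Module.End.eigenspace B (χ s) := fun F => by
      rw [Module.End.mem_eigenspace_iff, hBapp]
      suffices h : A * Ψ₀ F = χ s • (Ψ₀ F * A) by
        rw [h, smul_mul_assoc, mul_assoc, hAA, mul_one]
      refine LinearMap.ext fun u => ?_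
      simp only [Ψ₀, LinearMap.coe_mk, AddHom.coe_mk, Module.End.mul_apply, LinearMap.smul_apply,
        LinearMap.coe_sum, Finset.sum_apply, map_sum, Finset.smul_sum, LinearMap.comp_apply,
        Submodule.subtype_apply]
      refine Finset.sum_congr rfl fun a _ => ?_
      have h1 : P a (A u) = χ a • P a u := Subtype.ext (by
        show eigProj A χ a (A u) = χ a • eigProj A χ a u
        rw [eigProj_comm, ← Module.End.mul_apply, mul_eigProj χ hAN, LinearMap.smul_apply])
      rw [h1, map_smul, Submodule.coe_smul, smul_smul,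
        Module.End.mem_eigenspace_iff.1 (F a (P a u)).2, ← AddChar.map_add_eq_mul, add_comm s a]
    let Ψ := Ψ₀.codRestrict _ hmem
    have hinj : Function.Injective Ψ := by
      rw [← LinearMap.ker_eq_bot, eq_bot_iff]
      intro F hF
      have hF' : Ψ₀ F = 0 := congrArg Subtype.val (LinearMap.mem_ker.1 hF)
      refine Submodule.mem_bot k |>.2 (funext fun b => LinearMap.ext fun u => Subtype.ext ?_)
      have h1 := LinearMap.congr_fun hF' (u : U)
      simp only [Ψ₀, LinearMap.coe_mk, AddHom.coe_mk, LinearMap.coe_sum, Finset.sum_apply,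
        LinearMap.comp_apply, LinearMap.zero_apply, Submodule.subtype_apply] at h1
      rw [Finset.sum_eq_single b] at h1
      · have h2 : P b u = u := Subtype.ext (by
          show eigProj A χ b u = u
          rw [eigProj_eigenvector χ hχ hN (Module.End.mem_eigenspace_iff.1 u.2), if_pos rfl])
        rw [h2] at h1
        exact h1
      · intro a _ hab
        have h2 : P a u = 0 := Subtype.ext (by
          show eigProj A χ a u = 0
          rw [eigProj_eigenvector χ hχ hN (Module.End.mem_eigenspace_iff.1 u.2), if_neg hab])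
        rw [h2, map_zero, Submodule.coe_zero]
      · simp
    refine le_of_eq_of_le ?_ (LinearMap.finrank_le_finrank_of_injective hinj)
    rw [Module.finrank_pi_fintype]
    exact Finset.sum_congr rfl fun a _ => (Module.finrank_linearMap _ _ _ _).symm
  -- equality everywhere
  have heq : ∀ s : ZMod N, ∑ a, m a * m (a + s) = S.card + if s = 0 then 1 else 0 := by
    have hle : ∀ s ∈ (Finset.univ : Finset (ZMod N)),
        ∑ a, m a * m (a + s) ≤ S.card + if s = 0 then 1 else 0 :=
      fun s _ => (hlower s).trans (hupper s)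
    have hsum : ∑ s, ∑ a, m a * m (a + s) = ∑ s : ZMod N, (S.card + if s = 0 then 1 else 0) := by
      rw [Finset.sum_comm, Finset.sum_add_distrib, Finset.sum_const, Finset.card_univ, ZMod.card,
        Finset.sum_ite_eq' Finset.univ 0, if_pos (Finset.mem_univ _), smul_eq_mul, mul_comm N,
        hScard, ← htot, Finset.sum_mul]
      refine Finset.sum_congr rfl fun a _ => ?_
      rw [← Finset.mul_sum, Fintype.sum_equiv (Equiv.addLeft a) (fun s => m (a + s)) m fun s => rfl]
    exact fun s => (Finset.sum_eq_sum_iff_of_le hle).1 hsum s (Finset.mem_univ s)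
  have hzero : m 0 = 0 := by
    refine Submodule.finrank_eq_zero.2 (eq_bot_iff.2 fun u hu => ?_)
    rw [Module.End.mem_eigenspace_iff, AddChar.map_zero_eq_one, one_smul] at hu
    exact (Submodule.mem_bot k).2 (hfix u hu)
  have h := total_of_autocorrelation hN2 m S.card (by simpa using heq 0)
    (fun s hs => by simpa [hs] using heq s) hzero
  rw [htot] at h
  refine h.imp_left fun hd => ⟨hd, fun a ha => ?_⟩
  have h0 : ∑ a, m a * m a = S.card + 1 := by simpa using heq 0
  have hL : ∑ a, m a * m a = ∑ a, m a := by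
    rw [h0, htot]
    obtain ⟨M, hM⟩ : ∃ M, finrank k U = M + 1 := ⟨finrank k U - 1, by omega⟩
    rw [hM] at hScard hd ⊢
    subst hd
    nlinarith
  have hle : ∀ b : ZMod N, m b ≤ if b = 0 then 0 else 1 := by
    intro b
    split
    · subst b; exact hzero.le
    · have h1 := (Finset.sum_eq_sum_iff_of_le (s := Finset.univ) (f := m) (g := fun a => m a * m a)
        fun c _ => Nat.le_mul_self (m c)).1 hL.symm b (Finset.mem_univ b)
      rcases Nat.eq_zero_or_pos (m b) with h2 | h2
      · omega
      · exact (mul_eq_left₀ h2.ne').1 h1.symm |>.le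
  have hsum : ∑ b, m b = ∑ b : ZMod N, if b = 0 then 0 else 1 := by
    rw [htot, Finset.sum_ite, Finset.sum_const_zero, zero_add, Finset.sum_const, smul_eq_mul, mul_one,
      Finset.filter_ne', Finset.card_erase_of_mem (Finset.mem_univ _), Finset.card_univ, ZMod.card]
    omega
  have h1 := (Finset.sum_eq_sum_iff_of_le fun b _ => hle b).1 hsum a (Finset.mem_univ a)
  rwa [if_neg ha] at h1

/-- The dimension theorem. -/
theorem finrank_of_free {σ : Q →* Module.End k U} (hσ : IsIrred σ)
    (hQ : (Fintype.card Q : k) ≠ 0) (hcl : ∀ a b, a * b * a⁻¹ * b⁻¹ ∈ scalarSub σ)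
    {A : Module.End k U} {θ : MulAut Q} {N : ℕ} [NeZero N] (hN2 : 2 ≤ N) {ζ : k}
    (hζ : IsPrimitiveRoot ζ N) (hA : ∀ g, A * σ g = σ (θ g) * A) (hAN : A ^ N = 1)
    (hθN : θ ^ N = 1)
    (hfree : ∀ i, 0 < i → i < N → ∀ g, g⁻¹ * (θ ^ i) g ∈ scalarSub σ → g ∈ scalarSub σ)
    (hfix : ∀ u, A u = u → u = 0) :
    finrank k U + 1 = N ∨ finrank k U = 1 :=
  (eigen_of_free hσ hQ hcl hN2 hζ hA hAN hθN hfree hfix).imp_left And.left

end Cfsg.Agent.Lib.ShultGross
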