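import Cfsg.Agent.Lib.Ward.Dual

/-!
# Separating functionals on an elementary abelian section
-/

set_option autoImplicit false
set_option linter.style.haveILetI false

namespace Cfsg.Agent.Lib.ShultGross

open Cfsg.Agent.Lib

/-- An element outside a normal subgroup with elementary abelian `r`-quotient is separated from it by a
homomorphism to any field of characteristic `r`. -/
theorem exists_functional_vanishing {P : Type*} [Group P] {r : ℕ} [Fact r.Prime] {L : Type*} [Field L]
    [CharP L r] (X : Subgroup P) [X.Normal] (hcl : ∀ a b : P, a * b * a⁻¹ * b⁻¹ ∈ X)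
    (hpow : ∀ a : P, a ^ r ∈ X) {z : P} (hz : z ∉ X) :
    ∃ f : P → L, (∀ a b, f (a * b) = f a + f b) ∧ (∀ a ∈ X, f a = 0) ∧ f z ≠ 0 := by
  classical
  have hcomm : ∀ u v : P ⧸ X, u * v = v * u := by
    intro u v
    obtain ⟨a, rfl⟩ := QuotientGroup.mk'_surjective X u
    obtain ⟨b, rfl⟩ := QuotientGroup.mk'_surjective X v
    have h : (QuotientGroup.mk' X) (a * b * a⁻¹ * b⁻¹) = 1 := (QuotientGroup.eq_one_iff _).2 (hcl a b)
    rwa [map_mul, map_mul, map_mul, map_inv, map_inv, mul_inv_eq_one, mul_inv_eq_iff_eq_mul] at h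
  letI : CommGroup (P ⧸ X) := { mul_comm := hcomm }
  have hr : ∀ v : Additive (P ⧸ X), r • v = 0 := fun v => by
    apply Additive.toMul.injective
    rw [toMul_nsmul, toMul_zero]
    obtain ⟨a, ha⟩ := QuotientGroup.mk'_surjective X (Additive.toMul v)
    rw [← ha, ← map_pow]
    exact (QuotientGroup.eq_one_iff _).2 (hpow a)
  obtain ⟨φ, hφ⟩ := @Ward.exists_functional (P ⧸ X) _ r _ (AddCommGroup.zmodModule hr)
    (QuotientGroup.mk z) (fun h => hz ((QuotientGroup.eq_one_iff z).1 h))
  refine ⟨fun a => ZMod.castHom (dvd_refl r) L (φ (Additive.ofMul (QuotientGroup.mk a))),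
    fun a b => ?_, fun a ha => ?_, fun h => ?_⟩
  · simp only [QuotientGroup.mk_mul, ofMul_mul, map_add]
  · simp only [(QuotientGroup.eq_one_iff a).2 ha, ofMul_one, map_zero]
  · exact hφ ((ZMod.castHom (dvd_refl r) L).injective (h.trans (map_zero _).symm))

end Cfsg.Agent.Lib.ShultGross
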