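import Cfsg.Agent.Lib.ShultGross.SignSpaces
import Cfsg.Agent.Lib.ShultGross.Functional
import Cfsg.Agent.Lib.ShultGross.Critical

/-!
# A section on which `Q` would act exceptionally

`P` a normal `r`-group with `[P, Q] = P`, `R` a `Q`-invariant subgroup with elementary abelian quotient
whose inverted part has rank at most two and whose centralised part, if nontrivial, is not cyclic:
impossible.
-/

set_option autoImplicit false
set_option linter.style.haveILetI false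

namespace Cfsg.Agent.Lib.ShultGross

open Module
open Cfsg.Agent.Lib
open Cfsg.Agent.Lib.HallHigmanB

variable {H : Type*} [Group H] {P : Subgroup H} {L : Type*} [Field L]

/-- The functions vanishing on `R`. -/
def vanishing (L : Type*) [Field L] (R : Subgroup P) : Submodule L (Ward.dualSpace P L) where
  carrier := {f | ∀ x : P, x ∈ R → f.1 x = 0}
  add_mem' := fun {a b} ha hb x hx => by
    show a.1 x + b.1 x = 0
    rw [ha x hx, hb x hx, add_zero]
  zero_mem' := fun x _ => rfl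
  smul_mem' := fun c a ha x hx => by
    show c * a.1 x = 0
    rw [ha x hx, mul_zero]

theorem mem_vanishing {R : Subgroup P} {f : Ward.dualSpace P L} :
    f ∈ vanishing L R ↔ ∀ x ∈ R, f.1 x = 0 := Iff.rfl

theorem eq_zero_on_zpowers (f : Ward.dualSpace P L) {g : P} (hg : f.1 g = 0) {x : P}
    (hx : x ∈ Subgroup.zpowers g) : f.1 x = 0 := by
  have hker : g ∈ (Ward.dualHom f).ker := MonoidHom.mem_ker.2 (by
    show Multiplicative.ofAdd (f.1 g) = 1
    rw [hg, ofAdd_zero])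
  exact Multiplicative.ofAdd.injective (MonoidHom.mem_ker.1 ((Subgroup.zpowers_le.2 hker) hx))

theorem two_le_finrank_of_pair {k V : Type*} [Field k] [AddCommGroup V] [Module k V]
    [FiniteDimensional k V] (S : Submodule k V) {f g : V} (hf : f ∈ S) (hg : g ∈ S)
    (h : ∀ c d : k, c • f + d • g = 0 → c = 0 ∧ d = 0) : 2 ≤ finrank k S := by
  have hli : LinearIndependent k ![(⟨f, hf⟩ : S), ⟨g, hg⟩] :=
    LinearIndependent.pair_iff.2 fun c d hcd => h c d (congrArg Subtype.val hcd)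
  simpa using hli.fintype_card_le_finrank

theorem finrank_le_two_of_separated {k V : Type*} [Field k] [AddCommGroup V] [Module k V]
    [FiniteDimensional k V] (S : Submodule k V) (φ ψ : V →ₗ[k] k)
    (h : ∀ f ∈ S, φ f = 0 → ψ f = 0 → f = 0) : finrank k S ≤ 2 := by
  have hinj : Function.Injective ((φ.prod ψ).comp S.subtype) := by
    rw [← LinearMap.ker_eq_bot, Submodule.eq_bot_iff]
    intro f hf
    rw [LinearMap.mem_ker] at hf
    exact Subtype.ext (h f f.2 (congrArg Prod.fst hf) (congrArg Prod.snd hf))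
  refine (LinearMap.finrank_le_finrank_of_injective hinj).trans ?_
  rw [Module.finrank_prod, Module.finrank_self]

/-- Evaluation at a point. -/
def evalAt (x : P) : Ward.dualSpace P L →ₗ[L] L where
  toFun f := f.1 x
  map_add' _ _ := rfl
  map_smul' _ _ := rfl

variable [P.Normal]

theorem dualRep_eq_self_of_centralizer {g : H} (hg : g ∈ Subgroup.centralizer (P : Set H)) :
    Ward.dualRep P L g = 1 := by
  refine LinearMap.ext fun f => Subtype.ext (funext fun v => ?_)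
  simp only [Ward.dualRep_apply, Module.End.one_apply]
  refine congrArg f.1 (Subtype.ext ?_)
  show g⁻¹ * (v : H) * g = v
  rw [mul_assoc, Subgroup.mem_centralizer_iff.1 hg _ v.2, inv_mul_cancel_left]

/-- The whole of `[P, Q]` lies in the kernel of a `Q`-fixed function. -/
theorem eq_zero_of_fixed_of_commutator {Q : Subgroup H} (hPQ : ⁅P, Q⁆ = P)
    {f : Ward.dualSpace P L} (hf : ∀ g ∈ Q, Ward.dualRep P L g f = f) : f = 0 := by
  refine Subtype.ext (funext fun w => ?_)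
  have hle : ⁅P, Q⁆ ≤ (Ward.dualHom f).ker.map P.subtype := by
    rw [Subgroup.commutator_le]
    intro x hx g hg
    have hxg : g * x * g⁻¹ ∈ P := Subgroup.Normal.conj_mem inferInstance x hx g
    refine ⟨⟨x, hx⟩ * ⟨g * x * g⁻¹, hxg⟩⁻¹, ?_, ?_⟩
    · rw [SetLike.mem_coe, MonoidHom.mem_ker]
      have h1 := congrArg (fun k : Ward.dualSpace P L => k.1 ⟨g * x * g⁻¹, hxg⟩) (hf g hg)
      simp only [Ward.dualRep_apply] at h1
      have h3 := f.2 (⟨x, hx⟩ * ⟨g * x * g⁻¹, hxg⟩⁻¹) ⟨g * x * g⁻¹, hxg⟩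
      have h4 : f.1 ⟨x, hx⟩ = f.1 ⟨g * x * g⁻¹, hxg⟩ := by
        rw [← h1]; exact congrArg f.1 (Subtype.ext (by group))
      rw [inv_mul_cancel_right, h4] at h3
      show Multiplicative.ofAdd (f.1 _) = 1
      rw [right_eq_add.1 h3, ofAdd_zero]
    · show x * (g * x * g⁻¹)⁻¹ = _
      rw [commutatorElement_def]
      group
  rw [hPQ] at hle
  obtain ⟨v, hv, he⟩ := hle w.2
  rw [← (Subtype.ext he : v = w)]
  exact Multiplicative.ofAdd.injective (MonoidHom.mem_ker.1 hv)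

theorem dual_eq_zero_of_fpf [Finite H] {t : H} (hP : ∀ w ∈ P, t * w * t⁻¹ = w → w = 1)
    {f : Ward.dualSpace P L} (hf : Ward.dualRep P L t f = f) : f = 0 := by
  refine Subtype.ext (funext fun w => ?_)
  let α : MulAut P := MulAut.conjNormal t
  have hαcoe : ∀ x : P, (α x : H) = t * x * t⁻¹ := fun x => rfl
  have hinj : Function.Injective fun v : P => v⁻¹ * α v := by
    intro a b hab
    have h1 : a⁻¹ * α a = b⁻¹ * α b := hab
    refine mul_inv_eq_one.1 (Subtype.ext (hP _ (a * b⁻¹).2 ?_))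
    rw [← hαcoe]
    refine congrArg Subtype.val ?_
    calc α (a * b⁻¹) = α a * (α b)⁻¹ := by rw [map_mul, map_inv]
      _ = a * (a⁻¹ * α a) * (α b)⁻¹ := by group
      _ = a * (b⁻¹ * α b) * (α b)⁻¹ := by rw [h1]
      _ = a * b⁻¹ := by group
  obtain ⟨v, rfl⟩ := Finite.surjective_of_injective hinj w
  have h1 := congrArg (fun k : Ward.dualSpace P L => k.1 (α v)) hf
  simp only [Ward.dualRep_apply] at h1
  have h2 : f.1 v = f.1 (α v) := by
    rw [← h1]; exact congrArg f.1 (Subtype.ext (by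
      show (v : H) = t⁻¹ * (α v : H) * t
      rw [hαcoe]; group))
  have h3 := f.2 v (v⁻¹ * α v)
  rw [mul_inv_cancel_left, h2] at h3
  exact left_eq_add.1 h3

theorem false_of_inverted_rank_two [Finite H] {t : H} {n : ℕ} (htn : t ^ 2 ^ (n + 1) = 1) {r q : ℕ}
    (hr : r.Prime) (hq : q.Prime) (hrq : r ≠ q) (hr2 : r ≠ 2) {Q : Subgroup H} (hPr : IsPGroup r P)
    (hPfpf : ∀ g ∈ P, t * g * t⁻¹ = g → g = 1) (hQt : t ∈ Subgroup.normalizer (Q : Set H))
    (hQq : IsPGroup q Q) (hQfpf : ∀ g ∈ Q, t * g * t⁻¹ = g → g = 1)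
    (hQy : ⁅Q, Subgroup.zpowers (t ^ 2 ^ n)⁆ = Q)
    (hQC : ⁅⁅Q, Q⁆, Q⁆ ≤ Subgroup.centralizer (P : Set H)) (hPQ : ⁅P, Q⁆ = P)
    (R : Subgroup P) [R.Normal] (hRtop : R ≠ ⊤)
    (hRQ : ∀ g ∈ Q, ∀ x ∈ R, MulAut.conjNormal g x ∈ R)
    (hclR : ∀ a b : P, a * b * a⁻¹ * b⁻¹ ∈ R) (hpowR : ∀ a : P, a ^ r ∈ R)
    (hφR : ∀ x ∈ R, MulAut.conjNormal (t ^ 2 ^ n) x ∈ R)
    (hdec : ∀ x : P, ∃ u v : P, x = u * v ∧ u * MulAut.conjNormal (t ^ 2 ^ n) u ∈ R ∧
      v⁻¹ * MulAut.conjNormal (t ^ 2 ^ n) v ∈ R)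
    (T : Subgroup P) (hT : ∀ x, x ∈ T ↔ x * MulAut.conjNormal (t ^ 2 ^ n) x ∈ R)
    (hgen : ∃ a ∈ T, ∃ b ∈ T, T ≤ R ⊔ Subgroup.zpowers a ⊔ Subgroup.zpowers b)
    (hC : ∀ x : P, x⁻¹ * MulAut.conjNormal (t ^ 2 ^ n) x ∈ R → x ∉ R →
      ∃ z : P, z⁻¹ * MulAut.conjNormal (t ^ 2 ^ n) z ∈ R ∧ z ∉ T ⊔ Subgroup.zpowers x) : False := by
  classical
  haveI := Fact.mk hr
  haveI := Fact.mk hq
  let K := AlgebraicClosure (ZMod r)
  haveI : CharP K r := charP_of_injective_algebraMap (algebraMap (ZMod r) K).injective r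
  have hn0 : ∀ m : ℕ, ¬ r ∣ m → (m : K) ≠ 0 := fun m hm h => hm ((CharP.cast_eq_zero_iff K r m).1 h)
  have hK2 : (2 : K) ≠ 0 := by
    simpa using hn0 2 (fun h => hr2 ((Nat.prime_dvd_prime_iff_eq hr Nat.prime_two).1 h))
  set ρ := Ward.dualRep P K with hρdef
  set π := QuotientGroup.mk' ρ.ker with hπ
  set ρ' : H ⧸ ρ.ker →* Module.End K (Ward.dualSpace P K) := QuotientGroup.lift ρ.ker ρ le_rfl with hρ'def
  have hρ' : ∀ g : H, ρ' (π g) = ρ g := fun g => rfl
  set φ : MulAut P := MulAut.conjNormal (t ^ 2 ^ n) with hφdef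
  have hy2 : t ^ 2 ^ n * t ^ 2 ^ n = 1 := by rw [← pow_add, ← two_mul, ← pow_succ', htn]
  have hφ2 : ∀ x : P, φ (φ x) = x := fun x => by
    rw [hφdef, ← MulAut.mul_apply, ← map_mul, hy2, map_one, MulAut.one_apply]
  have hyapp : ∀ (f : Ward.dualSpace P K) (x : P), (ρ' (π t ^ 2 ^ n) f).1 x = f.1 (φ x) := by
    intro f x
    rw [← map_pow, hρ', hρdef, Ward.dualRep_apply]
    refine congrArg f.1 (Subtype.ext ?_)
    show (t ^ 2 ^ n)⁻¹ * (x : H) * t ^ 2 ^ n = _
    rw [hφdef, MulAut.conjNormal_apply, inv_eq_of_mul_eq_one_right hy2]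
  have hQ3 : ⁅⁅Q.map π, Q.map π⁆, Q.map π⁆ = ⊥ := by
    rw [← Subgroup.map_commutator, ← Subgroup.map_commutator, Subgroup.map_eq_bot_iff, hπ,
      QuotientGroup.ker_mk']
    exact fun g hg => MonoidHom.mem_ker.2 (dualRep_eq_self_of_centralizer (hQC hg))
  have hQy' : ⁅Q.map π, Subgroup.zpowers (π t ^ 2 ^ n)⁆ = Q.map π := by
    rw [← map_pow, ← MonoidHom.map_zpowers, ← Subgroup.map_commutator, hQy]
  have hQt' : π t ∈ Subgroup.normalizer (Q.map π : Set (H ⧸ ρ.ker)) :=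
    Subgroup.le_normalizer_map π (Subgroup.mem_map_of_mem π hQt)
  have hQk : (Nat.card (Q.map π) : K) ≠ 0 := by
    obtain ⟨a, ha⟩ := (hQq.map π).exists_card_eq
    refine hn0 _ fun h => hrq ?_
    rw [ha] at h
    exact (Nat.prime_dvd_prime_iff_eq hr hq).1 (hr.dvd_of_dvd_pow h)
  have hQfpf' : ∀ g ∈ Q.map π, π t * g * (π t)⁻¹ = g → g = 1 := by
    rintro _ ⟨g, hg, rfl⟩ h
    have h1 : (⟨g, hg⟩ : Q) ∈ ρ.ker.subgroupOf Q := by
      refine mem_of_fpf (α := Subgroup.normalizerMonoidHom Q ⟨t, hQt⟩)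
        (fun x hx => Subtype.ext (hQfpf x x.2 (congrArg Subtype.val hx))) (fun x hx => ?_) ?_
      · exact (MonoidHom.normal_ker ρ).conj_mem _ hx t
      · rw [Subgroup.mem_subgroupOf]
        show g⁻¹ * (t * g * t⁻¹) ∈ ρ.ker
        refine QuotientGroup.eq.1 ?_
        rw [← map_inv, ← map_mul, ← map_mul] at h
        exact h.symm
    exact (QuotientGroup.eq_one_iff _).2 h1
  set E := vanishing K R with hEdef
  have hEinv : Invt ρ' (Q.map π) E := by
    rintro _ ⟨g, hg, rfl⟩ f hf x hx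
    rw [hρ', hρdef, Ward.dualRep_apply]
    have he : (⟨g⁻¹ * (x : H) * g, Subgroup.Normal.conj_mem' inferInstance _ x.2 g⟩ : P) =
        MulAut.conjNormal g⁻¹ x := Subtype.ext (by rw [MulAut.conjNormal_apply, inv_inv])
    rw [he]
    exact hf _ (hRQ _ (inv_mem hg) x hx)
  have hEy : ∀ f ∈ E, ρ' (π t ^ 2 ^ n) f ∈ E := fun f hf x hx => by
    rw [hyapp]
    exact hf _ (hφR x hx)
  have hnofix : ∀ f ∈ E, (∀ g ∈ Q.map π, ρ' g f = f) → f = 0 := fun f _ hf =>
    eq_zero_of_fixed_of_commutator hPQ fun g hg => hf (π g) ⟨g, hg, rfl⟩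
  have hE0 : E ≠ ⊥ := by
    obtain ⟨z, hz⟩ : ∃ z, z ∉ R := by
      by_contra h; push Not at h; exact hRtop ((Subgroup.eq_top_iff' R).2 h)
    obtain ⟨f, hf1, hf2, hf3⟩ := exists_functional_vanishing (r := r) (L := K) R hclR hpowR hz
    exact (Submodule.ne_bot_iff _).2 ⟨⟨f, hf1⟩, fun x hx => hf2 x hx,
      fun h => hf3 (congrArg (fun k : Ward.dualSpace P K => k.1 z) h)⟩
  obtain ⟨a, haT, b, hbT, hTab⟩ := hgen
  have hone : ∀ f ∈ E, f.1 1 = 0 := fun f hf => hf 1 (one_mem R)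
  have hM : finrank K (E ⊓ Module.End.eigenspace (ρ' (π t ^ 2 ^ n)) (-1) :
      Submodule K (Ward.dualSpace P K)) ≤ 2 := by
    refine finrank_le_two_of_separated _ (evalAt a) (evalAt b) fun f hfm hfa hfb => ?_
    refine Subtype.ext (funext fun x => ?_)
    obtain ⟨u, v, hx, hu, hv⟩ := hdec x
    rw [hx, f.2]
    have h1 : f.1 u = 0 := by
      have hmem := hTab ((hT u).2 hu)
      rw [sup_assoc] at hmem
      obtain ⟨c, hc, d, hd, rfl⟩ := Subgroup.mem_sup_of_normal_left.1 hmem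
      rw [f.2, hfm.1 c hc]
      have hle : Subgroup.zpowers a ⊔ Subgroup.zpowers b ≤ (Ward.dualHom f).ker := by
        refine sup_le (Subgroup.zpowers_le.2 ?_) (Subgroup.zpowers_le.2 ?_)
        · show Multiplicative.ofAdd (f.1 a) = 1
          rw [show f.1 a = 0 from hfa, ofAdd_zero]
        · show Multiplicative.ofAdd (f.1 b) = 1
          rw [show f.1 b = 0 from hfb, ofAdd_zero]
      rw [show f.1 d = 0 from Multiplicative.ofAdd.injective (MonoidHom.mem_ker.1 (hle hd)),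
        add_zero]
    have h2 : f.1 v = 0 := by
      have h3 := hfm.1 _ hv
      rw [f.2, ← hyapp, Module.End.mem_eigenspace_iff.1 hfm.2] at h3
      have h4 := f.2 v v⁻¹
      rw [mul_inv_cancel, hone _ hfm.1] at h4
      have h6 : (2 : K) * f.1 v = 0 := by
        simp at h3
        linear_combination -h3 - h4
      exact (mul_eq_zero.1 h6).resolve_left hK2
    rw [h1, h2, add_zero]
    rfl
  obtain ⟨hline, w, hwE, hw0, hwfix⟩ := fixed_line_of_rank_two ρ' hK2 (t := π t) (n := n)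
    (by rw [← map_pow, htn, map_one])
    (fun f hf => dual_eq_zero_of_fpf hPfpf hf) hQk hQt' hQ3 hQy' hQfpf' hE0 hEinv hEy hnofix hM
  have hTzero : ∀ f ∈ E, ρ' (π t ^ 2 ^ n) f = f → ∀ x ∈ T, f.1 x = 0 := by
    intro f hf hfy x hx
    have h1 := hf _ ((hT x).1 hx)
    rw [f.2, ← hyapp, hfy, ← two_mul] at h1
    exact (mul_eq_zero.1 h1).resolve_left hK2
  obtain ⟨x, hxC, hxR⟩ : ∃ x : P, x⁻¹ * φ x ∈ R ∧ x ∉ R := by
    by_contra hall
    push Not at hall
    refine hw0 (Subtype.ext (funext fun x => ?_))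
    obtain ⟨u, v, hx, hu, hv⟩ := hdec x
    rw [hx, w.2, hTzero w hwE hwfix u ((hT u).2 hu), hwE v (hall v hv), add_zero]
    rfl
  obtain ⟨z, hzC, hz⟩ := hC x hxC hxR
  have hRT : R ≤ T := fun c hc => (hT c).2 (mul_mem hc (hφR c hc))
  have hxT : x ∉ T := by
    intro hxT
    have h2 : x * x ∈ R := by
      have h3 := mul_mem ((hT x).1 hxT) (inv_mem hxC)
      rwa [show x * φ x * (x⁻¹ * φ x)⁻¹ = x * x by group] at h3
    refine hxR ?_
    obtain ⟨c, hc⟩ : Odd (orderOf x) := Nat.not_even_iff_odd.1 fun h => by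
      obtain ⟨e, he⟩ := hPr.exists_card_eq
      exact hr2 ((Nat.prime_dvd_prime_iff_eq Nat.prime_two hr).1 (Nat.prime_two.dvd_of_dvd_pow
        (he ▸ h.two_dvd.trans (orderOf_dvd_natCard x)))).symm
    rw [show x = (x * x) ^ (c + 1) by
      rw [← sq, ← pow_mul, show 2 * (c + 1) = orderOf x + 1 by omega, pow_succ, pow_orderOf_eq_one,
        one_mul]]
    exact pow_mem h2 _
  haveI : T.Normal := ⟨fun c hc g => by
    have h1 : g * c * g⁻¹ * c⁻¹ ∈ T := hRT (hclR g c)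
    simpa using mul_mem h1 hc⟩
  haveI : (T ⊔ Subgroup.zpowers x).Normal := ⟨fun c hc g => by
    have h1 : g * c * g⁻¹ * c⁻¹ ∈ T ⊔ Subgroup.zpowers x := Subgroup.mem_sup_left (hRT (hclR g c))
    simpa using mul_mem h1 hc⟩
  obtain ⟨f₁, hf₁a, hf₁v, hf₁z⟩ := exists_functional_vanishing (r := r) (L := K)
    (T ⊔ Subgroup.zpowers x) (fun a b => Subgroup.mem_sup_left (hRT (hclR a b)))
    (fun a => Subgroup.mem_sup_left (hRT (hpowR a))) hz
  obtain ⟨f₂, hf₂a, hf₂v, hf₂x⟩ := exists_functional_vanishing (r := r) (L := K) T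
    (fun a b => hRT (hclR a b)) (fun a => hRT (hpowR a)) hxT
  have hmk : ∀ (f : P → K) (hfa : ∀ a b, f (a * b) = f a + f b), (∀ c ∈ T, f c = 0) →
      (⟨f, hfa⟩ : Ward.dualSpace P K) ∈ E ⊓ Module.End.eigenspace (ρ' (π t ^ 2 ^ n)) 1 := by
    intro f hfa hfv
    refine ⟨fun c hc => hfv c (hRT hc), Module.End.mem_eigenspace_iff.2 ?_⟩
    rw [one_smul]
    refine Subtype.ext (funext fun v => ?_)
    rw [hyapp]
    show f (φ v) = f v
    have h1 : v⁻¹ * φ v ∈ T := (hT _).2 (by rw [map_mul, map_inv, hφ2]; simp [mul_assoc])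
    rw [← mul_inv_cancel_left v (φ v), hfa, hfv _ h1, add_zero]
  have h2 := two_le_finrank_of_pair _ (hmk f₁ hf₁a fun c hc => hf₁v c (Subgroup.mem_sup_left hc))
    (hmk f₂ hf₂a hf₂v) fun c d hcd => by
    have hcd' : ∀ c' : P, c * f₁ c' + d * f₂ c' = 0 := fun c' =>
      congrArg (fun k : Ward.dualSpace P K => k.1 c') hcd
    have hd : d = 0 := by
      have := hcd' x
      rw [hf₁v x (Subgroup.mem_sup_right (Subgroup.mem_zpowers x)), mul_zero, zero_add] at this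
      exact (mul_eq_zero.1 this).resolve_right hf₂x
    refine ⟨?_, hd⟩
    have := hcd' z
    rw [hd, zero_mul, add_zero] at this
    exact (mul_eq_zero.1 this).resolve_right hf₁z
  omega

end Cfsg.Agent.Lib.ShultGross
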