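import Cfsg.Agent.Lib.HallHigmanB.Orbit

/-!
# The period of an irreducible constituent under an operator without fixed vectors
-/

set_option autoImplicit false

namespace Cfsg.Agent.Lib.ShultGross

open Module
open Cfsg.Agent.Lib.HallHigmanB

variable {k V H : Type*} [Field k] [IsAlgClosed k] [AddCommGroup V] [Module k V]
  [FiniteDimensional k V] [Group H] (ρ : H →* Module.End k V) (Q : Subgroup H)

/-- The linked class of `U₀` has no smaller period than `j`. -/
def NoShorter (t : H) (j : ℕ) (U₀ : Submodule k V) : Prop :=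
  ∀ i, 0 < i → i < j → ¬ Linked ρ Q U₀ (U₀.map (ρ (t ^ i)))

variable {ρ Q}

theorem NoShorter.of_linked {t : H} {j : ℕ} {U U' : Submodule k V}
    (ht : t ∈ Subgroup.normalizer (Q : Set H)) (hU : IrredSub ρ Q U) (hU' : IrredSub ρ Q U')
    (hl : Linked ρ Q U U') (h : NoShorter ρ Q t j U) : NoShorter ρ Q t j U' := fun i hi hij hlink =>
  h i hi hij (((hl.trans hU hU' hlink)).trans hU (irredSub_map (pow_mem ht i) hU')
    ((hl.map (pow_mem ht i) hU.2.1).symm (irredSub_map (pow_mem ht i) hU)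
      (irredSub_map (pow_mem ht i) hU')))

/-- A vector fixed by `t ^ j` in such a class is zero. -/
theorem NoShorter.eq_zero_of_fixed {t : H} {j : ℕ} {U : Submodule k V}
    (ht : t ∈ Subgroup.normalizer (Q : Set H)) (hfix : ∀ v, ρ t v = v → v = 0)
    (hU : IrredSub ρ Q U) (hj : 0 < j) (h : NoShorter ρ Q t j U) {u : V} (hu : u ∈ U)
    (hfu : ρ (t ^ j) u = u) : u = 0 := by
  refine eq_zero_of_sum_eq_zero hU ht h hj hu (hfix _ ?_)
  simp only [map_sum, ← Module.End.mul_apply, ← map_mul, ← pow_succ']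
  have h1 := Finset.sum_range_succ' (fun i => ρ (t ^ i) u) j
  rw [Finset.sum_range_succ] at h1
  simp only [hfu, pow_zero, map_one, Module.End.one_apply] at h1
  exact (add_right_cancel h1).symm

/-- Every irreducible constituent has a period `p ^ c` properly dividing the order. -/
theorem exists_period {t : H} (ht : t ∈ Subgroup.normalizer (Q : Set H)) {p n : ℕ} (hp : p.Prime)
    (htn : t ^ p ^ (n + 1) = 1) (hfix : ∀ v, ρ t v = v → v = 0) {U : Submodule k V}
    (hU : IrredSub ρ Q U) :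
    ∃ (U₀ : Submodule k V) (c : ℕ), c ≤ n ∧ IrredSub ρ Q U₀ ∧ Linked ρ Q U U₀ ∧
      U₀.map (ρ (t ^ p ^ c)) = U₀ ∧ NoShorter ρ Q t (p ^ c) U₀ := by
  classical
  have hex : ∃ j, 0 < j ∧ Linked ρ Q U (U.map (ρ (t ^ j))) := by
    refine ⟨p ^ (n + 1), pow_pos hp.pos _, ?_⟩
    rw [htn, map_one, Module.End.one_eq_id, Submodule.map_id]
    exact Linked.refl hU
  set j := Nat.find hex
  obtain ⟨hj, hlink⟩ := Nat.find_spec hex
  obtain ⟨U₀, hU₀, hUU₀, hinv⟩ := exists_invariant_copy hU (pow_mem ht j) hlink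
  have heq := map_eq_self_of_irred hU₀ (pow_mem ht j) hinv
  have hminU : NoShorter ρ Q t j U := fun i hi hij h => Nat.find_min hex hij ⟨hi, h⟩
  have hmin := hminU.of_linked ht hU hU₀ hUU₀
  have hdvd : j ∣ p ^ (n + 1) := by
    rw [Nat.dvd_iff_mod_eq_zero]
    by_contra hne
    refine hmin (p ^ (n + 1) % j) (Nat.pos_of_ne_zero hne) (Nat.mod_lt _ hj) ?_
    have h : Linked ρ Q U₀ (U₀.map (ρ (t ^ p ^ (n + 1)))) := by
      rw [htn, map_one, Module.End.one_eq_id, Submodule.map_id]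
      exact Linked.refl hU₀
    rwa [← Nat.mod_add_div (p ^ (n + 1)) j, pow_add, ← map_map_mul, map_pow_mul_eq heq] at h
  obtain ⟨c, hc, hjc⟩ := (Nat.dvd_prime_pow hp).1 hdvd
  rw [hjc] at heq hmin
  refine ⟨U₀, c, ?_, hU₀, hUU₀, heq, hmin⟩
  by_contra hcn
  obtain ⟨u, hu, hu0⟩ := (Submodule.ne_bot_iff _).1 hU₀.1
  refine hu0 (hmin.eq_zero_of_fixed ht hfix hU₀ (pow_pos hp.pos c) hu ?_)
  rw [show c = n + 1 by omega, htn, map_one, Module.End.one_apply]

/-- The automorphism of order `p` stabilises every isomorphism class. -/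
theorem linked_map_top_pow {t : H} (ht : t ∈ Subgroup.normalizer (Q : Set H)) {p n : ℕ}
    (hp : p.Prime) (htn : t ^ p ^ (n + 1) = 1) (hfix : ∀ v, ρ t v = v → v = 0) {U : Submodule k V}
    (hU : IrredSub ρ Q U) : Linked ρ Q U (U.map (ρ (t ^ p ^ n))) := by
  obtain ⟨U₀, c, hc, hU₀, hl, heq, -⟩ := exists_period ht hp htn hfix hU
  have h1 : U₀.map (ρ (t ^ p ^ n)) = U₀ := by
    rw [← Nat.add_sub_cancel' hc, pow_add]
    exact map_pow_mul_eq heq _
  have hy : t ^ p ^ n ∈ Subgroup.normalizer (Q : Set H) := pow_mem ht _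
  have h2 := hl.map hy hU.2.1
  rw [h1] at h2
  exact hl.trans hU hU₀ (h2.symm (irredSub_map hy hU) hU₀)

end Cfsg.Agent.Lib.ShultGross
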