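import Cfsg.Agent.Lib.ShultGross.Linear
import Cfsg.Agent.Lib.ShultGross.Period

/-!
# The exceptional configuration for automorphisms of `2`-power order

`t ^ 2 ^ (n + 1) = 1`, `t` without fixed vectors, `Q = [Q, y]` of class two, `y = t ^ 2 ^ n`.  On every
nontrivial irreducible `Q`-constituent `U` of dimension `2 * M - 1`, `M ≥ 2`, `y` has `-1` as eigenvalue
of multiplicity at least `M`, and also fixes a nonzero vector; moreover `n ≥ 2`.
-/

set_option autoImplicit false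
set_option linter.style.haveILetI false

namespace Cfsg.Agent.Lib.ShultGross

open Module
open Cfsg.Agent.Lib.HallHigmanB

variable {k V H : Type*} [Field k] [IsAlgClosed k] [AddCommGroup V] [Module k V]
  [FiniteDimensional k V] [Group H] [Finite H]

theorem exceptional_spectrum (ρ : H →* Module.End k V) (hk2 : (2 : k) ≠ 0) {t : H} {n : ℕ}
    (htn : t ^ 2 ^ (n + 1) = 1) (hfix : ∀ v, ρ t v = v → v = 0) {Q : Subgroup H}
    (hQk : (Nat.card Q : k) ≠ 0) (hQt : t ∈ Subgroup.normalizer (Q : Set H))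
    (hQ3 : ⁅⁅Q, Q⁆, Q⁆ = ⊥) (hQy : ⁅Q, Subgroup.zpowers (t ^ 2 ^ n)⁆ = Q)
    (hfpf : ∀ g ∈ Q, t * g * t⁻¹ = g → g = 1) {U : Submodule k V} (hU : IrredSub ρ Q U)
    (hnt : ∃ g ∈ Q, ∃ u ∈ U, ρ g u ≠ u) :
    2 ≤ n ∧ (∀ u ∈ U, ρ (t ^ 2 ^ n) u ∈ U) ∧
      (∃ M, 2 ≤ M ∧ finrank k U + 1 = 2 * M ∧
        M ≤ finrank k (U ⊓ Module.End.eigenspace (ρ (t ^ 2 ^ n)) (-1) : Submodule k V)) ∧
      ∃ w ∈ U, w ≠ 0 ∧ ρ (t ^ 2 ^ n) w = w := by
  classical
  obtain ⟨U₀, c, hcn, hU₀, hUU₀, heq, hmin⟩ := exists_period hQt Nat.prime_two htn hfix hU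
  set j := 2 ^ c with hjc
  have hj : 0 < j := pow_pos two_pos c
  obtain ⟨m, hm⟩ : ∃ m, n = c + m := ⟨n - c, by omega⟩
  letI := Fintype.ofFinite Q
  have hQk' : (Fintype.card Q : k) ≠ 0 := by rwa [← Nat.card_eq_fintype_card]
  set α : MulAut Q := Subgroup.normalizerMonoidHom Q ⟨t, hQt⟩ with hα
  have hαi : ∀ (i : ℕ) (g : Q), ((α ^ i) g : H) = t ^ i * g * (t ^ i)⁻¹ := normalizerHom_pow_apply hQt
  have hαN : α ^ 2 ^ (n + 1) = 1 := by
    refine MulEquiv.ext fun g => Subtype.ext ?_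
    rw [hαi, htn, inv_one, one_mul, mul_one]
    rfl
  have hαfpf : ∀ g : Q, α g = g → g = 1 := fun g hg => Subtype.ext (hfpf g g.2 (by
    have := hαi 1 g
    rw [pow_one, pow_one, hg] at this
    exact this.symm))
  have hcentral : ∀ a b c : Q, a * b * a⁻¹ * b⁻¹ * c = c * (a * b * a⁻¹ * b⁻¹) := by
    intro a b c
    refine Subtype.ext ?_
    have h1 : ((a * b * a⁻¹ * b⁻¹ : Q) : H) ∈ ⁅Q, Q⁆ := by
      simp only [Subgroup.coe_mul, Subgroup.coe_inv]
      exact Subgroup.commutator_mem_commutator a.2 b.2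
    exact (Subgroup.mem_centralizer_iff.1
      (Subgroup.commutator_eq_bot_iff_le_centralizer.1 hQ3 h1) c c.2).symm
  have hpowmem : ∀ i : ℕ, t ^ i ∈ Subgroup.normalizer (Q : Set H) := fun i => pow_mem hQt i
  have hyrel : ∀ g : Q, Subgroup.normalizerMonoidHom Q ⟨t ^ 2 ^ n, hpowmem _⟩ g = (α ^ 2 ^ n) g :=
    fun g => Subtype.ext (by rw [Subgroup.normalizerMonoidHom_apply_apply_coe, hαi])
  have hgen : ∀ K : Subgroup Q, K.Normal → (∀ a b : Q, a * b * a⁻¹ * b⁻¹ ∈ K) →
      (∀ g ∈ K, (α ^ 2 ^ n) g ∈ K) → ∀ g, g⁻¹ * (α ^ 2 ^ n) g ∈ K → g ∈ K := by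
    intro K hK hK1 hK2 g hg
    exact mem_of_fixed_coset (hpowmem _) hQy K hK1 (fun x hx => hyrel x ▸ hK2 x hx) (hyrel g ▸ hg)
  set N := 2 ^ (m + 1) with hN
  haveI : NeZero N := ⟨pow_ne_zero _ two_ne_zero⟩
  have hN2 : 2 ≤ N := Nat.le_self_pow (Nat.succ_ne_zero m) 2
  haveI : NeZero (N : k) := ⟨by rw [hN, Nat.cast_pow]; exact pow_ne_zero _ (by simpa using hk2)⟩
  obtain ⟨ζ, hζ⟩ := HasEnoughRootsOfUnity.exists_primitiveRoot k N
  set θ : MulAut Q := α ^ j with hθ
  have hθN : θ ^ N = 1 := by rw [hθ, ← pow_mul, hjc, hN, ← pow_add, show c + (m + 1) = n + 1 by omega, hαN]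
  have hθp : θ ^ 2 ^ m = α ^ 2 ^ n := by rw [hθ, ← pow_mul, hjc, ← pow_add, hm]
  have hUinv : ∀ u ∈ U₀, ρ (t ^ j) u ∈ U₀ := fun u hu => heq ▸ Submodule.mem_map_of_mem hu
  haveI : Nontrivial U₀ := Submodule.nontrivial_iff_ne_bot.2 hU₀.1
  set σ := restrictRep hU₀.2.1 with hσdef
  have hσ : IsIrred σ := isIrred_restrictRep hU₀
  let A : Module.End k U₀ := (ρ (t ^ j)).restrict hUinv
  have hA : ∀ g, A * σ g = σ (θ g) * A := fun g => LinearMap.ext fun u => Subtype.ext (by
    show ρ (t ^ j) (ρ (g : H) (u : V)) = ρ ((θ g : Q) : H) (ρ (t ^ j) (u : V))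
    rw [hθ, hαi, ← Module.End.mul_apply, ← Module.End.mul_apply, ← map_mul, ← map_mul,
      inv_mul_cancel_right])
  have hApow : ∀ (i : ℕ) (u : U₀), ((A ^ i) u : V) = ρ ((t ^ j) ^ i) (u : V) := by
    intro i u
    induction i with
    | zero => simp
    | succ i ih =>
      rw [pow_succ', Module.End.mul_apply, pow_succ' (t ^ j), map_mul, Module.End.mul_apply, ← ih]
      rfl
  have htjN : (t ^ j) ^ N = 1 := by
    rw [← pow_mul, hjc, hN, ← pow_add, show c + (m + 1) = n + 1 by omega, htn]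
  have hAN : A ^ N = 1 := LinearMap.ext fun u => Subtype.ext (by
    rw [hApow, htjN, map_one]; rfl)
  have hcl : ∀ a b : Q, a * b * a⁻¹ * b⁻¹ ∈ scalarSub σ := fun a b =>
    mem_scalarSub_of_central σ (hcentral a b)
  have hAA : A * A ^ (N - 1) = 1 := by rw [← pow_succ', Nat.sub_add_cancel (by omega), hAN]
  have hscal : ∀ g ∈ scalarSub σ, σ (θ g) = σ g := by
    intro g hg
    obtain ⟨a, ha⟩ := exists_smul_of_mem hσ hg
    calc σ (θ g) = A * σ g * A ^ (N - 1) := by rw [hA, mul_assoc, hAA, mul_one]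
      _ = σ g := by rw [ha, mul_smul_comm, mul_one, smul_mul_assoc, hAA]
  have hR : ∀ g ∈ scalarSub σ, θ g ∈ scalarSub σ := fun g hg h => by
    rw [hscal g hg]; exact hg h
  have hRpow : ∀ (a : ℕ) g, g ∈ scalarSub σ → (θ ^ a) g ∈ scalarSub σ ∧ σ ((θ ^ a) g) = σ g := by
    intro a
    induction a with
    | zero => exact fun g hg => ⟨hg, rfl⟩
    | succ a ih =>
      intro g hg
      rw [pow_succ', MulAut.mul_apply]
      exact ⟨hR _ (ih g hg).1, (hscal _ (ih g hg).1).trans (ih g hg).2⟩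
  have hfree : ∀ i, 0 < i → i < N → ∀ g, g⁻¹ * (θ ^ i) g ∈ scalarSub σ → g ∈ scalarSub σ := by
    intro i hi hiN g hg
    have h1 := fixed_coset_of_pow θ Nat.prime_two hθN hR hi hiN hg
    refine hgen _ inferInstance hcl (fun x hx => ?_) g (hθp ▸ h1)
    rw [← hθp]
    exact (hRpow _ x hx).1
  obtain ⟨f, hf0, hfr, hf⟩ := hUU₀.symm hU hU₀
  have hfinj := injective_of_intertwine hU₀ f hf0 hf
  have hfU : LinearMap.range f = U :=
    (hU.2.2 _ hfr (invt_range hU₀.2.1 f hf)).resolve_left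
      fun h => hf0 (LinearMap.range_eq_bot.1 h)
  -- `Q` is not scalar on `U₀`
  have hRtop : scalarSub σ ≠ ⊤ := by
    intro htop
    obtain ⟨g, hg, u, hu, hgu⟩ := hnt
    have hall : ∀ x : Q, σ x = 1 := by
      have hy : ∀ x : Q, x⁻¹ * (α ^ 2 ^ n) x ∈ σ.ker := by
        intro x
        rw [MonoidHom.mem_ker, ← hθp, map_mul, (hRpow _ x (htop ▸ Subgroup.mem_top x)).2, ← map_mul,
          inv_mul_cancel, map_one]
      intro x
      refine MonoidHom.mem_ker.1 (hgen σ.ker inferInstance (fun a b => ?_) (fun x hx => ?_) x (hy x))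
      · rw [MonoidHom.mem_ker, map_mul, map_mul, map_mul,
          (htop ▸ Subgroup.mem_top a : a ∈ scalarSub σ) b, mul_assoc (σ b), ← map_mul σ a,
          mul_inv_cancel, map_one, mul_one, ← map_mul, mul_inv_cancel, map_one]
      · have h1 := mul_mem hx (hy x)
        rwa [mul_inv_cancel_left] at h1
    rw [← hfU] at hu
    obtain ⟨u₀, rfl⟩ := hu
    refine hgu ?_
    rw [← hf g hg u₀ (hU₀.2.1 g hg u₀ u₀.2)]
    exact congrArg f (LinearMap.congr_fun (hall ⟨g, hg⟩) u₀)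
  obtain ⟨hdim, heig⟩ : finrank k U₀ + 1 = N ∧ ∀ a : ZMod N, a ≠ 0 →
      finrank k (Module.End.eigenspace A (AddChar.zmodChar N hζ.pow_eq_one a)) = 1 := by
    rcases eigen_of_free hσ hQk' hcl hN2 hζ hA hAN hθN hfree (fun u hu => Subtype.ext
      (hmin.eq_zero_of_fixed hQt hfix hU₀ hj u.2 (congrArg Subtype.val hu))) with h | h
    · exact h
    · refine absurd (Subgroup.index_eq_one.1 ?_) hRtop
      rw [index_scalarSub hσ hQk' hcl, h, mul_one]
  -- the orbit has length at least two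
  have hc1 : 1 ≤ c := by
    by_contra hc
    have hj1 : j = 1 := by rw [hjc, show c = 0 by omega, pow_zero]
    obtain ⟨a₀, ha₀⟩ : ∃ a₀, a₀ ∉ scalarSub σ := by
      by_contra h
      push Not at h
      exact hRtop ((Subgroup.eq_top_iff' _).2 h)
    obtain ⟨b, hb⟩ : ∃ b, σ a₀ * σ b ≠ σ b * σ a₀ := by
      by_contra h
      push Not at h
      exact ha₀ h
    set z₀ := a₀ * b * a₀⁻¹ * b⁻¹ with hz₀
    have hθα : θ = α := by rw [hθ, hj1, pow_one]
    have hker : z₀ ∈ σ.ker := by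
      refine mem_of_fpf hαfpf (fun g hg => ?_) ?_
      · rw [MonoidHom.mem_ker] at hg ⊢
        rw [← hθα, hscal g (mem_scalarSub_of_smul (c := 1) (by rw [one_smul, hg])), hg]
      · rw [MonoidHom.mem_ker, ← hθα, map_mul, hscal _ (hcl a₀ b), ← map_mul, inv_mul_cancel, map_one]
    refine hb ?_
    calc σ a₀ * σ b = σ z₀ * (σ b * σ a₀) := by
          rw [hz₀, ← map_mul, ← map_mul, ← map_mul]; congr 1; group
      _ = σ b * σ a₀ := by rw [MonoidHom.mem_ker.1 hker, one_mul]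
  have hm1 : 1 ≤ m := by
    by_contra h
    rw [hN, show m = 0 by omega] at hdim
    refine hRtop (Subgroup.index_eq_one.1 ?_)
    rw [index_scalarSub hσ hQk' hcl, show finrank k U₀ = 1 by simpa using hdim, mul_one]
  -- eigenvectors
  have hev : ∀ i : ℕ, ¬ N ∣ i → ∃ w : U₀, w ≠ 0 ∧ ρ (t ^ j) (w : V) = ζ ^ i • (w : V) := by
    intro i hi
    have h1 := heig (i : ZMod N) (by rwa [Ne, ZMod.natCast_eq_zero_iff])
    rw [AddChar.zmodChar_apply'] at h1
    obtain ⟨w, hw, hw0⟩ := (Submodule.ne_bot_iff _).1 (fun h => by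
      rw [h, finrank_bot] at h1; exact zero_ne_one h1 : Module.End.eigenspace A (ζ ^ i) ≠ ⊥)
    exact ⟨w, hw0, congrArg Subtype.val (Module.End.mem_eigenspace_iff.1 hw)⟩
  -- every intertwiner commutes with `t ^ j`
  have hcomm : ∀ u : U₀, ρ (t ^ j) (f u) = f (A u) := by
    let S : Submodule k (U₀ →ₗ[k] V) :=
      { carrier := {φ | ∀ g : Q, ∀ w : U₀, φ (σ g w) = ρ g (φ w)}
        add_mem' := fun {a b} ha hb g w => by simp [ha g w, hb g w]
        zero_mem' := fun g w => by simp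
        smul_mem' := fun r a ha g w => by simp [ha g w] }
    have hA' : ∀ g w, A ^ (N - 1) * σ g = σ w * A ^ (N - 1) → ∀ u, (A ^ (N - 1)) (σ g u) = σ w ((A ^ (N - 1)) u) :=
      fun g w h u => LinearMap.congr_fun h u
    let B : Module.End k S :=
      { toFun := fun φ => ⟨(ρ (t ^ j)).comp ((φ : U₀ →ₗ[k] V).comp (A ^ (N - 1))), fun g w => by
          simp only [LinearMap.comp_apply]
          have h1 : A ^ (N - 1) * σ g = σ ((θ ^ (N - 1)) g) * A ^ (N - 1) := pow_mul_sigma hA _ g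
          have h2 : t ^ j * ((θ ^ (N - 1)) g : Q) = (g : H) * t ^ j := by
            have h3 : θ ((θ ^ (N - 1)) g) = g := by
              rw [← MulAut.mul_apply, ← pow_succ', Nat.sub_add_cancel (by omega), hθN, MulAut.one_apply]
            have h4 := hαi j ((θ ^ (N - 1)) g)
            rw [← hθ, h3] at h4
            rw [h4, inv_mul_cancel_right]
          rw [hA' _ _ h1, φ.2, ← Module.End.mul_apply, ← Module.End.mul_apply, ← map_mul, ← map_mul, h2]⟩
        map_add' := fun a b => Subtype.ext (by ext w; simp)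
        map_smul' := fun r a => Subtype.ext (by ext w; simp) }
    have hBpow : ∀ (i : ℕ) (φ : S) (w : U₀), ((B ^ i) φ : U₀ →ₗ[k] V) w =
        ρ ((t ^ j) ^ i) ((φ : U₀ →ₗ[k] V) (((A ^ (N - 1)) ^ i) w)) := by
      intro i φ
      induction i with
      | zero => intro w; simp
      | succ i ih =>
        intro w
        rw [pow_succ' B, Module.End.mul_apply]
        show ρ (t ^ j) (((B ^ i) φ : U₀ →ₗ[k] V) ((A ^ (N - 1)) w)) = _
        rw [ih, ← Module.End.mul_apply (ρ (t ^ j)), ← map_mul, ← pow_succ', pow_succ (A ^ (N - 1)),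
          Module.End.mul_apply]
    have hBN : B ^ N = 1 := by
      refine LinearMap.ext fun φ => Subtype.ext (LinearMap.ext fun w => ?_)
      rw [hBpow, htjN, map_one, Module.End.one_apply, ← pow_mul, mul_comm, pow_mul, hAN, one_pow]
      rfl
    let χ : AddChar (ZMod N) k := AddChar.zmodChar N hζ.pow_eq_one
    have hχ : χ.IsPrimitive := AddChar.zmodChar_primitive_of_primitive_root N hζ
    have hzero : ∀ (a : ZMod N), a ≠ 0 → ∀ φ : S, B φ = χ a • φ → φ = 0 := by
      intro a ha φ hφ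
      by_contra hne
      have hφ0 : (φ : U₀ →ₗ[k] V) ≠ 0 := fun h => hne (Subtype.ext h)
      have hint : ∀ g ∈ Q, ∀ (w : U₀) (h : ρ g w ∈ U₀),
          (φ : U₀ →ₗ[k] V) ⟨ρ g w, h⟩ = ρ g ((φ : U₀ →ₗ[k] V) w) := fun g hg w _ => φ.2 ⟨g, hg⟩ w
      have hinj := injective_of_intertwine hU₀ _ hφ0 hint
      have hI : IrredSub ρ Q (LinearMap.range (φ : U₀ →ₗ[k] V)) := by
        refine ⟨fun h => hφ0 (LinearMap.range_eq_bot.1 h), invt_range hU₀.2.1 _ hint, fun W' hW' hi => ?_⟩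
        rcases hU₀.2.2 ((W'.comap (φ : U₀ →ₗ[k] V)).map U₀.subtype) (Submodule.map_subtype_le _ _)
          (by
            rintro g hg _ ⟨w, hw, rfl⟩
            refine ⟨⟨ρ g w, hU₀.2.1 g hg w w.2⟩, ?_, rfl⟩
            show (φ : U₀ →ₗ[k] V) _ ∈ W'
            rw [hint g hg]
            exact hi g hg _ hw) with h | h
        · left
          rw [eq_bot_iff]
          intro v hv
          obtain ⟨w, rfl⟩ := hW' hv
          have : (w : V) ∈ (W'.comap (φ : U₀ →ₗ[k] V)).map U₀.subtype := ⟨w, hv, rfl⟩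
          rw [h, Submodule.mem_bot] at this
          simp [show w = 0 from Subtype.ext this]
        · right
          refine le_antisymm hW' ?_
          rintro _ ⟨w, rfl⟩
          have : (w : V) ∈ (W'.comap (φ : U₀ →ₗ[k] V)).map U₀.subtype := h.symm ▸ w.2
          obtain ⟨w', hw', he⟩ := this
          rw [← Subtype.ext he]
          exact hw'
      have hmin' := hmin.of_linked hQt hU₀ hI ⟨φ, hφ0, le_rfl, hint⟩
      obtain ⟨w, hw0, hw⟩ := hev (N - a.val) (fun h => by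
        have h1 := ZMod.val_lt a
        have h2 : 0 < a.val := Nat.pos_of_ne_zero fun h0 => ha ((ZMod.val_eq_zero a).1 h0)
        have h3 := Nat.le_of_dvd (by omega) h
        omega)
      refine hw0 (hinj ?_)
      rw [map_zero]
      refine hmin'.eq_zero_of_fixed hQt hfix hI hj ⟨w, rfl⟩ ?_
      have h1 := LinearMap.congr_fun (congrArg Subtype.val hφ) (A w)
      have hw' : (A ^ (N - 1)) (A w) = w := by
        rw [← Module.End.mul_apply, ← pow_succ, Nat.sub_add_cancel (by omega), hAN, Module.End.one_apply]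
      simp only [B, LinearMap.coe_mk, AddHom.coe_mk, LinearMap.comp_apply, hw', SetLike.val_smul,
        LinearMap.smul_apply] at h1
      rw [h1, show A w = ζ ^ (N - a.val) • w from Subtype.ext hw, map_smul, smul_smul,
        show χ a = ζ ^ a.val from rfl, ← pow_add, Nat.add_sub_cancel' (ZMod.val_lt a).le,
        hζ.pow_eq_one, one_smul]
    have hB1 : ∀ φ : S, B φ = φ := by
      intro φ
      have hsum := LinearMap.congr_fun (sum_eigProj (B := B) χ hχ (NeZero.ne _)) φ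
      simp only [LinearMap.coe_sum, Finset.sum_apply, Module.End.one_apply] at hsum
      rw [← hsum, map_sum]
      refine Finset.sum_congr rfl fun a _ => ?_
      have h1 := LinearMap.congr_fun (mul_eigProj χ hBN a) φ
      rw [Module.End.mul_apply, LinearMap.smul_apply] at h1
      rcases eq_or_ne a 0 with h | h
      · rw [h1, h, AddChar.map_zero_eq_one, one_smul]
      · rw [hzero a h _ h1, map_zero]
    intro u
    have h1 := LinearMap.congr_fun (congrArg Subtype.val (hB1 ⟨f, fun g w => hf g g.2 w _⟩)) (A u)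
    have hu' : (A ^ (N - 1)) (A u) = u := by
      rw [← Module.End.mul_apply, ← pow_succ, Nat.sub_add_cancel (by omega), hAN, Module.End.one_apply]
    simpa [B, hu'] using h1
  -- transport to `U`
  have hy : ∀ (i : ℕ) (u : U₀), ρ ((t ^ j) ^ i) (f u) = f ((A ^ i) u) := by
    intro i u
    induction i with
    | zero => simp
    | succ i ih =>
      rw [pow_succ', map_mul, Module.End.mul_apply, ih, hcomm, pow_succ', Module.End.mul_apply]
  have hty : t ^ 2 ^ n = (t ^ j) ^ 2 ^ m := by rw [hjc, ← pow_mul, ← pow_add, hm]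
  have hdimU : finrank k U = finrank k U₀ := by
    rw [← hfU]; exact LinearMap.finrank_range_of_inj hfinj
  have hN22 : N = 2 * 2 ^ m := by rw [hN, pow_succ']
  have hζneg : ζ ^ 2 ^ m = -1 := by
    have h1 : (ζ ^ 2 ^ m - 1) * (ζ ^ 2 ^ m + 1) = 0 := by
      have h0 : (ζ ^ 2 ^ m) * (ζ ^ 2 ^ m) = 1 := by rw [← pow_add, ← two_mul, ← hN22, hζ.pow_eq_one]
      linear_combination h0
    rcases mul_eq_zero.1 h1 with h | h
    · exact absurd (sub_eq_zero.1 h) (hζ.pow_ne_one_of_pos_of_lt (pow_pos two_pos m).ne'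
        (by rw [hN22]; have := pow_pos (two_pos (α := ℕ)) m; omega))
    · exact eq_neg_of_add_eq_zero_left h
  have hyev : ∀ (i : ℕ) (w : U₀), ρ (t ^ j) (w : V) = ζ ^ i • (w : V) →
      ρ (t ^ 2 ^ n) (f w) = (ζ ^ 2 ^ m) ^ i • f w := by
    intro i w hw
    have hA1 : A w = ζ ^ i • w := Subtype.ext hw
    have : ∀ s : ℕ, (A ^ s) w = (ζ ^ i) ^ s • w := by
      intro s
      induction s with
      | zero => simp
      | succ s ih => rw [pow_succ', Module.End.mul_apply, ih, map_smul, hA1, smul_smul, pow_succ]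
    rw [hty, hy, this, map_smul, ← pow_mul, mul_comm, pow_mul]
  refine ⟨by omega, fun u hu => ?_, ⟨2 ^ m, ?_, by rw [hdimU, hdim, hN22], ?_⟩, ?_⟩
  · rw [← hfU] at hu ⊢
    obtain ⟨u₀, rfl⟩ := hu
    rw [hty, hy]
    exact ⟨_, rfl⟩
  · exact Nat.le_self_pow (by omega) 2
  · have hodd : ∀ i : Fin (2 ^ m), ¬ N ∣ 2 * (i : ℕ) + 1 := fun i h => by
      have h1 := (dvd_mul_right 2 (2 ^ m)).trans (hN22 ▸ h)
      omega
    choose w hw0 hw using fun i : Fin (2 ^ m) => hev _ (hodd i)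
    let e : Fin (2 ^ m) → (U ⊓ Module.End.eigenspace (ρ (t ^ 2 ^ n)) (-1) : Submodule k V) := fun i =>
      ⟨f (w i), hfU ▸ ⟨w i, rfl⟩, Module.End.mem_eigenspace_iff.2 (by
        rw [hyev _ _ (hw i), hζneg, Odd.neg_one_pow ⟨(i : ℕ), rfl⟩])⟩
    have hind : LinearIndependent k w := by
      refine Module.End.eigenvectors_linearIndependent' A
        (fun i : Fin (2 ^ m) => ζ ^ (2 * (i : ℕ) + 1)) (fun a b hab => ?_) w
        fun i => ⟨Module.End.mem_eigenspace_iff.2 (Subtype.ext (hw i)), hw0 i⟩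
      have h1 := hζ.pow_inj (by have := a.2; omega) (by have := b.2; omega) hab
      exact Fin.ext (by omega)
    have hli : LinearIndependent k e := LinearIndependent.of_comp (Submodule.subtype _)
      (hind.map' f (LinearMap.ker_eq_bot.2 hfinj))
    simpa using hli.fintype_card_le_finrank
  · obtain ⟨w, hw0, hw⟩ := hev 2 (fun h => by
      have := Nat.le_of_dvd two_pos h
      have : 2 ≤ 2 ^ m := Nat.le_self_pow (by omega) 2
      omega)
    refine ⟨f w, hfU ▸ ⟨w, rfl⟩, fun h => hw0 (hfinj (h.trans (map_zero f).symm)), ?_⟩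
    rw [hyev 2 w hw, hζneg, neg_one_sq, one_smul]

end Cfsg.Agent.Lib.ShultGross
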