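import Cfsg.Agent.Lib.ShultGross.Lower
import Cfsg.Agent.Lib.PGroup.Frattini

/-!
# `[Q, y]` centralises an `r`-group acting on a module without fixed vectors
-/

set_option autoImplicit false
set_option linter.style.haveILetI false

namespace Cfsg.Agent.Lib.ShultGross

open Subgroup
open Cfsg.Agent.Lib

variable {H : Type*} [Group H] [Finite H]

theorem coprime_of_isPGroup {p q : ℕ} (hp : p.Prime) (hq : q.Prime) (hpq : p ≠ q) {A K : Subgroup H}
    (hA : IsPGroup p A) (hK : IsPGroup q K) : (Nat.card A).Coprime (Nat.card K) := by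
  haveI := Fact.mk hp
  haveI := Fact.mk hq
  obtain ⟨a, ha⟩ := hA.exists_card_eq
  obtain ⟨b, hb⟩ := hK.exists_card_eq
  rw [ha, hb]
  exact Nat.Coprime.pow _ _ ((Nat.coprime_primes hp hq).2 hpq)

/-- A critical subgroup of `Q` modulo the centraliser of a normal subgroup. -/
theorem exists_critical_mod_centralizer {t : H} {n : ℕ} (htn : t ^ 2 ^ (n + 1) = 1) {q : ℕ}
    (hq : q.Prime) (hq2 : q ≠ 2) {S : Subgroup H} [S.Normal] {Q : Subgroup H} (hQq : IsPGroup q Q)
    (hQt : t ∈ normalizer (Q : Set H))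
    (hne : ¬ ⁅Q, zpowers (t ^ 2 ^ n)⁆ ≤ centralizer (S : Set H)) :
    ∃ Q' ≤ Q, t ∈ normalizer (Q' : Set H) ∧ ⁅Q', zpowers (t ^ 2 ^ n)⁆ = Q' ∧
      ⁅⁅Q', Q'⁆, Q'⁆ ≤ centralizer (S : Set H) ∧ ¬ Q' ≤ centralizer (S : Set H) := by
  classical
  haveI : Fact (Nat.Prime 2) := ⟨Nat.prime_two⟩
  haveI := Fact.mk hq
  set C := centralizer (S : Set H) with hC
  set y := t ^ 2 ^ n with hy
  set π := QuotientGroup.mk' C with hπ
  have hker : π.ker = C := QuotientGroup.ker_mk' C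
  have hOt : π t ∈ normalizer (Q.map π : Set (H ⧸ C)) :=
    Subgroup.le_normalizer_map π (mem_map_of_mem π hQt)
  obtain ⟨a, ha⟩ := (hQq.map π).exists_card_eq
  have hO2 : (Nat.card (Q.map π)).Coprime 2 := by
    rw [ha]; exact Nat.Coprime.pow_left _ ((Nat.coprime_primes hq Nat.prime_two).2 hq2)
  have hmoved : ¬ Q.map π ≤ centralizer {π y} := by
    intro h
    refine hne ?_
    rw [← hker, commutator_le]
    intro g hg z hz
    obtain ⟨i, rfl⟩ := mem_zpowers_iff.1 hz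
    rw [MonoidHom.mem_ker, map_commutatorElement, commutatorElement_eq_one_iff_mul_comm, map_zpow]
    exact (Commute.zpow_right (mem_centralizer_singleton_iff.1 (h (mem_map_of_mem π hg))) i).eq
  obtain ⟨q', R, hq', -, hRO, hRq', hRt, hR3, hRy, hRne⟩ :=
    exists_moved_minimal (p := 2) hOt (x := π t) (y := π y)
      (by rw [hy, map_pow]; exact npow_mem_zpowers _ _) (n := n + 1)
      (by rw [← map_pow, htn, map_one]) hO2 hmoved
  have hqq : q' = q := by
    haveI := Fact.mk hq'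
    obtain ⟨b, hb⟩ := hRq'.exists_card_eq
    rcases Nat.eq_zero_or_pos b with h | h
    · exact absurd (eq_bot_of_card_eq R (by rw [hb, h, pow_zero])) hRne
    · exact (Nat.prime_dvd_prime_iff_eq hq' hq).1 (hq'.dvd_of_dvd_pow (ha ▸
        (dvd_pow_self q' h.ne').trans (hb ▸ card_dvd_of_le hRO)))
  set Q₀ := Q ⊓ R.comap π with hQ₀
  have hQ₀map : Q₀.map π = R := by
    refine le_antisymm (map_le_iff_le_comap.2 inf_le_right) fun z hz => ?_
    obtain ⟨g, hg, rfl⟩ := hRO hz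
    exact ⟨g, ⟨hg, hz⟩, rfl⟩
  have hQ₀t : t ∈ normalizer (Q₀ : Set H) := by
    rw [hQ₀, mem_normalizer_iff]
    intro g
    simp only [mem_inf, mem_comap, map_mul, map_inv]
    exact and_congr (mem_normalizer_iff.1 hQt g) (mem_normalizer_iff.1 hRt (π g))
  have hy1 : zpowers y ≤ normalizer (Q₀ : Set H) := zpowers_le.2 (pow_mem hQ₀t _)
  have hcy : t ∈ normalizer (zpowers y : Set H) := by
    refine centralizer_le_normalizer _ ?_
    rw [HallHigmanB.centralizer_zpowers_eq_singleton, mem_centralizer_singleton_iff, hy]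
    exact (Commute.pow_self t _).eq.symm
  have hycard : IsPGroup 2 (zpowers y) := by
    have hy2 : orderOf y ∣ 2 ^ 1 := orderOf_dvd_of_pow_eq_one (by
      rw [hy, pow_one, ← pow_mul, ← pow_succ, htn])
    obtain ⟨i, -, hi⟩ := (Nat.dvd_prime_pow Nat.prime_two).1 hy2
    exact IsPGroup.of_card (n := i) (by rw [Nat.card_zpowers, hi])
  have hQ₀q : IsPGroup q Q₀ := hQq.to_le inf_le_left
  have hle : ⁅Q₀, zpowers y⁆ ≤ Q₀ := Coprime.commutator_le_of_le_normalizer hy1
  have hmap : ⁅Q₀, zpowers y⁆.map π = R := by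
    rw [Subgroup.map_commutator, hQ₀map, MonoidHom.map_zpowers, hRy]
  refine ⟨⁅Q₀, zpowers y⁆, hle.trans inf_le_left, ?_, ?_, ?_, ?_⟩
  · exact Coprime.le_normalizer_commutator (L := zpowers t) (zpowers_le.2 hQ₀t) (zpowers_le.2 hcy)
      (mem_zpowers t)
  · exact Coprime.commutator_commutator_eq hy1
      (coprime_of_isPGroup Nat.prime_two hq hq2.symm hycard (hQ₀q.to_le hle))
  · rw [← hker, ← Subgroup.map_eq_bot_iff, Subgroup.map_commutator, Subgroup.map_commutator, hmap, hR3]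
  · rw [← hker, ← Subgroup.map_eq_bot_iff, hmap]
    exact hRne

variable {k V : Type*} [Field k] [IsAlgClosed k] [AddCommGroup V] [Module k V] [FiniteDimensional k V]

/-- `Q = [Q, y]` with `[Q, Q, Q]` centralising the `r`-group `S` centralises `S`. -/
theorem commutator_eq_bot_of_two_step (ρ : H →* Module.End k V) (hρ : Function.Injective ρ)
    (hk2 : (2 : k) ≠ 0) {t : H} {n : ℕ} (htn : t ^ 2 ^ (n + 1) = 1)
    (hfix : ∀ v, ρ t v = v → v = 0) {r q : ℕ} (hr : r.Prime) (hq : q.Prime) (hrq : r ≠ q)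
    (hr2 : r ≠ 2) {S : Subgroup H} (hSr : IsPGroup r S) (hSk : (Nat.card S : k) ≠ 0)
    (hSt : t ∈ normalizer (S : Set H)) (hSfpf : ∀ g ∈ S, t * g * t⁻¹ = g → g = 1) {Q : Subgroup H}
    (hQS : Q ≤ normalizer (S : Set H)) (hQt : t ∈ normalizer (Q : Set H)) (hQq : IsPGroup q Q)
    (hQfpf : ∀ g ∈ Q, t * g * t⁻¹ = g → g = 1) (hQy : ⁅Q, zpowers (t ^ 2 ^ n)⁆ = Q)
    (hQC : ⁅⁅Q, Q⁆, Q⁆ ≤ centralizer (S : Set H)) : ⁅S, Q⁆ = ⊥ := by
  classical
  haveI := Fact.mk hr
  by_contra hne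
  obtain ⟨P, ⟨hPS, hQP, hPt, hPne⟩, hmin⟩ := (wellFounded_lt (α := Subgroup H)).has_min
    {P | P ≤ S ∧ Q ≤ normalizer (P : Set H) ∧ t ∈ normalizer (P : Set H) ∧ ⁅P, Q⁆ ≠ ⊥}
    ⟨S, le_rfl, hQS, hSt, hne⟩
  have hmin' : ∀ R, R ≤ P → R ≠ P → Q ≤ normalizer (R : Set H) → t ∈ normalizer (R : Set H) →
      ⁅R, Q⁆ = ⊥ := by
    intro R h1 h2 h3 h4
    by_contra h5
    exact hmin R ⟨h1.trans hPS, h3, h4, h5⟩ (lt_of_le_of_ne h1 h2)
  have hPr : IsPGroup r P := hSr.to_le hPS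
  have hcop : (Nat.card Q).Coprime (Nat.card P) := coprime_of_isPGroup hq hr hrq.symm hQq hPr
  have hPne' : P ≠ ⊥ := fun h => hPne (by rw [h, commutator_bot_left])
  have hPQ : ⁅P, Q⁆ = P := by
    by_contra h
    have h1 := hmin' _ (Coprime.commutator_le_of_le_normalizer hQP) h
      (Coprime.le_normalizer_commutator hQP le_normalizer)
      (Coprime.le_normalizer_commutator (L := zpowers t) (zpowers_le.2 hPt) (zpowers_le.2 hQt)
        (mem_zpowers t))
    exact hPne (Coprime.commutator_eq_bot_of_commutator_commutator_eq_bot hQP hcop h1)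
  set Φ := (frattini P).map P.subtype with hΦdef
  haveI : (frattini P).Characteristic := frattini_characteristic
  have hΦle : Φ ≤ P := map_subtype_le _
  have hΦne : Φ ≠ P := by
    intro h
    haveI : Nontrivial P := nontrivial_iff_ne_bot _ |>.2 hPne'
    obtain ⟨x, hx⟩ : ∃ x : P, x ∉ frattini P := by
      by_contra hall
      push Not at hall
      obtain ⟨M, hM, -⟩ := (eq_top_or_exists_le_coatom (⊥ : Subgroup P)).resolve_left bot_ne_top
      exact hM.1 (top_le_iff.1 (((Subgroup.eq_top_iff' _).2 hall).ge.trans (frattini_le_coatom hM)))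
    obtain ⟨z, hz, hzx⟩ := h.ge x.2
    exact hx (Subtype.ext hzx ▸ hz)
  have hnΦ := Coprime.normalizer_le_normalizer_map_of_characteristic (K := P) (frattini P)
  have hΦQ : ⁅Φ, Q⁆ = ⊥ := hmin' Φ hΦle hΦne (hQP.trans hnΦ) (hnΦ hPt)
  have hΦP : ⁅P, Φ⁆ = ⊥ := by
    have h1 : ⁅⁅Q, Φ⁆, P⁆ = ⊥ := by
      rw [commutator_comm Q Φ, hΦQ, commutator_bot_left]
    have h2 : ⁅⁅Φ, P⁆, Q⁆ = ⊥ := by
      rw [eq_bot_iff, ← hΦQ]
      exact commutator_mono (Coprime.commutator_le_of_le_normalizer (le_normalizer.trans hnΦ)) le_rfl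
    have h3 := commutator_commutator_eq_bot_of_rotate h1 h2
    rwa [hPQ] at h3
  have hcentral : ∀ a ∈ frattini P, ∀ c : P, a * c = c * a := fun a ha c => Subtype.ext
    (mem_centralizer_iff.1 (commutator_eq_bot_iff_le_centralizer.1 hΦP c.2) _
      (mem_map_of_mem P.subtype ha))
  -- move to the normaliser of `P`
  set Γ := normalizer (P : Set H) with hΓ
  have hPΓ : P ≤ Γ := le_normalizer
  have hcoeP : Nat.card (P.subgroupOf Γ) = Nat.card P :=
    Nat.card_congr (subgroupOfEquivOfLe hPΓ).toEquiv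
  refine false_of_moved (ρ.comp Γ.subtype) (t := ⟨t, hPt⟩) (n := n)
    (Subtype.ext (by rw [SubmonoidClass.coe_pow]; exact htn)) hfix hk2 hr hq hrq hr2
    (P := P.subgroupOf Γ) (fun g _ hg => Subtype.ext (hρ (hg.trans (map_one ρ).symm)))
    (hPr.of_equiv (subgroupOfEquivOfLe hPΓ).symm) ?_ ?_ ?_ ?_ ?_ (Q := Q.subgroupOf Γ) ?_
    (hQq.of_equiv (subgroupOfEquivOfLe hQP).symm) ?_ ?_ ?_ ?_
  · rw [hcoeP]
    obtain ⟨c, hc⟩ := card_dvd_of_le hPS
    intro h
    exact hSk (by rw [hc, Nat.cast_mul, h, zero_mul])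
  · exact fun g hg h => Subtype.ext (hSfpf g (hPS hg) (congrArg Subtype.val h))
  · intro a b c
    apply (subgroupOfEquivOfLe hPΓ).injective
    simp only [map_mul, map_inv]
    refine hcentral _ (PFrattini.commutator_le_frattini hPr ?_) _
    exact commutatorElement_def (subgroupOfEquivOfLe hPΓ a) _ ▸
      commutator_mem_commutator (mem_top _) (mem_top _)
  · intro a c
    apply (subgroupOfEquivOfLe hPΓ).injective
    simp only [map_mul, map_pow]
    exact hcentral _ (PFrattini.pow_mem_frattini hPr _) _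
  · rw [Ne, subgroupOf_eq_bot, disjoint_of_le_iff_left_eq_bot hPΓ]
    exact hPne'
  · rw [mem_normalizer_iff]
    exact fun g => mem_normalizer_iff.1 hQt g
  · exact fun g hg h => Subtype.ext (hQfpf g hg (congrArg Subtype.val h))
  · apply Subgroup.map_injective Γ.subtype_injective
    rw [Subgroup.map_commutator, MonoidHom.map_zpowers, map_subgroupOf_eq_of_le hQP, map_pow]
    exact hQy
  · intro g hg
    have h := mem_map_of_mem Γ.subtype hg
    rw [Subgroup.map_commutator, Subgroup.map_commutator, map_subgroupOf_eq_of_le hQP] at h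
    refine mem_centralizer_iff.2 fun x hx => Subtype.ext ?_
    exact mem_centralizer_iff.1 (hQC h) (x : H) (hPS hx)
  · apply Subgroup.map_injective Γ.subtype_injective
    rw [Subgroup.map_commutator, map_subgroupOf_eq_of_le hQP, map_subgroupOf_eq_of_le hPΓ]
    exact hPQ

/-- The main statement at this level: `[Q, y]` centralises `S`. -/
theorem commutator_le_centralizer_of_fixedPointFree (ρ : H →* Module.End k V)
    (hρ : Function.Injective ρ) (hk2 : (2 : k) ≠ 0) {t : H} {n : ℕ} (htn : t ^ 2 ^ (n + 1) = 1)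
    (hfix : ∀ v, ρ t v = v → v = 0) {r q : ℕ} (hr : r.Prime) (hq : q.Prime) (hrq : r ≠ q)
    (hr2 : r ≠ 2) (hq2 : q ≠ 2) {S : Subgroup H} [S.Normal] (hSr : IsPGroup r S)
    (hSk : (Nat.card S : k) ≠ 0) (hSfpf : ∀ g ∈ S, t * g * t⁻¹ = g → g = 1) {Q : Subgroup H}
    (hQt : t ∈ normalizer (Q : Set H)) (hQq : IsPGroup q Q)
    (hQfpf : ∀ g ∈ Q, t * g * t⁻¹ = g → g = 1) :
    ⁅Q, zpowers (t ^ 2 ^ n)⁆ ≤ centralizer (S : Set H) := by
  by_contra hne
  obtain ⟨Q', hQ'Q, hQ't, hQ'y, hQ'C, hQ'ne⟩ :=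
    exists_critical_mod_centralizer htn hq hq2 hQq hQt hne
  refine hQ'ne ?_
  have h := commutator_eq_bot_of_two_step ρ hρ hk2 htn hfix hr hq hrq hr2 hSr hSk
    (by rw [normalizer_eq_top]; exact mem_top t) hSfpf (Q := Q')
    (by rw [normalizer_eq_top]; exact le_top) hQ't (hQq.to_le hQ'Q) (fun g hg => hQfpf g (hQ'Q hg))
    hQ'y hQ'C
  rw [commutator_comm, commutator_eq_bot_iff_le_centralizer] at h
  exact h

end Cfsg.Agent.Lib.ShultGross
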