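import Cfsg.Agent.Lib.ShultGross.Reduction
import Cfsg.Agent.Lib.ShultGross.TwoStep

/-!
# Gross's theorem on fixed-point-free automorphisms of `2`-power order

`τ`, the automorphism of order `2`, centralises `G` modulo the second Fitting subgroup, and modulo the
first if the order is at most `4`; hence Fitting height at most `2 * n - 2`.
-/

set_option autoImplicit false
set_option linter.style.haveILetI false

namespace Cfsg.Agent.Lib.ShultGross

open Subgroup
open Cfsg.Agent.Lib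
open scoped Pointwise commutatorElement

variable {G : Type*} [Group G] [Finite G]

theorem map_mem_fitting (f : MulAut G) {x : G} (hx : x ∈ Cfsg.fittingSubgroup G) :
    f x ∈ Cfsg.fittingSubgroup G := by
  have h := mem_map_of_mem (MulEquiv.toMonoidHom f) hx
  rwa [Fitting.map_fittingSubgroup_equiv] at h

/-- An invariant Sylow subgroup of an invariant subgroup. -/
theorem exists_invariant_sylow_in {σ : MulAut G} (hfpf : ∀ g, σ g = g → g = 1) (q : ℕ) [Fact q.Prime]
    {K : Subgroup G} (hK : ∀ x ∈ K, σ x ∈ K) :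
    ∃ PK : Sylow q K, ∀ x ∈ (PK : Subgroup K).map K.subtype, σ x ∈ (PK : Subgroup K).map K.subtype := by
  let σK : MulAut K := MulEquiv.ofBijective
    (MonoidHom.mk' (fun k : K => (⟨σ k, hK k k.2⟩ : K)) fun a b => Subtype.ext (map_mul σ (a : G) b))
    (Finite.injective_iff_bijective.1 fun a b h => Subtype.ext (σ.injective (congrArg Subtype.val h)))
  have hσK : ∀ k : K, (σK k : G) = σ k := fun k => rfl
  obtain ⟨PK, hPK⟩ := exists_fpf_invariant_sylow (σ := σK)
    (fun k hk => Subtype.ext (hfpf k ((hσK k).symm.trans (congrArg Subtype.val hk)))) q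
  refine ⟨PK, ?_⟩
  rintro _ ⟨k, hk, rfl⟩
  have h1 : σK • k ∈ ((σK • PK : Sylow q K) : Subgroup K) := smul_mem_pointwise_smul k σK _ hk
  rw [hPK] at h1
  exact ⟨σK k, h1, rfl⟩

/-- A Sylow subgroup maps onto a `q`-group image. -/
theorem le_map_sylow {G' : Type*} [Group G'] (f : G →* G') {q : ℕ} [Fact q.Prime] {K : Subgroup G}
    (PK : Sylow q K) {T : Subgroup G'} (hT : IsPGroup q T) {y : G'} (hy : y ∈ T)
    (hKT : ∀ k ∈ K, f k ∈ T) (hsurj : ∀ z ∈ T, ∃ k ∈ K, f k = z) :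
    ∃ x ∈ (PK : Subgroup K).map K.subtype, f x = y := by
  let g : K →* T := (f.comp K.subtype).codRestrict T fun k => hKT k k.2
  have hg : Function.Surjective g := fun z => by
    obtain ⟨k, hk, hkz⟩ := hsurj z z.2
    exact ⟨⟨k, hk⟩, Subtype.ext hkz⟩
  have htop : (PK.mapSurjective hg : Subgroup T) = ⊤ :=
    ((PK.mapSurjective hg).3 (hT.to_subgroup ⊤) le_top).symm
  obtain ⟨z, hz, hzy⟩ : (⟨y, hy⟩ : T) ∈ (PK : Subgroup K).map g := by
    rw [← Sylow.coe_mapSurjective hg, htop]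
    exact mem_top _
  exact ⟨z, ⟨z, hz, rfl⟩, congrArg Subtype.val hzy⟩

/-- The two-step theorem, transported along `ι : G →* Γ`. -/
theorem commutator_mem_ker_two_step {Γ : Type*} [Group Γ] [Finite Γ] {L : Type*} [Field L]
    [IsAlgClosed L] {V : Type*} [AddCommGroup V] [Module L V] [FiniteDimensional L V]
    (ρ : Γ →* Module.End L V) {r' : ℕ} [CharP L r'] (hr' : r'.Prime) (hr'2 : r' ≠ 2)
    {σ : MulAut G} {n : ℕ} (hσ : σ ^ 2 ^ (n + 1) = 1) (hfpf : ∀ g, σ g = g → g = 1) (ι : G →* Γ)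
    {t : Γ} (ht : ∀ g, t * ι g * t⁻¹ = ι (σ g)) (htn : t ^ 2 ^ (n + 1) = 1)
    (hV : ∀ v, ρ t v = v → v = 0) {r q : ℕ} (hr : r.Prime) (hq : q.Prime) (hrq : r ≠ q)
    (hrr' : r ≠ r') {S Q : Subgroup G} (hSr : IsPGroup r S) (hSσ : ∀ x ∈ S, σ x ∈ S)
    (hQq : IsPGroup q Q) (hQσ : ∀ x ∈ Q, σ x ∈ Q) (hQS : Q ≤ normalizer (S : Set G))
    {z g : G} (hz : z ∈ S) (hg : g ∈ Q) :
    ι (⁅z, g⁻¹ * (σ ^ 2 ^ n) g⁆) ∈ ρ.ker := by
  classical
  haveI := Fact.mk hr'
  have hcopG := coprime_card_of_fpf Nat.prime_two hσ hfpf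
  set ρ' := QuotientGroup.lift ρ.ker ρ le_rfl
  set mk := QuotientGroup.mk' ρ.ker
  set f := mk.comp ι with hf
  have htf : ∀ x, mk t * f x * (mk t)⁻¹ = f (σ x) := fun x => by
    rw [hf, MonoidHom.comp_apply, MonoidHom.comp_apply, ← map_inv, ← map_mul, ← map_mul, ht]
  have hnorm : ∀ P : Subgroup G, (∀ x ∈ P, σ x ∈ P) → mk t ∈ normalizer (P.map f : Set (Γ ⧸ ρ.ker)) := by
    intro P hP
    refine mem_normalizer_fintype ?_
    rintro _ ⟨x, hx, rfl⟩
    exact ⟨σ x, hP x hx, (htf x).symm⟩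
  have hmapfpf : ∀ P : Subgroup G, ∀ x ∈ P.map f, mk t * x * (mk t)⁻¹ = x → x = 1 := by
    rintro P _ ⟨x, -, rfl⟩ h
    rw [htf] at h
    have h1 : x ∈ f.ker := by
      refine mem_of_fpf hfpf (fun w hw => ?_) ?_
      · rw [MonoidHom.mem_ker] at hw ⊢
        rw [← htf, hw, mul_one, mul_inv_cancel]
      · rw [MonoidHom.mem_ker, map_mul, map_inv, h, inv_mul_cancel]
    exact h1
  have htk : ∀ (i : ℕ) x, mk t ^ i * f x * (mk t ^ i)⁻¹ = f ((σ ^ i) x) := by
    intro i
    induction i with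
    | zero => simp
    | succ i ih =>
      intro x
      rw [pow_succ', pow_succ' σ, MulAut.mul_apply, ← htf, ← ih]
      group
  have hn0 : ∀ m : ℕ, ¬ r' ∣ m → (m : L) ≠ 0 := fun m hm h => hm ((CharP.cast_eq_zero_iff L r' m).1 h)
  have hodd : ∀ (s : ℕ) (P : Subgroup G), IsPGroup s P → P ≠ ⊥ → s.Prime → s ≠ 2 := by
    intro s P hs hne hsp h
    subst h
    haveI := Fact.mk hsp
    obtain ⟨a, ha⟩ := hs.exists_card_eq
    rcases Nat.eq_zero_or_pos a with h0 | h0
    · exact hne (eq_bot_of_card_eq P (by rw [ha, h0, pow_zero]))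
    · exact hsp.coprime_iff_not_dvd.1 hcopG
        ((dvd_pow_self 2 h0.ne').trans (ha ▸ card_subgroup_dvd_card P))
  rcases eq_or_ne S ⊥ with hS0 | hS0
  · rw [hS0, mem_bot] at hz
    simp [hz, commutatorElement_def]
  rcases eq_or_ne Q ⊥ with hQ0 | hQ0
  · rw [hQ0, mem_bot] at hg
    simp [hg, commutatorElement_def]
  have hinj : Function.Injective ρ' := fun u v huv => by
    obtain ⟨u, rfl⟩ := QuotientGroup.mk_surjective u
    obtain ⟨v, rfl⟩ := QuotientGroup.mk_surjective v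
    refine QuotientGroup.eq.2 ?_
    have huv' : ρ u = ρ v := huv
    rw [MonoidHom.mem_ker, map_mul, ← huv', ← map_mul, inv_mul_cancel, map_one]
  set N := normalizer (S.map f : Set (Γ ⧸ ρ.ker)) with hN
  have hQN : Q.map f ≤ N := (map_mono hQS).trans (le_normalizer_map f)
  have hSk : (Nat.card ((S.map f).subgroupOf N) : L) ≠ 0 := by
    haveI := Fact.mk hr
    obtain ⟨a, ha⟩ := (hSr.map f).exists_card_eq
    refine hn0 _ fun h => hrr' ?_
    rw [Nat.card_congr (subgroupOfEquivOfLe (le_normalizer (H := S.map f))).toEquiv, ha] at h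
    exact ((Nat.prime_dvd_prime_iff_eq hr' hr).1 (hr'.dvd_of_dvd_pow h)).symm
  let tN : N := ⟨mk t, hnorm S hSσ⟩
  have hpow : ∀ i : ℕ, ((tN ^ i : N) : Γ ⧸ ρ.ker) = mk t ^ i := fun i => SubmonoidClass.coe_pow tN i
  have hmain := commutator_le_centralizer_of_fixedPointFree (ρ'.comp N.subtype)
    (hinj.comp N.subtype_injective) (by simpa using hn0 2 (fun h => hr'2
      ((Nat.prime_dvd_prime_iff_eq hr' Nat.prime_two).1 h))) (t := tN) (n := n)
    (Subtype.ext (by rw [hpow, ← map_pow, htn, map_one]; rfl))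
    (fun v hv => hV v hv) hr hq hrq (hodd r S hSr hS0 hr) (hodd q Q hQq hQ0 hq)
    (S := (S.map f).subgroupOf N) ((hSr.map f).of_equiv (subgroupOfEquivOfLe le_normalizer).symm)
    hSk (fun x hx h => Subtype.ext (hmapfpf S x hx (congrArg Subtype.val h)))
    (Q := (Q.map f).subgroupOf N)
    (by
      rw [mem_normalizer_iff]
      exact fun x => mem_normalizer_iff.1 (hnorm Q hQσ) x)
    ((hQq.map f).of_equiv (subgroupOfEquivOfLe hQN).symm)
    (fun x hx h => Subtype.ext (hmapfpf Q x hx (congrArg Subtype.val h)))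
  let gN : N := ⟨f g, hQN (mem_map_of_mem f hg)⟩
  have hc : ⁅gN⁻¹, tN ^ 2 ^ n⁆ ∈ centralizer (((S.map f).subgroupOf N : Subgroup N) : Set N) :=
    hmain (commutator_mem_commutator (inv_mem (mem_map_of_mem f hg)) (mem_zpowers _))
  have he : (⁅gN⁻¹, tN ^ 2 ^ n⁆ : N).1 = f (g⁻¹ * (σ ^ 2 ^ n) g) := by
    rw [commutatorElement_def]
    simp only [Subgroup.coe_mul, Subgroup.coe_inv, hpow, inv_inv]
    rw [map_mul, map_inv, ← htk]
    show (f g)⁻¹ * mk t ^ 2 ^ n * f g * (mk t ^ 2 ^ n)⁻¹ = _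
    group
  let zN : N := ⟨f z, le_normalizer (mem_map_of_mem f hz)⟩
  have h := congrArg Subtype.val (mem_centralizer_iff.1 hc zN (mem_map_of_mem f hz))
  simp only [Subgroup.coe_mul, he] at h
  have h1 : f ⁅z, g⁻¹ * (σ ^ 2 ^ n) g⁆ = 1 := by
    rw [map_commutatorElement, commutatorElement_eq_one_iff_mul_comm]
    exact h
  exact (QuotientGroup.eq_one_iff _).1 h1

/-- On a module `O_{r'}(G)` of the lower layer. -/
theorem commutator_mem_centralizer_pCore {σ : MulAut G} {n : ℕ} (hσ : σ ^ 2 ^ (n + 1) = 1)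
    (hfpf : ∀ g, σ g = g → g = 1) {r q r' : ℕ} (hr : r.Prime) (hq : q.Prime) (hrq : r ≠ q)
    (hr' : r'.Prime) (hrr' : r' ≠ r) {S Q : Subgroup G} (hSr : IsPGroup r S)
    (hSσ : ∀ x ∈ S, σ x ∈ S) (hQq : IsPGroup q Q) (hQσ : ∀ x ∈ Q, σ x ∈ Q)
    (hQS : Q ≤ normalizer (S : Set G)) {z g : G} (hz : z ∈ S) (hg : g ∈ Q) :
    ⁅z, g⁻¹ * (σ ^ 2 ^ n) g⁆ ∈ centralizer (Cfsg.pCore r' G : Set G) := by
  haveI := Fact.mk hr'
  haveI := Fact.mk hr
  have hcopG := coprime_card_of_fpf Nat.prime_two hσ hfpf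
  rcases eq_or_ne r' 2 with rfl | hr'2
  · have hbot : Cfsg.pCore 2 G = ⊥ := by
      obtain ⟨b, hb⟩ := (PSolvable.pCore_isPGroup (p := 2) (G := G)).exists_card_eq
      rcases Nat.eq_zero_or_pos b with h | h
      · exact eq_bot_of_card_eq _ (by rw [hb, h, pow_zero])
      · exfalso
        refine Nat.prime_two.coprime_iff_not_dvd.1 hcopG ?_
        exact (dvd_pow_self 2 h.ne').trans (hb ▸ card_subgroup_dvd_card _)
    refine mem_centralizer_iff.2 fun y hy => ?_
    rw [hbot] at hy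
    rw [show y = 1 from mem_bot.1 hy, one_mul, mul_one]
  let φ : zpowers σ →* MulAut G := (zpowers σ).subtype
  haveI : Finite (G ⋊[φ] zpowers σ) := Coprime.finite_semidirect φ
  set t : G ⋊[φ] zpowers σ := SemidirectProduct.inr ⟨σ, mem_zpowers σ⟩ with htdef
  have ht : ∀ g, t * SemidirectProduct.inl g * t⁻¹ = SemidirectProduct.inl (σ g) := fun g => by
    rw [htdef, ← map_inv, ← SemidirectProduct.inl_aut]
    rfl
  set R : Subgroup (G ⋊[φ] zpowers σ) := (Cfsg.pCore r' G).map SemidirectProduct.inl with hRdef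
  haveI hRn : R.Normal := by
    refine ⟨?_⟩
    rintro _ ⟨z, hz, rfl⟩ y
    refine ⟨y.left * φ y.right z * y.left⁻¹, (sSup_normal _ fun _ h => h.1 :
      (Cfsg.pCore r' G).Normal).conj_mem _ ?_ _, ?_⟩
    · have h := mem_map_of_mem (MulEquiv.toMonoidHom (φ y.right)) hz
      rwa [PSolvable.map_pCore_equiv] at h
    · conv_rhs => rw [← SemidirectProduct.inl_left_mul_inr_right y]
      rw [map_mul, map_mul, map_inv, SemidirectProduct.inl_aut, mul_inv_rev]
      simp only [mul_assoc, map_inv]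
  have hR : ∀ w ∈ R, t * w * t⁻¹ = w → w = 1 := by
    rintro _ ⟨z, _, rfl⟩ h
    rw [ht] at h
    rw [hfpf z (SemidirectProduct.inl_injective h), map_one]
  set a := ⁅z, g⁻¹ * (σ ^ 2 ^ n) g⁆ with ha
  have hmain := commutator_mem_ker_two_step (Ward.dualRep R (AlgebraicClosure (ZMod r'))) (r' := r')
    hr' hr'2 hσ hfpf SemidirectProduct.inl ht
    (by rw [htdef, ← map_pow,
      show (⟨σ, mem_zpowers σ⟩ : zpowers σ) ^ 2 ^ (n + 1) = 1 from Subtype.ext hσ, map_one])
    (fun v hv => dual_eq_zero_of_fixed R hR hv) hr hq hrq hrr'.symm hSr hSσ hQq hQσ hQS hz hg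
  have haS : a ∈ S := by
    have hpow : ∀ i : ℕ, (σ ^ i) g ∈ Q := fun i => by
      induction i with
      | zero => exact hg
      | succ i ih => rw [pow_succ', MulAut.mul_apply]; exact hQσ _ ih
    have hn := hQS (mul_mem (inv_mem hg) (hpow (2 ^ n)))
    rw [ha, commutatorElement_def, show z * (g⁻¹ * (σ ^ 2 ^ n) g) * z⁻¹ * (g⁻¹ * (σ ^ 2 ^ n) g)⁻¹ =
      z * ((g⁻¹ * (σ ^ 2 ^ n) g) * z⁻¹ * (g⁻¹ * (σ ^ 2 ^ n) g)⁻¹) by group]
    exact mul_mem hz ((mem_normalizer_iff.1 hn _).1 (inv_mem hz))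
  have hle := le_centralizer_of_dual_eq_one R hrr' (PSolvable.pCore_isPGroup.map _)
    ((hSr.map SemidirectProduct.inl).to_le
      (zpowers_le.2 (mem_map_of_mem SemidirectProduct.inl haS)))
    (zpowers_le.2 hmain)
  refine mem_centralizer_iff.2 fun y hy => SemidirectProduct.inl_injective (φ := φ) ?_
  rw [map_mul, map_mul]
  exact mem_centralizer_iff.1 (hle (mem_zpowers _)) _ (mem_map_of_mem _ hy)

/-- The local step on `G ⧸ F(G)`. -/
theorem local_step_quotient [Group.IsSolvable G] [(Cfsg.fittingSubgroup G).Normal] {σ : MulAut G}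
    {n : ℕ} (hσ : σ ^ 2 ^ (n + 1) = 1) (hfpf : ∀ g, σ g = g → g = 1)
    {σF : MulAut (G ⧸ Cfsg.fittingSubgroup G)}
    (hσF : ∀ g : G, σF (QuotientGroup.mk g) = QuotientGroup.mk (σ g))
    (q : ℕ) [Fact q.Prime] (r : ℕ) (hr : r.Prime) (hrq : r ≠ q)
    (P : Subgroup (G ⧸ Cfsg.fittingSubgroup G)) (hPq : IsPGroup q P) (hPσ : ∀ x ∈ P, σF x ∈ P)
    (x : G ⧸ Cfsg.fittingSubgroup G) (hx : x ∈ P) :
    x⁻¹ * (σF ^ 2 ^ n) x ∈
      centralizer (Cfsg.pCore r (G ⧸ Cfsg.fittingSubgroup G) : Set (G ⧸ Cfsg.fittingSubgroup G)) := by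
  classical
  haveI := Fact.mk hr
  set F := Cfsg.fittingSubgroup G with hF
  set π := QuotientGroup.mk' F with hπ
  set O := Cfsg.pCore r (G ⧸ F) with hO
  haveI : O.Normal := sSup_normal _ fun _ h => h.1
  have hOσ : ∀ y ∈ O, σF y ∈ O := fun y hy => by
    have h := mem_map_of_mem (MulEquiv.toMonoidHom σF) hy
    rwa [hO, PSolvable.map_pCore_equiv] at h
  set K₁ := O.comap π with hK₁
  have hK₁σ : ∀ y ∈ K₁, σ y ∈ K₁ := fun y hy => by
    rw [mem_comap, hπ, QuotientGroup.mk'_apply, ← hσF]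
    exact hOσ _ hy
  obtain ⟨SK, hSσ⟩ := exists_invariant_sylow_in hfpf r hK₁σ
  set S := (SK : Subgroup K₁).map K₁.subtype with hS
  have hSr : IsPGroup r S := SK.2.map _
  have hSK : S ≤ K₁ := map_subtype_le _
  have hOS : ∀ y ∈ O, ∃ s ∈ S, π s = y := fun y hy =>
    le_map_sylow π SK PSolvable.pCore_isPGroup hy (fun k hk => hk) fun w hw => by
      obtain ⟨v, rfl⟩ := QuotientGroup.mk'_surjective F w
      exact ⟨v, hw, rfl⟩
  set N := normalizer (S : Set G) with hN
  have hNσ : ∀ y ∈ N, σ y ∈ N := fun y hy => by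
    refine mem_normalizer_fintype fun s hs => ?_
    obtain ⟨s', hs'⟩ := Finite.surjective_of_injective
      (f := fun s : S => (⟨σ s, hSσ s s.2⟩ : S))
      (fun a b h => Subtype.ext (σ.injective (congrArg Subtype.val h))) ⟨s, hs⟩
    have e : σ (s' : G) = s := congrArg Subtype.val hs'
    rw [← e, ← map_inv, ← map_mul, ← map_mul]
    exact hSσ _ ((mem_normalizer_iff.1 hy _).1 s'.2)
  haveI : K₁.Normal := Normal.comap inferInstance π
  have hFN : ∀ v : G, ∃ n' ∈ N, π n' = π v := by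
    intro v
    have htop := Sylow.normalizer_sup_eq_top SK
    obtain ⟨n', hn', k, hk, rfl⟩ := mem_sup_of_normal_right.1 (htop.ge (mem_top v))
    obtain ⟨s, hs, hsk⟩ := hOS (π k) hk
    exact ⟨n' * s, mul_mem hn' (le_normalizer hs), by rw [map_mul, map_mul, hsk]⟩
  set M := N ⊓ P.comap π with hM
  have hMσ : ∀ y ∈ M, σ y ∈ M := fun y hy => ⟨hNσ y hy.1, by
    show π (σ y) ∈ P
    rw [hπ, QuotientGroup.mk'_apply, ← hσF]
    exact hPσ _ hy.2⟩
  obtain ⟨QM, hQσ⟩ := exists_invariant_sylow_in hfpf q hMσ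
  set Q := (QM : Subgroup M).map M.subtype with hQ
  obtain ⟨g, hg, hgx⟩ := le_map_sylow π QM hPq hx (fun k hk => hk.2) fun w hw => by
    obtain ⟨v, rfl⟩ := QuotientGroup.mk'_surjective F w
    obtain ⟨n', hn', hnv⟩ := hFN v
    exact ⟨n', ⟨hn', show π n' ∈ P from hnv ▸ hw⟩, hnv⟩
  have hQS : Q ≤ N := (map_subtype_le _).trans inf_le_left
  have hpowF : ∀ (i : ℕ) (v : G), (σF ^ i) (π v) = π ((σ ^ i) v) := by
    intro i
    induction i with
    | zero => intro v; rfl
    | succ i ih =>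
      intro v
      rw [pow_succ', pow_succ', MulAut.mul_apply, MulAut.mul_apply, ih]
      exact hσF _
  rw [← hgx, hpowF, ← map_inv, ← map_mul]
  refine mem_centralizer_iff.2 fun y hy => ?_
  obtain ⟨z, hz, rfl⟩ := hOS y hy
  have hpow : ∀ i : ℕ, (σ ^ i) g ∈ Q := fun i => by
    induction i with
    | zero => exact hg
    | succ i ih => rw [pow_succ', MulAut.mul_apply]; exact hQσ _ ih
  set a := g⁻¹ * (σ ^ 2 ^ n) g with ha
  have haN : a ∈ N := hQS (mul_mem (inv_mem hg) (hpow _))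
  have hcS : ⁅z, a⁆ ∈ S := by
    rw [commutatorElement_def, show z * a * z⁻¹ * a⁻¹ = z * (a * z⁻¹ * a⁻¹) by group]
    exact mul_mem hz ((mem_normalizer_iff.1 haN _).1 (inv_mem hz))
  have hcF : ⁅z, a⁆ ∈ F := by
    refine inf_centralizers_le_fitting (q := r) (mem_inf.2 ⟨hSK hcS, ?_⟩)
    simp only [mem_iInf]
    exact fun r' hr' => commutator_mem_centralizer_pCore hσ hfpf hr (Fact.out) hrq hr'.1 hr'.2 hSr
      hSσ (QM.2.map _) hQσ hQS hz hg
  have h1 : π ⁅z, a⁆ = 1 := (QuotientGroup.eq_one_iff _).2 hcF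
  rwa [map_commutatorElement, commutatorElement_eq_one_iff_mul_comm] at h1

universe u

/-- The residual series of Gross's theorem. -/
theorem res_eq_bot_of_fpf_two : ∀ (n : ℕ) {G : Type u} [Group G] [Finite G] [Group.IsSolvable G]
    (σ : MulAut G), σ ^ 2 ^ (n + 2) = 1 → (∀ g, σ g = g → g = 1) →
      FittingLength.res (⊤ : Subgroup G) (2 * n + 2) = ⊥ := by
  intro n
  induction n with
  | zero =>
    intro G _ _ _ σ hσ hfpf
    exact res_eq_bot_of_fpf Nat.prime_two 2 (Or.inr le_rfl) σ hσ hfpf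
  | succ n ih =>
    intro G _ _ _ σ hσ hfpf
    -- passing down through one Fitting quotient
    have key : ∀ {X : Type u} [Group X] [Finite X] (m : ℕ) [(Cfsg.fittingSubgroup X).Normal],
        FittingLength.res (⊤ : Subgroup (X ⧸ Cfsg.fittingSubgroup X)) m = ⊥ →
        FittingLength.res (⊤ : Subgroup X) (m + 1) = ⊥ := by
      intro X _ _ m _ h1
      have h2 : FittingLength.res (⊤ : Subgroup X) m ≤ Cfsg.fittingSubgroup X := by
        rw [← QuotientGroup.ker_mk' (Cfsg.fittingSubgroup X), ← Subgroup.map_eq_bot_iff,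
          FittingLength.map_res, map_top_of_surjective _ (QuotientGroup.mk'_surjective _), h1]
      obtain ⟨k, hk⟩ := (isNilpotent_iff_lowerCentralSeries (Cfsg.fittingSubgroup X)).1
        Fitting.isNilpotent_fittingSubgroup
      rw [FittingLength.res_succ, eq_bot_iff, ← hk]
      exact (FittingLength.gammaInf_mono h2).trans (iInf_le _ k)
    haveI : (Cfsg.fittingSubgroup G).Normal := Fitting.fittingSubgroup_normal
    set F := Cfsg.fittingSubgroup G with hF
    let σF : MulAut (G ⧸ F) := QuotientGroup.congr F F σ (Fitting.map_fittingSubgroup_equiv σ)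
    have hσF : ∀ (i : ℕ) (g : G), (σF ^ i) (QuotientGroup.mk g) = QuotientGroup.mk ((σ ^ i) g) := by
      intro i
      induction i with
      | zero => intro g; rfl
      | succ i ih => intro g; rw [pow_succ', pow_succ', MulAut.mul_apply, MulAut.mul_apply, ih]; rfl
    have hσFn : σF ^ 2 ^ (n + 2 + 1) = 1 := MulEquiv.ext fun y => by
      obtain ⟨g, rfl⟩ := QuotientGroup.mk_surjective y
      rw [hσF, show σ ^ 2 ^ (n + 2 + 1) = 1 from hσ]
      rfl
    have hfpfF : ∀ y, σF y = y → y = 1 := by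
      intro y
      obtain ⟨g, rfl⟩ := QuotientGroup.mk_surjective y
      intro hy
      refine (QuotientGroup.eq_one_iff g).2 (mem_of_fpf hfpf (fun x hx => map_mem_fitting σ hx) ?_)
      exact QuotientGroup.eq.1 hy.symm
    have hfit := mul_pow_mem_fitting_of_local (G := G ⧸ F) Nat.prime_two hσFn hfpfF
      (fun q _ r hr hrq P hP hPσ x hx => local_step_quotient (n := n + 2)
        (show σ ^ 2 ^ (n + 2 + 1) = 1 from hσ) hfpf (σF := σF) (fun _ => rfl) q r hr hrq P hP hPσ x hx)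
    haveI : (Cfsg.fittingSubgroup (G ⧸ F)).Normal := Fitting.fittingSubgroup_normal
    set F' := Cfsg.fittingSubgroup (G ⧸ F)
    let σF' : MulAut ((G ⧸ F) ⧸ F') :=
      QuotientGroup.congr F' F' σF (Fitting.map_fittingSubgroup_equiv σF)
    have hσF' : ∀ (i : ℕ) (g : G ⧸ F), (σF' ^ i) (QuotientGroup.mk g) = QuotientGroup.mk ((σF ^ i) g) := by
      intro i
      induction i with
      | zero => intro g; rfl
      | succ i ih => intro g; rw [pow_succ', pow_succ', MulAut.mul_apply, MulAut.mul_apply, ih]; rfl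
    have hpow : σF' ^ 2 ^ (n + 2) = 1 := MulEquiv.ext fun y => by
      obtain ⟨g, rfl⟩ := QuotientGroup.mk_surjective y
      rw [hσF']
      exact (QuotientGroup.eq.2 (hfit g)).symm
    have hfpfF' : ∀ y, σF' y = y → y = 1 := by
      intro y
      obtain ⟨g, rfl⟩ := QuotientGroup.mk_surjective y
      intro hy
      refine (QuotientGroup.eq_one_iff g).2 (mem_of_fpf hfpfF (fun x hx => map_mem_fitting σF hx) ?_)
      exact QuotientGroup.eq.1 hy.symm
    rw [show 2 * (n + 1) + 2 = 2 * n + 2 + 1 + 1 by ring]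
    exact key _ (key _ (ih σF' hpow hfpfF'))

end Cfsg.Agent.Lib.ShultGross
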