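import Cfsg.Agent.Lib.ShultGross.Critical
import Cfsg.Agent.Lib.ShultGross.Dimension
import Cfsg.Agent.Lib.HallHigmanB.Orbit

/-!
# The linear form of the theorem of Shult and Gross

An automorphism `t` of order dividing `p ^ n`, `p` odd, fixed-point-free on `O` and on the faithful
module, has `t ^ p ^ (n - 1)` centralising `O`.
-/

set_option autoImplicit false
set_option linter.style.haveILetI false

namespace Cfsg.Agent.Lib.ShultGross

open Module
open Cfsg.Agent.Lib.HallHigmanB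

/-- The automorphism of order `p` is reached from any nontrivial power. -/
theorem fixed_coset_of_pow {Q : Type*} [Group Q] {R : Subgroup Q} (θ : MulAut Q) {p m : ℕ}
    (hp : p.Prime) (hθ : θ ^ p ^ (m + 1) = 1) (hR : ∀ g ∈ R, θ g ∈ R) {i : ℕ} (hi : 0 < i)
    (hiN : i < p ^ (m + 1)) {g : Q} (hg : g⁻¹ * (θ ^ i) g ∈ R) :
    g⁻¹ * (θ ^ (p ^ m)) g ∈ R := by
  have hpow : ∀ (a : ℕ) (x : Q), x ∈ R → (θ ^ a) x ∈ R := fun a => by
    induction a with
    | zero => exact fun x hx => hx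
    | succ a ih => intro x hx; rw [pow_succ', MulAut.mul_apply]; exact hR _ (ih x hx)
  have hmul : ∀ c, g⁻¹ * (θ ^ (i * c)) g ∈ R := by
    intro c
    induction c with
    | zero => simp
    | succ c ih =>
      have h1 := mul_mem hg (hpow i _ ih)
      rw [map_mul, map_inv, mul_assoc, mul_inv_cancel_left, ← MulAut.mul_apply, ← pow_add] at h1
      rwa [mul_add, mul_one, add_comm]
  set N := p ^ (m + 1) with hN
  obtain ⟨l, hl, hgcd⟩ := (Nat.dvd_prime_pow hp).1 (Nat.gcd_dvd_right i N)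
  have hlm : l ≤ m := by
    by_contra h
    have : l = m + 1 := by omega
    subst this
    rw [← hN] at hgcd
    have := Nat.le_of_dvd hi (hgcd ▸ Nat.gcd_dvd_left i N)
    omega
  have hlt : Nat.gcd i N < N := hgcd ▸ Nat.pow_lt_pow_right hp.one_lt (by omega)
  obtain ⟨c, -, hc⟩ := Nat.exists_mul_mod_eq_gcd hlt
  have h := hmul (c * p ^ (m - l))
  rwa [← mul_assoc, ← Nat.div_add_mod (i * c) N, hc, hgcd, add_mul, ← pow_add,
    Nat.add_sub_cancel' hlm, pow_add, mul_assoc, pow_mul, hθ, one_pow, one_mul] at h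

variable {k V H : Type*} [Field k] [IsAlgClosed k] [AddCommGroup V] [Module k V]
  [FiniteDimensional k V] [Group H] [Finite H]

theorem le_centralizer_of_fixedPointFree (ρ : H →* Module.End k V) (hρ : Function.Injective ρ)
    {p : ℕ} (hp : p.Prime) (hp2 : p ≠ 2) (hpk : (p : k) ≠ 0) {t : H} {n : ℕ} (htn : t ^ p ^ n = 1)
    (hfix : ∀ v, ρ t v = v → v = 0) {O : Subgroup H}
    (hOt : t ∈ Subgroup.normalizer (O : Set H)) (hOk : (Nat.card O : k) ≠ 0)
    (hOp : (Nat.card O).Coprime p) (hfpf : ∀ g ∈ O, t * g * t⁻¹ = g → g = 1) :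
    O ≤ Subgroup.centralizer {t ^ p ^ (n - 1)} := by
  classical
  haveI := Fact.mk hp
  by_contra hmoved
  -- `n` is positive
  obtain ⟨n', rfl⟩ : ∃ n', n = n' + 1 := by
    rcases Nat.eq_zero_or_pos n with h | h
    · subst h
      refine absurd (fun g _ => ?_) hmoved
      rw [Subgroup.mem_centralizer_singleton_iff, show p ^ (0 - 1) = p ^ 0 from rfl, htn, mul_one,
        one_mul]
    · exact ⟨n - 1, by omega⟩
  rw [Nat.add_sub_cancel] at hmoved
  obtain ⟨q, Q, hq, hqp, hQO, hQq, hQt, hQ3, hQy, hQne⟩ :=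
    exists_moved_minimal (p := p) hOt (Subgroup.npow_mem_zpowers t (p ^ n')) htn hOp hmoved
  haveI := Fact.mk hq
  letI := Fintype.ofFinite Q
  have hQk : (Fintype.card Q : k) ≠ 0 := by
    intro h
    obtain ⟨c, hc⟩ := Subgroup.card_dvd_of_le hQO
    exact hOk (by rw [hc, Nat.cast_mul, Nat.card_eq_fintype_card, h, zero_mul])
  set α : MulAut Q := Subgroup.normalizerMonoidHom Q ⟨t, hQt⟩ with hα
  have hαi : ∀ (i : ℕ) (g : Q), ((α ^ i) g : H) = t ^ i * g * (t ^ i)⁻¹ := normalizerHom_pow_apply hQt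
  have hαN : α ^ p ^ (n' + 1) = 1 := by
    refine MulEquiv.ext fun g => Subtype.ext ?_
    rw [hαi, htn, inv_one, one_mul, mul_one]
    rfl
  have hαfpf : ∀ g : Q, α g = g → g = 1 := fun g hg => Subtype.ext (hfpf g (hQO g.2) (by
    have := hαi 1 g
    rw [pow_one, pow_one, hg] at this
    exact this.symm))
  have hcentral : ∀ a b c : Q, a * b * a⁻¹ * b⁻¹ * c = c * (a * b * a⁻¹ * b⁻¹) := by
    intro a b c
    refine Subtype.ext ?_
    have h1 : ((a * b * a⁻¹ * b⁻¹ : Q) : H) ∈ ⁅Q, Q⁆ := by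
      simp only [Subgroup.coe_mul, Subgroup.coe_inv]
      exact Subgroup.commutator_mem_commutator a.2 b.2
    exact (Subgroup.mem_centralizer_iff.1
      (Subgroup.commutator_eq_bot_iff_le_centralizer.1 hQ3 h1) c c.2).symm
  have hpowmem : ∀ i : ℕ, t ^ i ∈ Subgroup.normalizer (Q : Set H) := fun i => pow_mem hQt i
  have hyrel : ∀ g : Q, Subgroup.normalizerMonoidHom Q ⟨t ^ p ^ n', hpowmem _⟩ g = (α ^ p ^ n') g :=
    fun g => Subtype.ext (by rw [Subgroup.normalizerMonoidHom_apply_apply_coe, hαi])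
  -- `y` moves every coset of a suitable subgroup
  have hgen : ∀ K : Subgroup Q, K.Normal → (∀ a b : Q, a * b * a⁻¹ * b⁻¹ ∈ K) →
      (∀ g ∈ K, (α ^ p ^ n') g ∈ K) → ∀ g, g⁻¹ * (α ^ p ^ n') g ∈ K → g ∈ K := by
    intro K hK hK1 hK2 g hg
    exact mem_of_fixed_coset (hpowmem _) hQy K hK1 (fun x hx => hyrel x ▸ hK2 x hx) (hyrel g ▸ hg)
  -- an irreducible subspace of least period on which `Q` is nontrivial
  let P : Submodule k V → Prop := fun W => IrredSub ρ Q W ∧ ∃ g ∈ Q, ∃ w ∈ W, ρ g w ≠ w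
  have hPex : ∃ W, P W := by
    let S : Module.End k V := ∑ g : Q, ρ g
    have hSinv : ∀ g ∈ Q, ∀ v, S (ρ g v) = S v := by
      intro g hg v
      suffices h : S * ρ g = S from LinearMap.congr_fun h v
      rw [Finset.sum_mul]
      refine Fintype.sum_equiv (Equiv.mulRight (⟨g, hg⟩ : Q)) _ _ fun x => ?_
      exact (map_mul ρ _ _).symm
    have hker : LinearMap.ker S ≠ ⊥ := by
      intro h0
      refine hQne ((Subgroup.eq_bot_iff_forall _).2 fun g hg => hρ (LinearMap.ext fun v => ?_))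
      rw [map_one, Module.End.one_apply]
      exact LinearMap.ker_eq_bot.1 h0 (hSinv g hg v)
    have hinv : Invt ρ Q (LinearMap.ker S) := fun g hg w hw => by
      rw [LinearMap.mem_ker] at hw ⊢
      rw [hSinv g hg, hw]
    obtain ⟨W, hWle, hW⟩ := exists_irredSub hker hinv
    refine ⟨W, hW, ?_⟩
    by_contra hall
    push Not at hall
    obtain ⟨w, hw, hw0⟩ := (Submodule.ne_bot_iff _).1 hW.1
    have h1 : S w = (Fintype.card Q : k) • w := by
      simp only [S, LinearMap.coe_sum, Finset.sum_apply]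
      rw [Finset.sum_congr rfl fun (g : Q) _ => hall g g.2 w hw, Finset.sum_const, Finset.card_univ,
        ← Nat.cast_smul_eq_nsmul k]
    rw [LinearMap.mem_ker.1 (hWle hw)] at h1
    exact hw0 ((smul_eq_zero.1 h1.symm).resolve_left hQk)
  have hex : ∃ j, 0 < j ∧ ∃ W, P W ∧ Linked ρ Q W (W.map (ρ (t ^ j))) := by
    obtain ⟨W, hW⟩ := hPex
    refine ⟨p ^ (n' + 1), pow_pos hp.pos _, W, hW, ?_⟩
    rw [htn, map_one, Module.End.one_eq_id, Submodule.map_id]
    exact Linked.refl hW.1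
  set j := Nat.find hex
  obtain ⟨hj, W, ⟨hW, hWnt⟩, hlink⟩ := Nat.find_spec hex
  obtain ⟨U, hU, hWU, hUinv⟩ := exists_invariant_copy hW (hpowmem j) hlink
  have hUnt : ∃ g ∈ Q, ∃ u ∈ U, ρ g u ≠ u := by
    obtain ⟨f, hf0, hfr, hf⟩ := hWU
    obtain ⟨g, hg, w, hw, hgw⟩ := hWnt
    refine ⟨g, hg, f ⟨w, hw⟩, hfr ⟨_, rfl⟩, fun h => hgw ?_⟩
    rw [← hf g hg ⟨w, hw⟩ (hW.2.1 g hg w hw)] at h
    exact congrArg Subtype.val (injective_of_intertwine hW f hf0 hf h)
  have hUeq := map_eq_self_of_irred hU (hpowmem j) hUinv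
  have hmin : ∀ i, 0 < i → i < j → ¬ Linked ρ Q U (U.map (ρ (t ^ i))) := fun i hi hij h =>
    Nat.find_min hex hij ⟨hi, U, ⟨hU, hUnt⟩, h⟩
  have hjdvd : j ∣ p ^ (n' + 1) := by
    rw [Nat.dvd_iff_mod_eq_zero]
    by_contra hne
    refine hmin (p ^ (n' + 1) % j) (Nat.pos_of_ne_zero hne) (Nat.mod_lt _ hj) ?_
    have h : Linked ρ Q U (U.map (ρ (t ^ p ^ (n' + 1)))) := by
      rw [htn, map_one, Module.End.one_eq_id, Submodule.map_id]
      exact Linked.refl hU
    rwa [← Nat.mod_add_div (p ^ (n' + 1)) j, pow_add, ← map_map_mul, map_pow_mul_eq hUeq] at h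
  obtain ⟨c, hc, hjc⟩ := (Nat.dvd_prime_pow hp).1 hjdvd
  -- no fixed vector for `t ^ j` on `U`
  have hUfix : ∀ u ∈ U, ρ (t ^ j) u = u → u = 0 := by
    intro u hu h
    refine eq_zero_of_sum_eq_zero hU hQt hmin hj hu (hfix _ ?_)
    simp only [map_sum, ← Module.End.mul_apply, ← map_mul, ← pow_succ']
    have h1 := Finset.sum_range_succ' (fun i => ρ (t ^ i) u) j
    rw [Finset.sum_range_succ] at h1
    simp only [h, pow_zero, map_one, Module.End.one_apply] at h1
    exact (add_right_cancel h1).symm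
  obtain ⟨m, hm⟩ : ∃ m, n' + 1 = c + (m + 1) := by
    refine ⟨n' - c, ?_⟩
    rcases Nat.lt_or_ge c (n' + 1) with h | h
    · omega
    · exfalso
      have hjn : j = p ^ (n' + 1) := by rw [hjc, show c = n' + 1 by omega]
      obtain ⟨u, hu, hu0⟩ := (Submodule.ne_bot_iff _).1 hU.1
      exact hu0 (hUfix u hu (by rw [hjn, htn, map_one, Module.End.one_apply]))
  set N := p ^ (m + 1) with hN
  haveI : NeZero N := ⟨pow_ne_zero _ hp.ne_zero⟩
  have hN2 : 2 ≤ N := hp.two_le.trans (Nat.le_self_pow (Nat.succ_ne_zero m) p)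
  haveI : NeZero (N : k) := ⟨by rw [hN, Nat.cast_pow]; exact pow_ne_zero _ hpk⟩
  obtain ⟨ζ, hζ⟩ := HasEnoughRootsOfUnity.exists_primitiveRoot k N
  set θ : MulAut Q := α ^ j with hθ
  have hθN : θ ^ N = 1 := by rw [hθ, ← pow_mul, hjc, hN, ← pow_add, ← hm, hαN]
  have hθp : θ ^ p ^ m = α ^ p ^ n' := by rw [hθ, ← pow_mul, hjc, ← pow_add, show c + m = n' by omega]
  haveI : Nontrivial U := Submodule.nontrivial_iff_ne_bot.2 hU.1
  set σ := restrictRep hU.2.1 with hσdef
  have hσ : IsIrred σ := isIrred_restrictRep hU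
  let A : Module.End k U := (ρ (t ^ j)).restrict hUinv
  have hA : ∀ g, A * σ g = σ (θ g) * A := fun g => LinearMap.ext fun u => Subtype.ext (by
    show ρ (t ^ j) (ρ (g : H) (u : V)) = ρ ((θ g : Q) : H) (ρ (t ^ j) (u : V))
    rw [hθ, hαi, ← Module.End.mul_apply, ← Module.End.mul_apply, ← map_mul, ← map_mul,
      inv_mul_cancel_right])
  have hAN : A ^ N = 1 := by
    refine LinearMap.ext fun u => Subtype.ext ?_
    have : ∀ i : ℕ, ((A ^ i) u : V) = ρ ((t ^ j) ^ i) (u : V) := by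
      intro i
      induction i with
      | zero => simp
      | succ i ih =>
        rw [pow_succ', Module.End.mul_apply, pow_succ' (t ^ j), map_mul, Module.End.mul_apply, ← ih]
        rfl
    rw [this, ← pow_mul, hjc, hN, ← pow_add, ← hm, htn, map_one]
    rfl
  have hcl : ∀ a b : Q, a * b * a⁻¹ * b⁻¹ ∈ scalarSub σ := fun a b =>
    mem_scalarSub_of_central σ (hcentral a b)
  have hAA : A * A ^ (N - 1) = 1 := by rw [← pow_succ', Nat.sub_add_cancel (by omega), hAN]
  have hscal : ∀ g ∈ scalarSub σ, σ (θ g) = σ g := by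
    intro g hg
    obtain ⟨a, ha⟩ := exists_smul_of_mem hσ hg
    calc σ (θ g) = A * σ g * A ^ (N - 1) := by rw [hA, mul_assoc, hAA, mul_one]
      _ = σ g := by rw [ha, mul_smul_comm, mul_one, smul_mul_assoc, hAA]
  have hR : ∀ g ∈ scalarSub σ, θ g ∈ scalarSub σ := fun g hg h => by
    rw [hscal g hg]; exact hg h
  have hRpow : ∀ (a : ℕ) g, g ∈ scalarSub σ → (θ ^ a) g ∈ scalarSub σ ∧ σ ((θ ^ a) g) = σ g := by
    intro a
    induction a with
    | zero => exact fun g hg => ⟨hg, rfl⟩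
    | succ a ih =>
      intro g hg
      rw [pow_succ', MulAut.mul_apply]
      exact ⟨hR _ (ih g hg).1, (hscal _ (ih g hg).1).trans (ih g hg).2⟩
  have hfree : ∀ i, 0 < i → i < N → ∀ g, g⁻¹ * (θ ^ i) g ∈ scalarSub σ → g ∈ scalarSub σ := by
    intro i hi hiN g hg
    have h1 := fixed_coset_of_pow θ hp hθN hR hi hiN hg
    refine hgen _ inferInstance hcl (fun x hx => ?_) g (hθp ▸ h1)
    rw [← hθp]
    exact (hRpow _ x hx).1
  -- `Q` is not scalar on `U`
  have hRtop : scalarSub σ ≠ ⊤ := by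
    intro htop
    obtain ⟨g, hg, u, hu, hgu⟩ := hUnt
    have hall : ∀ x : Q, σ x = 1 := by
      have hy : ∀ x : Q, x⁻¹ * (α ^ p ^ n') x ∈ σ.ker := by
        intro x
        rw [MonoidHom.mem_ker, ← hθp, map_mul, (hRpow _ x (htop ▸ Subgroup.mem_top x)).2, ← map_mul,
          inv_mul_cancel, map_one]
      intro x
      refine MonoidHom.mem_ker.1 (hgen σ.ker inferInstance (fun a b => ?_) (fun x hx => ?_) x (hy x))
      · rw [MonoidHom.mem_ker, map_mul, map_mul, map_mul,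
          (htop ▸ Subgroup.mem_top a : a ∈ scalarSub σ) b, mul_assoc (σ b), ← map_mul σ a,
          mul_inv_cancel, map_one, mul_one, ← map_mul, mul_inv_cancel, map_one]
      · have h1 := mul_mem hx (hy x)
        rwa [mul_inv_cancel_left] at h1
    exact hgu (congrArg Subtype.val (LinearMap.congr_fun (hall ⟨g, hg⟩) ⟨u, hu⟩))
  set d := finrank k U with hd
  have hidx : (scalarSub σ).index = d * d := index_scalarSub hσ hQk hcl
  have hdim : d + 1 = N := by
    rcases finrank_of_free hσ hQk hcl hN2 hζ hA hAN hθN hfree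
      (fun u hu => Subtype.ext (hUfix u u.2 (congrArg Subtype.val hu))) with h | h
    · exact h
    · refine absurd (Subgroup.index_eq_one.1 ?_) hRtop
      rw [hidx, hd, h, mul_one]
  obtain ⟨a, ha⟩ := hQq.exists_card_eq
  obtain ⟨e, -, hde⟩ : ∃ e ≤ a, d = q ^ e := by
    refine (Nat.dvd_prime_pow hq).1 ?_
    rw [← ha]
    exact (dvd_mul_right d d).trans (hidx ▸ Subgroup.index_dvd_card _)
  have he1 : 1 ≤ e := by
    rcases Nat.eq_zero_or_pos e with h | h
    · exact absurd (Subgroup.index_eq_one.1 (by rw [hidx, hde, h, pow_zero, mul_one])) hRtop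
    · exact h
  -- the intersection over the orbit
  set Rall : Subgroup Q := ⨅ i : Fin j, (scalarSub σ).comap (α ^ (i : ℕ)).toMonoidHom with hRalldef
  have hRall : ∀ g, g ∈ Rall ↔ ∀ i < j, (α ^ i) g ∈ scalarSub σ := fun g => by
    simp only [hRalldef, Subgroup.mem_iInf, Subgroup.mem_comap]
    exact ⟨fun h i hi => h ⟨i, hi⟩, fun h i => h i i.2⟩
  haveI hRalln : Rall.Normal := ⟨fun g hg x => (hRall _).2 fun i hi => by
    rw [map_mul, map_mul, map_inv]
    exact (scalarSub_normal σ).conj_mem _ ((hRall g).1 hg i hi) _⟩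
  have hRallα : ∀ g ∈ Rall, α g ∈ Rall := fun g hg => (hRall _).2 fun i hi => by
    rw [← MulAut.mul_apply, ← pow_succ]
    rcases eq_or_lt_of_le (show i + 1 ≤ j by omega) with h | h
    · rw [h, ← hθ]
      exact hR g ((hRall g).1 hg 0 hj)
    · exact (hRall g).1 hg _ h
  have hRallcl : ∀ a b : Q, a * b * a⁻¹ * b⁻¹ ∈ Rall := fun a b => (hRall _).2 fun i _ => by
    rw [map_mul, map_mul, map_mul, map_inv, map_inv]
    exact hcl _ _
  have hRallne : Rall ≠ ⊤ := fun h => hRtop ((Subgroup.eq_top_iff' _).2 fun g =>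
    (hRall g).1 (h ▸ Subgroup.mem_top g) 0 hj)
  obtain ⟨D, -, hD⟩ : ∃ D ≤ a, Rall.index = q ^ D :=
    (Nat.dvd_prime_pow hq).1 (ha ▸ Subgroup.index_dvd_card _)
  let Φ : Q →* (Fin j → Q ⧸ scalarSub σ) :=
    MonoidHom.pi fun i => (QuotientGroup.mk' _).comp (α ^ (i : ℕ)).toMonoidHom
  have hΦker : Φ.ker = Rall := by
    ext g
    rw [MonoidHom.mem_ker, hRall, funext_iff]
    simp only [Φ, MonoidHom.pi_apply, Pi.one_apply, MonoidHom.comp_apply, QuotientGroup.mk'_apply,
      QuotientGroup.eq_one_iff]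
    exact ⟨fun h i hi => h ⟨i, hi⟩, fun h i => h i i.2⟩
  have hcardPi : Nat.card (Fin j → Q ⧸ scalarSub σ) = q ^ (2 * e * j) := by
    rw [Nat.card_pi, Finset.prod_const, Finset.card_univ, Fintype.card_fin, ← Subgroup.index, hidx,
      hde, ← pow_add, ← pow_mul]
    ring_nf
  have hΦle : Nat.card Φ.range ≤ q ^ (2 * e * j) := hcardPi ▸
    Nat.card_le_card_of_injective _ Φ.range.subtype_injective
  have hrange : Nat.card Φ.range = q ^ D := by rw [← hD, ← hΦker, Subgroup.index_ker]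
  have hsurj : Φ.range = ⊤ := by
    refine Subgroup.eq_top_of_le_card _ ?_
    rw [hcardPi, hrange]
    refine Nat.pow_le_pow_right hq.pos (Nat.le_of_dvd ?_ ?_)
    · rcases Nat.eq_zero_or_pos D with h | h
      · exact absurd (Subgroup.index_eq_one.1 (by rw [hD, h, pow_zero])) hRallne
      · exact h
    rw [hjc]
    refine dvd_of_prime_pow_dvd (j := m + 1) hp (hp.odd_of_ne_two hp2) hq.two_le (by omega) he1 ?_ ?_
    · rw [← hN, ← hdim, hde]
    · obtain ⟨S, hS, -⟩ := exists_orbit_reps α (pow_pos hp.pos (n' + 1)) hαN hRallα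
        fun i hi hiN g hg => hgen _ hRalln hRallcl
          (fun x hx => by
            clear hg
            induction (p ^ n') with
            | zero => exact hx
            | succ b ih => rw [pow_succ', MulAut.mul_apply]; exact hRallα _ ih)
          g (fixed_coset_of_pow α hp hαN hRallα hi hiN hg)
      rw [hD] at hS
      rw [show m + 1 + c = n' + 1 by omega, ← hS, Nat.add_sub_cancel]
      exact dvd_mul_left _ _
  -- two elements with nontrivial commutator on `U` only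
  obtain ⟨a₀, ha₀⟩ : ∃ a₀, a₀ ∉ scalarSub σ := by
    by_contra h
    push Not at h
    exact hRtop ((Subgroup.eq_top_iff' _).2 h)
  have hsel : ∀ a : Q, ∃ x : Q, (QuotientGroup.mk x : Q ⧸ scalarSub σ) = QuotientGroup.mk a ∧
      ∀ i, 0 < i → i < j → (α ^ i) x ∈ scalarSub σ := by
    intro a
    obtain ⟨x, hx⟩ : Pi.mulSingle (⟨0, hj⟩ : Fin j) (QuotientGroup.mk a : Q ⧸ scalarSub σ) ∈ Φ.range :=
      hsurj ▸ Subgroup.mem_top _
    refine ⟨x, ?_, fun i hi hij => ?_⟩
    · have := congrFun hx ⟨0, hj⟩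
      rw [Pi.mulSingle_eq_same] at this
      exact this
    · have := congrFun hx ⟨i, hij⟩
      rw [Pi.mulSingle_eq_of_ne (fun h => hi.ne' (congrArg Fin.val h))] at this
      exact (QuotientGroup.eq_one_iff _).1 this
  obtain ⟨x, hxa, hx⟩ := hsel a₀
  have hxR : x ∉ scalarSub σ := fun h => ha₀ (by
    exact (QuotientGroup.eq_one_iff a₀).1 (hxa.symm.trans ((QuotientGroup.eq_one_iff x).2 h)))
  obtain ⟨b, hb⟩ : ∃ b, σ x * σ b ≠ σ b * σ x := by
    by_contra h
    push Not at h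
    exact hxR h
  obtain ⟨y, hyb, -⟩ := hsel b
  set z₀ : Q := x * y * x⁻¹ * y⁻¹ with hz₀
  have hz₀R : ∀ i : ℕ, (α ^ i) z₀ ∈ scalarSub σ := fun i => by
    rw [hz₀, map_mul, map_mul, map_mul, map_inv, map_inv]
    exact hcl _ _
  have hz₀ne : σ z₀ ≠ 1 := by
    intro h
    refine hb ?_
    obtain ⟨r, hr, hbr⟩ : ∃ r ∈ scalarSub σ, b = y * r :=
      ⟨y⁻¹ * b, QuotientGroup.eq.1 hyb, by rw [mul_inv_cancel_left]⟩
    have hxy : σ x * σ y = σ y * σ x := by
      calc σ x * σ y = σ z₀ * (σ y * σ x) := by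
            rw [hz₀, ← map_mul, ← map_mul, ← map_mul]; congr 1; group
        _ = σ y * σ x := by rw [h, one_mul]
    rw [hbr, map_mul, ← mul_assoc, hxy, mul_assoc, mul_assoc, hr x]
  have hz₀i : ∀ i, 0 < i → i < j → σ ((α ^ i) z₀) = 1 := by
    intro i hi hij
    have h := hx i hi hij ((α ^ i) y)
    rw [hz₀, map_mul, map_mul, map_mul, map_inv, map_inv, map_mul, map_mul, map_mul, h,
      mul_assoc (σ ((α ^ i) y)), ← map_mul σ ((α ^ i) x), mul_inv_cancel, map_one, mul_one, ← map_mul,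
      mul_inv_cancel, map_one]
  -- the product over the orbit
  let z : ℕ → Q := Nat.rec 1 fun _ w => α w * z₀
  have hzsucc : ∀ i, z (i + 1) = (α ^ i) z₀ * z i := by
    intro i
    induction i with
    | zero => simp [z]
    | succ i ih =>
      show α (z (i + 1)) * z₀ = _
      conv_lhs => rw [ih]
      rw [map_mul, ← MulAut.mul_apply, ← pow_succ', mul_assoc]
  have hσz : ∀ i, 0 < i → i ≤ j → σ (z i) = σ z₀ := by
    intro i hi hij
    induction i with
    | zero => exact absurd hi (lt_irrefl 0)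
    | succ i ih =>
      rw [hzsucc, map_mul]
      rcases Nat.eq_zero_or_pos i with h | h
      · subst h; simp [z]
      · rw [ih h (by omega), hz₀i i h (by omega), one_mul]
  let K : Subgroup Q := ⨅ i : ℕ, σ.ker.comap (α ^ i).toMonoidHom
  have hKmem : ∀ g, g ∈ K ↔ ∀ i : ℕ, σ ((α ^ i) g) = 1 := fun g => by
    simp only [K, Subgroup.mem_iInf, Subgroup.mem_comap, MonoidHom.mem_ker]
    rfl
  have hzK : z j ∈ K := by
    refine mem_of_fpf hαfpf (fun g hg => (hKmem _).2 fun i => ?_) ((hKmem _).2 fun i => ?_)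
    · rw [← MulAut.mul_apply, ← pow_succ]
      exact (hKmem g).1 hg _
    · have h1 : α (z j) = (α ^ j) z₀ * z j * z₀⁻¹ := by
        rw [← hzsucc]
        show _ = α (z j) * z₀ * z₀⁻¹
        rw [mul_inv_cancel_right]
      have h2 : (z j)⁻¹ * α (z j) = (α ^ j) z₀ * z₀⁻¹ := by
        have h3 : z j * (α ^ j) z₀ = (α ^ j) z₀ * z j := by
          rw [hz₀, map_mul, map_mul, map_mul, map_inv, map_inv]
          exact (hcentral _ _ _).symm
        rw [h1, ← h3, mul_assoc, inv_mul_cancel_left]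
      rw [h2, map_mul, map_inv, map_mul, ← MulAut.mul_apply, ← pow_add, add_comm i j, pow_add,
        MulAut.mul_apply, ← hθ, hscal _ (hz₀R i), ← map_mul, mul_inv_cancel, map_one]
  exact hz₀ne ((hσz j hj le_rfl) ▸ (hKmem _).1 hzK 0)

end Cfsg.Agent.Lib.ShultGross
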