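import Cfsg.Agent.Lib.ShultGross.Dimension
import Cfsg.Agent.Lib.ShultGross.Linear

/-!
# The part of a class two group inverted by an involution

`P` an `r`-group of class two acting irreducibly on `U`, `s` of order dividing `2 ^ (m + 1)` normalising
`P` without fixed vectors, `y = s ^ 2 ^ m`: modulo the scalar subgroup, the elements inverted by `y`
form a group generated by two elements, and they commute with the elements centralised by `y`.
-/

set_option autoImplicit false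
set_option linter.style.haveILetI false

namespace Cfsg.Agent.Lib.ShultGross

open Module
open Cfsg.Agent.Lib.HallHigmanB

/-- `r ^ e + 1` a power of two forces `e = 1`. -/
theorem eq_one_of_pow_add_one_eq_two_pow {r e M : ℕ} (hr : Odd r) (hr2 : 2 ≤ r) (he : 1 ≤ e)
    (h : r ^ e + 1 = 2 ^ M) : e = 1 := by
  rcases Nat.even_or_odd e with ⟨f, hf⟩ | hodd
  · exfalso
    obtain ⟨a, ha⟩ := hr.pow (n := f)
    have h1 : r ^ e + 1 = 4 * (a * a + a) + 2 := by rw [hf, pow_add, ha]; ring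
    rw [h] at h1
    have hM : 2 ≤ M := by
      by_contra hM
      interval_cases M
      · omega
      · have : r ≤ r ^ e := Nat.le_self_pow (by omega) r
        omega
    obtain ⟨M', rfl⟩ : ∃ M', M = M' + 2 := ⟨M - 2, by omega⟩
    rw [pow_add] at h1
    omega
  · set S : ℤ := ∑ i ∈ Finset.range e, (-(r : ℤ)) ^ i with hS
    have h1 : S * ((r : ℤ) + 1) = 2 ^ M := by
      have h2 := geom_sum_mul (-(r : ℤ)) e
      rw [← hS, hodd.neg_pow] at h2
      have h3 : ((r : ℤ) ^ e + 1) = 2 ^ M := by exact_mod_cast h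
      linear_combination -h2 + h3
    have hSodd : Odd S := by
      have : ∀ n : ℕ, (∑ i ∈ Finset.range n, (-(r : ℤ)) ^ i) % 2 = (n : ℤ) % 2 := by
        intro n
        induction n with
        | zero => simp
        | succ n ih =>
          rw [Finset.sum_range_succ, Int.add_emod, ih]
          have : Odd ((-(r : ℤ)) ^ n) := (Odd.neg (by exact_mod_cast hr)).pow
          rw [Int.odd_iff.1 this]
          push_cast
          omega
      rw [Int.odd_iff, hS, this]
      obtain ⟨f, hf⟩ := hodd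
      omega
    have hdvd : S.natAbs ∣ 2 ^ M := by
      have := Int.natAbs_dvd_natAbs.2 (Dvd.intro _ h1)
      simpa [Int.natAbs_pow] using this
    obtain ⟨i, -, hi⟩ := (Nat.dvd_prime_pow Nat.prime_two).1 hdvd
    have hi0 : i = 0 := by
      by_contra h0
      have : Odd S.natAbs := Int.natAbs_odd.2 hSodd
      rw [hi, Nat.odd_pow_iff h0] at this
      exact absurd this (by decide)
    subst hi0
    have hS1 : S = 1 := by
      rcases Int.natAbs_eq S with h2 | h2
      · rw [h2, hi]; rfl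
      · exfalso
        rw [h2, hi] at h1
        have : (0 : ℤ) < 2 ^ M := by positivity
        push_cast at h1
        omega
    rw [hS1, one_mul] at h1
    have h4 : r ^ e = r ^ 1 := by
      have h3 : ((r : ℤ) ^ e + 1) = 2 ^ M := by exact_mod_cast h
      have : (r : ℤ) ^ e = (r : ℤ) := by linarith
      rw [pow_one]
      exact_mod_cast this
    exact Nat.pow_right_injective hr2 h4

/-- A group of order `r ^ 2` or `1` modulo `R` is generated by `R` and two elements. -/
theorem exists_two_generators {G : Type*} [Group G] [Finite G] {R : Subgroup G} {r : ℕ}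
    (hr : r.Prime) (hR : R.index ∣ r ^ 2) :
    ∃ a b : G, R ⊔ Subgroup.zpowers a ⊔ Subgroup.zpowers b = ⊤ := by
  have hstep : ∀ (X : Subgroup G) (g : G), g ∉ X →
      (X ⊔ Subgroup.zpowers g).index * r ∣ X.index ∨ ¬ X.index ∣ r ^ 2 := by
    intro X g hg
    by_cases hX : X.index ∣ r ^ 2
    · left
      have h := Subgroup.relIndex_mul_index (H := X) (K := X ⊔ Subgroup.zpowers g) le_sup_left
      obtain ⟨i, -, hi⟩ := (Nat.dvd_prime_pow hr).1 (dvd_trans (h ▸ dvd_mul_right _ _) hX)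
      rw [← h, mul_comm, hi]
      refine mul_dvd_mul_right (dvd_pow_self r ?_) _
      intro h0
      rw [h0, pow_zero, Subgroup.relIndex_eq_one] at hi
      exact hg (hi (Subgroup.mem_sup_right (Subgroup.mem_zpowers g)))
    · exact Or.inr hX
  by_cases h1 : R = ⊤
  · exact ⟨1, 1, by simp [h1]⟩
  obtain ⟨a, ha⟩ : ∃ a, a ∉ R := by
    by_contra h; push Not at h; exact h1 ((Subgroup.eq_top_iff' R).2 h)
  have ha' := (hstep R a ha).resolve_right (not_not.2 hR)
  by_cases h2 : R ⊔ Subgroup.zpowers a = ⊤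
  · exact ⟨a, 1, by simp [h2]⟩
  obtain ⟨b, hb⟩ : ∃ b, b ∉ R ⊔ Subgroup.zpowers a := by
    by_contra h; push Not at h; exact h2 ((Subgroup.eq_top_iff' _).2 h)
  refine ⟨a, b, Subgroup.index_eq_one.1 ?_⟩
  have hX : (R ⊔ Subgroup.zpowers a).index ∣ r ^ 2 := (dvd_of_mul_right_dvd ha').trans hR
  have hb' := (hstep _ b hb).resolve_right (not_not.2 hX)
  have h3 : (R ⊔ Subgroup.zpowers a ⊔ Subgroup.zpowers b).index * (r * r) ∣ 1 * (r * r) := by
    rw [← mul_assoc, one_mul, ← sq]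
    exact ((mul_dvd_mul_right hb' r).trans ha').trans hR
  exact Nat.dvd_one.1 ((Nat.mul_dvd_mul_iff_right (Nat.mul_pos hr.pos hr.pos)).1 h3)

variable {k U H : Type*} [Field k] [IsAlgClosed k] [AddCommGroup U] [Module k U]
  [FiniteDimensional k U] [Nontrivial U] [Group H] [Finite H]

theorem inverted_part (ρ : H →* Module.End k U) (hk2 : (2 : k) ≠ 0) {P : Subgroup H} {r : ℕ}
    (hr : r.Prime) (hr2 : r ≠ 2) (hPr : IsPGroup r P) (hPk : (Nat.card P : k) ≠ 0)
    (hcl : ∀ a b c : P, a * b * a⁻¹ * b⁻¹ * c = c * (a * b * a⁻¹ * b⁻¹))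
    (hirr : IsIrred (ρ.comp P.subtype)) {s : H} (hs : s ∈ Subgroup.normalizer (P : Set H)) {m : ℕ}
    (hsN : s ^ 2 ^ (m + 1) = 1) (hfix : ∀ u, ρ s u = u → u = 0) (φ : MulAut P)
    (hφ : ∀ x : P, (φ x : H) = s ^ 2 ^ m * x * (s ^ 2 ^ m)⁻¹) :
    (∀ x : P, ∃ u v : P, x = u * v ∧ u * φ u ∈ scalarSub (ρ.comp P.subtype) ∧
        v⁻¹ * φ v ∈ scalarSub (ρ.comp P.subtype)) ∧
      (∀ u v : P, u * φ u ∈ scalarSub (ρ.comp P.subtype) → v⁻¹ * φ v ∈ scalarSub (ρ.comp P.subtype) →
        ρ (u : H) * ρ (v : H) = ρ (v : H) * ρ (u : H)) ∧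
      ∃ T : Subgroup P, (∀ x, x ∈ T ↔ x * φ x ∈ scalarSub (ρ.comp P.subtype)) ∧
        ∃ a ∈ T, ∃ b ∈ T,
          T ≤ scalarSub (ρ.comp P.subtype) ⊔ Subgroup.zpowers a ⊔ Subgroup.zpowers b := by
  classical
  haveI := Fact.mk hr
  letI := Fintype.ofFinite P
  set σ := ρ.comp P.subtype with hσdef
  set R := scalarSub σ with hRdef
  set α : MulAut P := Subgroup.normalizerMonoidHom P ⟨s, hs⟩ with hα
  have hαi : ∀ (i : ℕ) (g : P), ((α ^ i) g : H) = s ^ i * g * (s ^ i)⁻¹ := normalizerHom_pow_apply hs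
  have hφα : φ = α ^ 2 ^ m := MulEquiv.ext fun x => Subtype.ext (by rw [hφ, hαi])
  have hαN : α ^ 2 ^ (m + 1) = 1 := MulEquiv.ext fun g => Subtype.ext (by
    rw [hαi, hsN, inv_one, one_mul, mul_one]; rfl)
  have hφ2 : ∀ x, φ (φ x) = x := fun x => by
    rw [hφα, ← MulAut.mul_apply, ← pow_add, ← two_mul, ← pow_succ', hαN, MulAut.one_apply]
  -- conjugation by `s` fixes the scalars
  have hscal : ∀ g ∈ R, σ (α g) = σ g := by
    intro g hg
    obtain ⟨a, ha⟩ := exists_smul_of_mem hirr hg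
    have h1 : σ (α g) = ρ s * σ g * ρ s⁻¹ := by
      show ρ ((α g : P) : H) = ρ s * ρ (g : H) * ρ s⁻¹
      have h := hαi 1 g
      rw [pow_one, pow_one] at h
      rw [h, map_mul, map_mul]
    rw [h1, ha, mul_smul_comm, mul_one, smul_mul_assoc, ← map_mul, mul_inv_cancel, map_one]
  have hRα : ∀ g ∈ R, α g ∈ R := fun g hg h => by rw [hscal g hg]; exact hg h
  have hRφ : ∀ g ∈ R, φ g ∈ R ∧ σ (φ g) = σ g := by
    rw [hφα]
    induction (2 ^ m) with
    | zero => exact fun g hg => ⟨hg, rfl⟩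
    | succ i ih =>
      intro g hg
      rw [pow_succ', MulAut.mul_apply]
      exact ⟨hRα _ (ih g hg).1, (hscal _ (ih g hg).1).trans (ih g hg).2⟩
  have hclR : ∀ a b : P, a * b * a⁻¹ * b⁻¹ ∈ R := fun a b => mem_scalarSub_of_central σ (hcl a b)
  -- the quotient is abelian
  let f : P →* P ⧸ R := QuotientGroup.mk' R
  have hcomm : ∀ u v : P ⧸ R, u * v = v * u := by
    intro u v
    obtain ⟨a, rfl⟩ := QuotientGroup.mk'_surjective R u
    obtain ⟨b, rfl⟩ := QuotientGroup.mk'_surjective R v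
    have h : f (a * b * a⁻¹ * b⁻¹) = 1 := (QuotientGroup.eq_one_iff _).2 (hclR a b)
    rwa [map_mul, map_mul, map_mul, map_inv, map_inv, mul_inv_eq_one, mul_inv_eq_iff_eq_mul] at h
  letI : CommGroup (P ⧸ R) := { mul_comm := hcomm }
  let ψ : P →* P ⧸ R :=
    { toFun := fun a => f a * f (φ a)
      map_one' := by simp
      map_mul' := fun a b => by simp only [map_mul]; exact mul_mul_mul_comm _ _ _ _ }
  set T := ψ.ker with hT
  have hTmem : ∀ x, x ∈ T ↔ x * φ x ∈ R := fun x => by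
    rw [hT, MonoidHom.mem_ker, ← QuotientGroup.eq_one_iff]
    rfl
  -- odd order: square roots
  have hodd : Nat.Coprime (Nat.card P) 2 := by
    obtain ⟨a, ha⟩ := hPr.exists_card_eq
    rw [ha]
    exact Nat.Coprime.pow_left _ ((Nat.coprime_primes hr Nat.prime_two).2 hr2)
  have hsq : ∀ g : P, g * g ∈ R → g ∈ R := by
    intro g hg
    obtain ⟨c, hc⟩ : Odd (orderOf g) := by
      rw [← Nat.not_even_iff_odd, even_iff_two_dvd]
      exact fun h => (Nat.Prime.coprime_iff_not_dvd Nat.prime_two).1 hodd.symm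
        (h.trans (orderOf_dvd_natCard g))
    have h1 : g = (g * g) ^ (c + 1) := by
      rw [← sq, ← pow_mul, show 2 * (c + 1) = orderOf g + 1 by omega, pow_succ, pow_orderOf_eq_one,
        one_mul]
    rw [h1]
    exact pow_mem hg _
  have hdec : ∀ x : P, ∃ u v : P, x = u * v ∧ u ∈ T ∧ v⁻¹ * φ v ∈ R := by
    intro x
    set z := (powCoprime hodd).symm x with hz
    have hzx : z ^ 2 = x := (powCoprime hodd).apply_symm_apply x
    refine ⟨z * (φ z)⁻¹, φ z * z, ?_, ?_, ?_⟩
    · rw [← hzx, sq]; group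
    · rw [hTmem, ← QuotientGroup.eq_one_iff]
      show f (z * (φ z)⁻¹ * φ (z * (φ z)⁻¹)) = 1
      simp only [map_mul, map_inv, hφ2]
      group
    · rw [← QuotientGroup.eq_one_iff]
      show f ((φ z * z)⁻¹ * φ (φ z * z)) = 1
      simp only [map_mul, map_inv, hφ2]
      rw [hcomm (f z) (f (φ z)), inv_mul_cancel]
  have hconj : ∀ a r c : P, r ∈ R → σ (a * r * c * (a * r)⁻¹) = σ (a * c * a⁻¹) := by
    intro a r c hr'
    rw [mul_inv_rev, show a * r * c * (r⁻¹ * a⁻¹) = a * (r * c * r⁻¹) * a⁻¹ by group, map_mul,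
      map_mul σ a, map_mul σ (r * c), map_mul σ r, hr' c, mul_assoc (σ c), ← map_mul σ r,
      mul_inv_cancel, map_one, mul_one, ← map_mul, ← map_mul]
  have hscalcomm : ∀ a b c : P, a⁻¹ * b ∈ R →
      σ (a * c * a⁻¹ * c⁻¹) = σ (b * c * b⁻¹ * c⁻¹) ∧ σ (c * a * c⁻¹ * a⁻¹) = σ (c * b * c⁻¹ * b⁻¹) := by
    intro a b c hab
    have hb : b = a * (a⁻¹ * b) := by group
    have h1 : σ (b * c * b⁻¹) = σ (a * c * a⁻¹) := by
      conv_lhs => rw [hb]
      exact hconj a _ c hab
    refine ⟨by rw [map_mul σ (a * c * a⁻¹), map_mul σ (b * c * b⁻¹), h1], ?_⟩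
    have h2 : σ (b * c⁻¹ * b⁻¹) = σ (a * c⁻¹ * a⁻¹) := by
      conv_lhs => rw [hb]
      exact hconj a _ c⁻¹ hab
    rw [show c * a * c⁻¹ * a⁻¹ = c * (a * c⁻¹ * a⁻¹) by group,
      show c * b * c⁻¹ * b⁻¹ = c * (b * c⁻¹ * b⁻¹) by group, map_mul σ c (a * c⁻¹ * a⁻¹),
      map_mul σ c (b * c⁻¹ * b⁻¹), h2]
  have hTC : ∀ u v : P, u ∈ T → v⁻¹ * φ v ∈ R → σ u * σ v = σ v * σ u := by
    intro u v hu hv
    rw [hTmem] at hu
    set z := u * v * u⁻¹ * v⁻¹ with hz
    obtain ⟨c, hc⟩ := exists_smul_of_mem hirr (hclR u v)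
    have h1 : σ (φ z) = σ z := (hRφ z (hclR u v)).2
    have h2 : σ (φ z) = σ z⁻¹ := by
      rw [hz, map_mul φ, map_mul φ, map_mul φ, map_inv φ, map_inv φ,
        ← (hscalcomm u⁻¹ (φ u) (φ v) (by rwa [inv_inv])).1, ← (hscalcomm v (φ v) u⁻¹ hv).2]
      congr 1
      have h5 := hcl v u u
      calc u⁻¹ * v * u⁻¹⁻¹ * v⁻¹ = u⁻¹ * ((v * u * v⁻¹ * u⁻¹) * u) := by group
        _ = (v * u * v⁻¹ * u⁻¹) := by rw [h5, inv_mul_cancel_left]
        _ = (u * v * u⁻¹ * v⁻¹)⁻¹ := by group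
    have h3 : σ (z * z) = 1 := by
      rw [map_mul]
      conv_lhs => arg 2; rw [← h1, h2]
      rw [← map_mul, mul_inv_cancel, map_one]
    obtain ⟨i, hi⟩ : Odd (orderOf z) := by
      rw [← Nat.not_even_iff_odd, even_iff_two_dvd]
      exact fun h => (Nat.Prime.coprime_iff_not_dvd Nat.prime_two).1 hodd.symm
        (h.trans (orderOf_dvd_natCard z))
    have h4 : σ z = 1 := by
      rw [show z = (z * z) ^ (i + 1) by
        rw [← sq, ← pow_mul, show 2 * (i + 1) = orderOf z + 1 by omega, pow_succ, pow_orderOf_eq_one,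
          one_mul], map_pow, h3, one_pow]
    calc σ u * σ v = σ z * (σ v * σ u) := by
          rw [hz, ← map_mul, ← map_mul, ← map_mul]; congr 1; group
      _ = σ v * σ u := by rw [h4, one_mul]
  refine ⟨fun x => ?_, fun u v hu hv => hTC u v ((hTmem u).2 hu) hv, T, hTmem, ?_⟩
  · obtain ⟨u, v, h1, h2, h3⟩ := hdec x
    exact ⟨u, v, h1, (hTmem u).1 h2, h3⟩
  -- the representation of the inverted part
  set TH : Subgroup H := T.map P.subtype with hTH
  have hTα : ∀ x ∈ T, α x ∈ T := fun x hx => by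
    rw [hTmem] at hx ⊢
    have h1 : φ (α x) = α (φ x) := by
      rw [hφα, ← MulAut.mul_apply, ← MulAut.mul_apply, ← pow_succ, ← pow_succ']
    rw [h1, ← map_mul]
    exact hRα _ hx
  have hsTH : s ∈ Subgroup.normalizer (TH : Set H) := by
    refine Subgroup.mem_normalizer_fintype ?_
    rintro _ ⟨x, hx, rfl⟩
    refine ⟨α x, hTα x hx, ?_⟩
    have := hαi 1 x
    rw [pow_one, pow_one] at this
    exact this
  obtain ⟨W, -, hW⟩ := exists_irredSub (ρ := ρ) (Q := TH) (W := (⊤ : Submodule k U)) top_ne_bot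
    fun g _ u _ => Submodule.mem_top
  -- conjugates of `W` under `P`
  have hPTH : ∀ x : P, (x : H) ∈ Subgroup.normalizer (TH : Set H) := by
    intro x
    refine Subgroup.mem_normalizer_fintype ?_
    rintro _ ⟨y, hy, rfl⟩
    refine ⟨x * y * x⁻¹, ?_, by simp⟩
    rw [hT, SetLike.mem_coe, MonoidHom.mem_ker] at hy ⊢
    rw [map_mul, map_mul, hy, mul_one, map_inv, mul_inv_cancel]
  have hlinkP : ∀ x : P, Linked ρ TH W (W.map (ρ (x : H))) := by
    intro x
    obtain ⟨u, v, hx, hu, hv⟩ := hdec x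
    refine ⟨(ρ (v : H)).comp W.subtype |>.comp LinearMap.id, ?_, ?_, ?_⟩
    · intro h0
      obtain ⟨w, hw, hw0⟩ := (Submodule.ne_bot_iff _).1 hW.1
      refine hw0 ?_
      have h1 := LinearMap.congr_fun h0 ⟨w, hw⟩
      simp only [LinearMap.comp_apply, LinearMap.id_apply, Submodule.subtype_apply,
        LinearMap.zero_apply] at h1
      have h2 := congrArg (ρ (v : H)⁻¹) h1
      rwa [apply_inv_apply, map_zero] at h2
    · rintro _ ⟨w, rfl⟩
      refine ⟨ρ (u : H)⁻¹ w, hW.2.1 _ (inv_mem ⟨u, hu, rfl⟩) _ w.2, ?_⟩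
      simp only [LinearMap.comp_apply, LinearMap.id_apply, Submodule.subtype_apply]
      rw [hx, Subgroup.coe_mul, map_mul, Module.End.mul_apply]
      have h1 := LinearMap.congr_fun (hTC u v hu hv) (ρ (u : H)⁻¹ (w : U))
      simp only [hσdef, MonoidHom.comp_apply, Subgroup.coe_subtype, Module.End.mul_apply] at h1
      rw [h1, apply_apply_inv]
    · rintro g ⟨a, ha, rfl⟩ w h
      simp only [LinearMap.comp_apply, LinearMap.id_apply, Submodule.subtype_apply]
      exact (LinearMap.congr_fun (hTC a v ha hv) (w : U)).symm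
  have hWsup : (Finset.univ : Finset P).sup (fun x => W.map (ρ (x : H))) = ⊤ := by
    refine (hirr _ fun g v hv => ?_).resolve_left fun h0 => hW.1 ?_
    · have : (Finset.univ : Finset P).sup (fun x => W.map (ρ (x : H))) ≤
          ((Finset.univ : Finset P).sup (fun x => W.map (ρ (x : H)))).comap (ρ (g : H)) := by
        refine Finset.sup_le fun x _ => ?_
        rw [← Submodule.map_le_iff_le_comap, map_map_mul]
        exact Finset.le_sup (f := fun x : P => W.map (ρ (x : H))) (Finset.mem_univ (g * x))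
      exact this hv
    · rw [eq_bot_iff, ← h0]
      refine le_trans ?_ (Finset.le_sup (f := fun x : P => W.map (ρ (x : H))) (Finset.mem_univ 1))
      simp [Module.End.one_eq_id]
  have hlinks : Linked ρ TH W (W.map (ρ s)) := by
    have hWs := irredSub_map (ρ := ρ) hsTH hW
    obtain ⟨x, -, hx⟩ := exists_linked_of_le_sup hWs (fun x : P => W.map (ρ (x : H))) Finset.univ
      (fun x _ => irredSub_map (hPTH x) hW) (hWsup ▸ le_top)
    exact (hlinkP x).trans hW (irredSub_map (hPTH x) hW) (hx.symm hWs (irredSub_map (hPTH x) hW))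
  obtain ⟨U₁, hU₁, -, hinv⟩ := exists_invariant_copy hW hsTH hlinks
  haveI : Nontrivial U₁ := Submodule.nontrivial_iff_ne_bot.2 hU₁.1
  letI := Fintype.ofFinite TH
  set τ₁ := restrictRep hU₁.2.1 with hτ₁
  have hcardTH : Nat.card TH ∣ Nat.card P := by
    rw [hTH, Subgroup.card_map_of_injective P.subtype_injective]
    exact Subgroup.card_subgroup_dvd_card T
  have hTHk : (Fintype.card TH : k) ≠ 0 := by
    obtain ⟨c, hc⟩ := hcardTH
    rw [← Nat.card_eq_fintype_card]
    intro h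
    exact hPk (by rw [hc, Nat.cast_mul, h, zero_mul])
  -- scalars on `U₁` are scalars on `U`
  have hmem : ∀ (x : P) (hx : x ∈ T),
      (⟨x, ⟨x, hx, rfl⟩⟩ : TH) ∈ scalarSub τ₁ → x ∈ R := by
    intro x hx h1 g
    have hxT : ∀ u : P, u ∈ T → σ x * σ u = σ u * σ x := by
      intro u hu
      obtain ⟨c, hc⟩ := exists_smul_of_mem hirr (hclR x u)
      obtain ⟨w, hw, hw0⟩ := (Submodule.ne_bot_iff _).1 hU₁.1
      have h2 := congrArg Subtype.val (LinearMap.congr_fun (h1 ⟨u, ⟨u, hu, rfl⟩⟩) ⟨w, hw⟩)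
      rw [hτ₁, Module.End.mul_apply, Module.End.mul_apply, restrictRep_apply, restrictRep_apply,
        restrictRep_apply, restrictRep_apply] at h2
      have h3 : σ x * σ u = c • (σ u * σ x) := by
        calc σ x * σ u = σ (x * u * x⁻¹ * u⁻¹) * (σ u * σ x) := by
              rw [← map_mul, ← map_mul, ← map_mul]; congr 1; group
          _ = _ := by rw [hc, smul_mul_assoc, one_mul]
      have h4 := LinearMap.congr_fun h3 w
      simp only [LinearMap.smul_apply, Module.End.mul_apply] at h4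
      have h5 : σ x (σ u w) = σ u (σ x w) := h2
      rw [h5] at h4
      have hne : σ u (σ x w) ≠ 0 := by
        intro h0
        refine hw0 ?_
        have h6 := congrArg (σ x⁻¹) (congrArg (σ u⁻¹) h0)
        rw [apply_inv_apply σ, apply_inv_apply σ, map_zero, map_zero] at h6
        exact h6
      have hc1 : c = 1 := by
        by_contra hc1
        have : (c - 1) • σ u (σ x w) = 0 := by rw [sub_smul, one_smul, ← h4, sub_self]
        exact hne ((smul_eq_zero.1 this).resolve_left (sub_ne_zero.2 hc1))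
      rw [h3, hc1, one_smul]
    obtain ⟨u, v, hg, hu, hv⟩ := hdec g
    rw [hg, map_mul, ← mul_assoc, hxT u hu, mul_assoc, hTC x v hx hv, ← mul_assoc]
  set θ : MulAut TH := Subgroup.normalizerMonoidHom TH ⟨s, hsTH⟩ with hθ
  have hθi : ∀ (i : ℕ) (g : TH), ((θ ^ i) g : H) = s ^ i * g * (s ^ i)⁻¹ := normalizerHom_pow_apply hsTH
  set N := 2 ^ (m + 1) with hN
  haveI : NeZero N := ⟨pow_ne_zero _ two_ne_zero⟩
  haveI : NeZero (N : k) := ⟨by rw [hN, Nat.cast_pow]; exact pow_ne_zero _ (by simpa using hk2)⟩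
  obtain ⟨ζ, hζ⟩ := HasEnoughRootsOfUnity.exists_primitiveRoot k N
  let A : Module.End k U₁ := (ρ s).restrict hinv
  have hAN : A ^ N = 1 := LinearMap.ext fun u => Subtype.ext (by
    have : ∀ i : ℕ, ((A ^ i) u : U) = ρ (s ^ i) (u : U) := by
      intro i
      induction i with
      | zero => simp
      | succ i ih =>
        rw [pow_succ', Module.End.mul_apply, pow_succ' s, map_mul, Module.End.mul_apply, ← ih]
        rfl
    rw [this, hN, hsN, map_one]; rfl)
  have hA : ∀ g, A * τ₁ g = τ₁ (θ g) * A := fun g => LinearMap.ext fun u => Subtype.ext (by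
    show ρ s (ρ (g : H) (u : U)) = ρ ((θ g : TH) : H) (ρ s (u : U))
    have := hθi 1 g
    rw [pow_one, pow_one] at this
    rw [this, ← Module.End.mul_apply, ← Module.End.mul_apply, ← map_mul, ← map_mul,
      inv_mul_cancel_right])
  have hθN : θ ^ N = 1 := MulEquiv.ext fun g => Subtype.ext (by
    rw [hθi, hN, hsN, inv_one, one_mul, mul_one]; rfl)
  have hclT : ∀ a b : TH, a * b * a⁻¹ * b⁻¹ ∈ scalarSub τ₁ := by
    rintro ⟨_, a, _, rfl⟩ ⟨_, b, _, rfl⟩
    refine mem_scalarSub_of_central τ₁ ?_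
    rintro ⟨_, c, _, rfl⟩
    exact Subtype.ext (congrArg (fun z : P => (z : H)) (hcl a b c))
  have hfree : ∀ i, 0 < i → i < N → ∀ g, g⁻¹ * (θ ^ i) g ∈ scalarSub τ₁ → g ∈ scalarSub τ₁ := by
    rintro i hi hiN ⟨_, g, hg, rfl⟩ h
    have hgi : g⁻¹ * (α ^ i) g ∈ T := by
      refine mul_mem (inv_mem hg) ?_
      clear h hi hiN
      induction i with
      | zero => exact hg
      | succ i ih => rw [pow_succ', MulAut.mul_apply]; exact hTα _ ih
    have h' : g⁻¹ * (α ^ i) g ∈ R := by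
      refine hmem _ hgi ?_
      convert h using 1
      refine Subtype.ext ?_
      simp only [Subgroup.coe_mul, Subgroup.coe_inv, hθi, hαi, Subgroup.coe_subtype]
    have h2 := fixed_coset_of_pow α Nat.prime_two hαN hRα hi hiN h'
    rw [← hφα] at h2
    have h3 : g ∈ R := hsq g (by
      have h4 := (hTmem g).1 hg
      have h5 : f (g * g) = 1 := by
        have e1 : f (g * φ g) = 1 := (QuotientGroup.eq_one_iff _).2 h4
        have e2 : f (g⁻¹ * φ g) = 1 := (QuotientGroup.eq_one_iff _).2 h2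
        rw [map_mul, map_inv, inv_mul_eq_one] at e2
        rw [map_mul, ← e2] at e1
        rw [map_mul, e1]
      exact (QuotientGroup.eq_one_iff _).1 h5)
    rintro ⟨_, c, _, rfl⟩
    refine LinearMap.ext fun u => Subtype.ext ?_
    exact LinearMap.congr_fun (h3 c) (u : U)
  have hdim := finrank_of_free (isIrred_restrictRep hU₁) hTHk hclT (N := N)
    (Nat.le_self_pow (Nat.succ_ne_zero m) 2) hζ hA hAN hθN hfree
    (fun u hu => Subtype.ext (hfix _ (congrArg Subtype.val hu)))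
  have hidx := index_scalarSub (isIrred_restrictRep hU₁) hTHk hclT
  rw [← hτ₁] at hidx
  obtain ⟨a, ha⟩ := hPr.exists_card_eq
  have hdvd : finrank k U₁ ∣ r ^ a := ha ▸
    (dvd_mul_right _ _).trans ((hidx ▸ Subgroup.index_dvd_card _).trans hcardTH)
  obtain ⟨e, -, he⟩ := (Nat.dvd_prime_pow hr).1 hdvd
  have hidx2 : (scalarSub τ₁).index ∣ r ^ 2 := by
    rw [hidx, he, ← pow_add]
    refine pow_dvd_pow r ?_
    rcases hdim with h | h
    · rcases Nat.eq_zero_or_pos e with h0 | h0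
      · omega
      · rw [he, hN] at h
        have := eq_one_of_pow_add_one_eq_two_pow (hr.odd_of_ne_two hr2) hr.two_le h0 h
        omega
    · rw [he] at h
      rcases Nat.eq_zero_or_pos e with h0 | h0
      · omega
      · exact absurd h (Nat.one_lt_pow h0.ne' hr.one_lt).ne'
  obtain ⟨⟨_, a₁, ha₁, rfl⟩, ⟨_, b₁, hb₁, rfl⟩, hgen⟩ := exists_two_generators hr hidx2
  refine ⟨a₁, ha₁, b₁, hb₁, fun x hx => ?_⟩
  let ι : T →* TH := (P.subtype.subgroupMap T)
  have hsur : Function.Surjective ι := P.subtype.subgroupMap_surjective T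
  have hle : scalarSub τ₁ ⊔ Subgroup.zpowers (⟨_, a₁, ha₁, rfl⟩ : TH) ⊔
      Subgroup.zpowers (⟨_, b₁, hb₁, rfl⟩ : TH) ≤
      ((R ⊔ Subgroup.zpowers a₁ ⊔ Subgroup.zpowers b₁).subgroupOf T).map ι := by
    refine sup_le (sup_le ?_ ?_) ?_
    · rintro ⟨_, z, hz, rfl⟩ h
      exact ⟨⟨z, hz⟩, Subgroup.mem_sup_left (Subgroup.mem_sup_left (hmem z hz h)), rfl⟩
    · rw [Subgroup.zpowers_le]
      exact ⟨⟨a₁, ha₁⟩, Subgroup.mem_sup_left (Subgroup.mem_sup_right (Subgroup.mem_zpowers a₁)), rfl⟩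
    · rw [Subgroup.zpowers_le]
      exact ⟨⟨b₁, hb₁⟩, Subgroup.mem_sup_right (Subgroup.mem_zpowers b₁), rfl⟩
  obtain ⟨⟨z, hz⟩, hzm, hzx⟩ := hle (hgen.symm ▸ Subgroup.mem_top (⟨_, x, hx, rfl⟩ : TH))
  have hzx' : z = x := Subtype.ext (congrArg (fun w : TH => (w : H)) hzx)
  rwa [← hzx']

end Cfsg.Agent.Lib.ShultGross
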