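import Cfsg.Agent.Lib.ShultGross.DualSection
import Cfsg.Agent.Lib.ShultGross.Inverted
import Cfsg.Agent.Lib.ShultGross.Period

/-!
# The two-step configuration in Gross's theorem

`Q = [Q, y]` acts on a class two `r`-group `P = [P, Q]`, which acts faithfully on a module on which `t`
has no fixed vector; `y = t ^ 2 ^ n`.  This is impossible.
-/

set_option autoImplicit false
set_option linter.style.haveILetI false

namespace Cfsg.Agent.Lib.ShultGross

open Module
open Cfsg.Agent.Lib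
open Cfsg.Agent.Lib.HallHigmanB

variable {k V H : Type*} [Field k] [IsAlgClosed k] [AddCommGroup V] [Module k V]
  [FiniteDimensional k V] [Group H] [Finite H]

omit [IsAlgClosed k] [Finite H] in
/-- The elements fixing an isomorphism class. -/
theorem linked_mul {P : Subgroup H} [P.Normal] {ρ : H →* Module.End k V} {U : Submodule k V}
    (hU : IrredSub ρ P U) {g h : H} (hg : Linked ρ P U (U.map (ρ g)))
    (hh : Linked ρ P U (U.map (ρ h))) : Linked ρ P U (U.map (ρ (g * h))) := by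
  have hn : ∀ a : H, a ∈ Subgroup.normalizer (P : Set H) := fun a => by
    rw [Subgroup.normalizer_eq_top_iff.2 inferInstance]; exact Subgroup.mem_top a
  have h1 := hh.map (hn g) hU.2.1
  rw [map_map_mul] at h1
  exact hg.trans hU (irredSub_map (hn g) hU) h1

omit [IsAlgClosed k] [Finite H] in
/-- An element fixing the class maps scalar elements to scalar elements with the same scalar. -/
theorem smul_conj_of_linked {P : Subgroup H} [P.Normal] {ρ : H →* Module.End k V} {U : Submodule k V}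
    (hU : IrredSub ρ P U) {g : H} (hg : Linked ρ P U (U.map (ρ g))) {x : P} {c : k}
    (hx : restrictRep hU.2.1 x = c • 1) : restrictRep hU.2.1 (MulAut.conjNormal g x) = c • 1 := by
  obtain ⟨f, hf0, hfr, hf⟩ := hg
  have hinj := injective_of_intertwine hU f hf0 hf
  refine LinearMap.ext fun w => hinj ?_
  have hw : (restrictRep hU.2.1 (MulAut.conjNormal g x)) w =
      ⟨ρ ((MulAut.conjNormal g x : P) : H) w, hU.2.1 _ (MulAut.conjNormal g x).2 w w.2⟩ := rfl
  rw [hw, hf _ (MulAut.conjNormal g x).2, LinearMap.smul_apply, Module.End.one_apply, map_smul]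
  obtain ⟨u, hu, huw⟩ := hfr ⟨w, rfl⟩
  rw [← huw, MulAut.conjNormal_apply, map_mul, map_mul, Module.End.mul_apply, Module.End.mul_apply,
    apply_inv_apply]
  have h1 : ρ (x : H) u = c • u := congrArg Subtype.val (LinearMap.congr_fun hx ⟨u, hu⟩)
  rw [h1, map_smul]

theorem false_of_moved (ρ : H →* Module.End k V) {t : H} {n : ℕ} (htn : t ^ 2 ^ (n + 1) = 1)
    (hfix : ∀ v, ρ t v = v → v = 0) (hk2 : (2 : k) ≠ 0) {r q : ℕ} (hr : r.Prime) (hq : q.Prime)
    (hrq : r ≠ q) (hr2 : r ≠ 2) {P : Subgroup H} [P.Normal] (hρ : ∀ g ∈ P, ρ g = 1 → g = 1)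
    (hPr : IsPGroup r P) (hPk : (Nat.card P : k) ≠ 0) (hPfpf : ∀ g ∈ P, t * g * t⁻¹ = g → g = 1)
    (hP3 : ∀ a b c : P, a * b * a⁻¹ * b⁻¹ * c = c * (a * b * a⁻¹ * b⁻¹))
    (hPpow : ∀ a c : P, a ^ r * c = c * a ^ r) (hPne : P ≠ ⊥) {Q : Subgroup H}
    (hQt : t ∈ Subgroup.normalizer (Q : Set H)) (hQq : IsPGroup q Q)
    (hQfpf : ∀ g ∈ Q, t * g * t⁻¹ = g → g = 1)
    (hQy : ⁅Q, Subgroup.zpowers (t ^ 2 ^ n)⁆ = Q)
    (hQC : ⁅⁅Q, Q⁆, Q⁆ ≤ Subgroup.centralizer (P : Set H)) (hPQ : ⁅P, Q⁆ = P) : False := by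
  classical
  have hn : ∀ a : H, a ∈ Subgroup.normalizer (P : Set H) := fun a => by
    rw [Subgroup.normalizer_eq_top_iff.2 inferInstance]; exact Subgroup.mem_top a
  set y := t ^ 2 ^ n with hy
  have hy2 : y * y = 1 := by rw [hy, ← pow_add, ← two_mul, ← pow_succ', htn]
  -- `y` moves `P`
  obtain ⟨x₀, hx₀⟩ : ∃ x : P, MulAut.conjNormal y x ≠ x := by
    by_contra hall
    push Not at hall
    have hPy : ⁅P, Subgroup.zpowers y⁆ = ⊥ := by
      rw [Subgroup.commutator_eq_bot_iff_le_centralizer, centralizer_zpowers_eq_singleton]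
      intro x hx
      rw [Subgroup.mem_centralizer_singleton_iff]
      have h := congrArg Subtype.val (hall ⟨x, hx⟩)
      rw [MulAut.conjNormal_apply] at h
      exact (mul_inv_eq_iff_eq_mul.1 h).symm
    have h1 : ⁅⁅Subgroup.zpowers y, P⁆, Q⁆ = ⊥ := by
      rw [Subgroup.commutator_comm (Subgroup.zpowers y) P, hPy, Subgroup.commutator_bot_left]
    have h2 : ⁅⁅P, Q⁆, Subgroup.zpowers y⁆ = ⊥ := by rw [hPQ, hPy]
    have h3 := Subgroup.commutator_commutator_eq_bot_of_rotate h1 h2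
    rw [hQy, Subgroup.commutator_comm, hPQ] at h3
    exact hPne h3
  -- some constituent sees it
  obtain ⟨U, hU, hUx⟩ : ∃ U, IrredSub ρ P U ∧ ∃ u ∈ U,
      ρ ((x₀⁻¹ * MulAut.conjNormal y x₀ : P) : H) u ≠ u := by
    by_contra hall
    push Not at hall
    let K : Subgroup H :=
      { carrier := {g | g ∈ P ∧ ∀ U, IrredSub ρ P U → ∀ u ∈ U, ρ g u = u}
        one_mem' := ⟨one_mem _, fun U _ u _ => by simp⟩
        mul_mem' := fun {a b} ha hb => ⟨mul_mem ha.1 hb.1, fun U hU u hu => by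
          rw [map_mul, Module.End.mul_apply, hb.2 U hU u hu, ha.2 U hU u hu]⟩
        inv_mem' := fun {a} ha => ⟨inv_mem ha.1, fun U hU u hu => by
          conv_lhs => rw [← ha.2 U hU u hu, apply_inv_apply]⟩ }
    set z := ((x₀⁻¹ * MulAut.conjNormal y x₀ : P) : H) with hz
    have hzK : z ∈ K := ⟨(x₀⁻¹ * MulAut.conjNormal y x₀ : P).2, hall⟩
    have hz1 : z ≠ 1 := fun h => hx₀ (inv_mul_eq_one.1 (Subtype.ext h : x₀⁻¹ * _ = 1)).symm
    letI := Fintype.ofFinite K
    have hKk : (Fintype.card K : k) ≠ 0 := by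
      intro h
      obtain ⟨c, hc⟩ := Subgroup.card_dvd_of_le (show K ≤ P from fun g hg => hg.1)
      exact hPk (by rw [hc, Nat.cast_mul, Nat.card_eq_fintype_card, h, zero_mul])
    let S : Module.End k V := ∑ g : K, ρ g
    have hSinv : ∀ g ∈ K, ∀ v, S (ρ g v) = S v := by
      intro g hg v
      suffices h : S * ρ g = S from LinearMap.congr_fun h v
      rw [Finset.sum_mul]
      refine Fintype.sum_equiv (Equiv.mulRight (⟨g, hg⟩ : K)) _ _ fun x => ?_
      exact (map_mul ρ _ _).symm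
    have hker : LinearMap.ker S ≠ ⊥ := by
      intro h0
      refine hz1 (hρ z hzK.1 (LinearMap.ext fun v => ?_))
      rw [Module.End.one_apply]
      exact LinearMap.ker_eq_bot.1 h0 (hSinv z hzK v)
    have hKconj : ∀ p ∈ P, ∀ g ∈ K, p⁻¹ * g * p ∈ K := by
      intro p hp g hg
      refine ⟨mul_mem (mul_mem (inv_mem hp) hg.1) hp, fun U hU u hu => ?_⟩
      rw [map_mul, map_mul, Module.End.mul_apply, Module.End.mul_apply,
        hg.2 U hU _ (hU.2.1 p hp u hu), apply_inv_apply]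
    have hinv : Invt ρ P (LinearMap.ker S) := by
      intro p hp w hw
      rw [LinearMap.mem_ker] at hw ⊢
      have : S * ρ p = ρ p * S := by
        rw [Finset.sum_mul, Finset.mul_sum]
        let e : K ≃ K :=
          { toFun := fun g => ⟨p⁻¹ * g * p, hKconj p hp g g.2⟩
            invFun := fun g => ⟨p * g * p⁻¹, by simpa using hKconj p⁻¹ (inv_mem hp) g g.2⟩
            left_inv := fun g => Subtype.ext (by group)
            right_inv := fun g => Subtype.ext (by group) }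
        refine Fintype.sum_equiv e _ _ fun g => ?_
        show ρ (g : H) * ρ p = ρ p * ρ (p⁻¹ * g * p)
        rw [← map_mul, ← map_mul]
        congr 1
        group
      have h1 := LinearMap.congr_fun this w
      rw [Module.End.mul_apply, Module.End.mul_apply, hw, map_zero] at h1
      exact h1
    obtain ⟨W, hWle, hW⟩ := exists_irredSub hker hinv
    obtain ⟨w, hw, hw0⟩ := (Submodule.ne_bot_iff _).1 hW.1
    have h1 : S w = (Fintype.card K : k) • w := by
      simp only [S, LinearMap.coe_sum, Finset.sum_apply]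
      rw [Finset.sum_congr rfl fun (g : K) _ => g.2.2 W hW w hw, Finset.sum_const, Finset.card_univ,
        ← Nat.cast_smul_eq_nsmul k]
    rw [LinearMap.mem_ker.1 (hWle hw)] at h1
    exact hw0 ((smul_eq_zero.1 h1.symm).resolve_left hKk)
  -- a copy with a period
  obtain ⟨U₀, c, hcn, hU₀, hUU₀, heq, hmin⟩ := exists_period (hn t) Nat.prime_two htn hfix hU
  obtain ⟨u₀, hu₀⟩ : ∃ u : U₀,
      restrictRep hU₀.2.1 (x₀⁻¹ * MulAut.conjNormal y x₀) u ≠ u := by
    obtain ⟨f, hf0, hfr, hf⟩ := hUU₀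
    obtain ⟨u, hu, hne⟩ := hUx
    refine ⟨⟨f ⟨u, hu⟩, hfr ⟨_, rfl⟩⟩, fun h => hne ?_⟩
    have h' : ρ ((x₀⁻¹ * MulAut.conjNormal y x₀ : P) : H) (f ⟨u, hu⟩) = f ⟨u, hu⟩ := congrArg Subtype.val h
    rw [← hf _ (x₀⁻¹ * MulAut.conjNormal y x₀).2 ⟨u, hu⟩ (hU.2.1 _ (x₀⁻¹ * MulAut.conjNormal y x₀).2 u hu)]
      at h'
    exact congrArg Subtype.val (injective_of_intertwine hU f hf0 hf h')
  haveI : Nontrivial U₀ := Submodule.nontrivial_iff_ne_bot.2 hU₀.1
  set σ := restrictRep hU₀.2.1 with hσdef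
  have hσ : IsIrred σ := isIrred_restrictRep hU₀
  set R := scalarSub σ with hRdef
  obtain ⟨m, hm⟩ : ∃ m, n = c + m := ⟨n - c, by omega⟩
  have hyU : U₀.map (ρ y) = U₀ := by
    rw [hy, hm, pow_add]
    exact map_pow_mul_eq heq _
  have hlinky : Linked ρ P U₀ (U₀.map (ρ y)) := hyU.symm ▸ Linked.refl hU₀
  -- the class is fixed by `Q`
  have hlinkQ : ∀ g ∈ Q, Linked ρ P U₀ (U₀.map (ρ g)) := by
    let S : Subgroup H :=
      { carrier := {g | Linked ρ P U₀ (U₀.map (ρ g))}
        one_mem' := by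
          show Linked ρ P U₀ (U₀.map (ρ 1))
          rw [map_one, Module.End.one_eq_id, Submodule.map_id]
          exact Linked.refl hU₀
        mul_mem' := fun {a b} ha hb => linked_mul hU₀ ha hb
        inv_mem' := fun {a} ha => by
          have h1 := (Linked.map (hn a⁻¹) hU₀.2.1 ha)
          rw [map_map_inv] at h1
          exact h1.symm (irredSub_map (hn _) hU₀) hU₀ }
    have hyS : y ∈ S := hlinky
    have hle : ⁅Q, Subgroup.zpowers y⁆ ≤ S := by
      rw [Subgroup.commutator_le]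
      intro g _ z hz
      have hconj : g * y * g⁻¹ ∈ S := by
        have h1 := linked_map_top_pow (hn t) Nat.prime_two htn hfix (irredSub_map (hn g⁻¹) hU₀)
        have h2 := h1.map (hn g) (irredSub_map (hn g⁻¹) hU₀).2.1
        rw [← hy, map_map_mul, map_map_mul, mul_inv_cancel, map_one, Module.End.one_eq_id,
          Submodule.map_id, map_map_mul] at h2
        exact h2
      obtain ⟨i, rfl⟩ := Subgroup.mem_zpowers_iff.1 hz
      rw [commutatorElement_def]
      refine mul_mem ?_ (inv_mem (zpow_mem hyS i))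
      rw [← conj_zpow]
      exact zpow_mem hconj i
    rw [hQy] at hle
    exact fun g hg => hle hg
  have hRconj : ∀ g, Linked ρ P U₀ (U₀.map (ρ g)) → ∀ x ∈ R,
      MulAut.conjNormal g x ∈ R ∧ σ (MulAut.conjNormal g x) = σ x := by
    intro g hg x hx
    obtain ⟨a, ha⟩ := exists_smul_of_mem hσ hx
    have h := smul_conj_of_linked hU₀ hg ha
    exact ⟨mem_scalarSub_of_smul h, h.trans ha.symm⟩
  have hclR : ∀ a b : P, a * b * a⁻¹ * b⁻¹ ∈ R := fun a b => mem_scalarSub_of_central σ (hP3 a b)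
  have hpowR : ∀ a : P, a ^ r ∈ R := fun a => mem_scalarSub_of_central σ (hPpow a)
  have hRtop : R ≠ ⊤ := by
    intro htop
    refine hu₀ ?_
    rw [map_mul, (hRconj y hlinky x₀ (htop ▸ Subgroup.mem_top x₀)).2, ← map_mul, inv_mul_cancel,
      map_one, Module.End.one_apply]
  -- the inverted part, computed in the stabiliser of `U₀`
  let H₀ : Subgroup H :=
    { carrier := {g | U₀.map (ρ g) = U₀}
      one_mem' := by
        show U₀.map (ρ 1) = U₀
        rw [map_one, Module.End.one_eq_id, Submodule.map_id]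
      mul_mem' := fun {a b} (ha : U₀.map (ρ a) = U₀) (hb : U₀.map (ρ b) = U₀) => by
        show U₀.map (ρ (a * b)) = U₀
        rw [← map_map_mul, hb, ha]
      inv_mem' := fun {a} (ha : U₀.map (ρ a) = U₀) => by
        show U₀.map (ρ a⁻¹) = U₀
        conv_lhs => rw [← ha]
        exact map_map_inv ρ U₀ a }
  have hH₀inv : Invt ρ H₀ U₀ := fun g hg w hw =>
    (hg : U₀.map (ρ g) = U₀) ▸ Submodule.mem_map_of_mem hw
  have hPH₀ : P ≤ H₀ := fun g hg => map_eq_self_of_irred hU₀ (hn g) (hU₀.2.1 g hg)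
  set ρ₀ := restrictRep hH₀inv with hρ₀def
  set P₀ := P.subgroupOf H₀ with hP₀
  let e : P₀ ≃* P := Subgroup.subgroupOfEquivOfLe hPH₀
  have hρe : ∀ a : P₀, ρ₀ (a : H₀) = σ (e a) := fun a => rfl
  have hmemR : ∀ a : P₀, a ∈ scalarSub (ρ₀.comp P₀.subtype) ↔ e a ∈ R := by
    intro a
    constructor
    · intro h g
      have h1 := h (e.symm g)
      simp only [MonoidHom.comp_apply, Subgroup.coe_subtype, hρe, MulEquiv.apply_symm_apply] at h1
      exact h1
    · intro h b
      simp only [MonoidHom.comp_apply, Subgroup.coe_subtype, hρe]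
      exact h (e b)
  let s : H₀ := ⟨t ^ 2 ^ c, heq⟩
  have hsy : ((s ^ 2 ^ m : H₀) : H) = y := by
    rw [SubmonoidClass.coe_pow]
    show (t ^ 2 ^ c) ^ 2 ^ m = y
    rw [← pow_mul, ← pow_add, hy, hm]
  have heφ : ∀ a : P₀, e (MulAut.conjNormal (s ^ 2 ^ m) a) = MulAut.conjNormal y (e a) := fun a => by
    refine Subtype.ext ?_
    show ((MulAut.conjNormal (s ^ 2 ^ m) a : P₀) : H₀).1 = _
    rw [MulAut.conjNormal_apply, MulAut.conjNormal_apply, Subgroup.coe_mul, Subgroup.coe_mul,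
      Subgroup.coe_inv, hsy]
    rfl
  obtain ⟨hdec₀, hTC₀, T₀, hT₀, a₀, ha₀, b₀, hb₀, hgen₀⟩ := inverted_part ρ₀ hk2 (P := P₀) hr hr2
    (hPr.of_equiv e.symm)
    (by rwa [Nat.card_congr e.toEquiv])
    (fun a b c => e.injective (by simp only [map_mul, map_inv]; exact hP3 _ _ _))
    (fun W hW => hσ W fun g w hw => by
      have := hW (e.symm g) w hw
      simpa only [MonoidHom.comp_apply, Subgroup.coe_subtype, hρe, MulEquiv.apply_symm_apply] using this)
    (s := s) (by rw [Subgroup.normalizer_eq_top_iff.2 inferInstance]; exact Subgroup.mem_top s) (m := m)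
    (Subtype.ext (by
      rw [SubmonoidClass.coe_pow]
      show (t ^ 2 ^ c) ^ 2 ^ (m + 1) = 1
      rw [← pow_mul, ← pow_add, show c + (m + 1) = n + 1 by omega, htn]))
    (fun u hu => Subtype.ext (hmin.eq_zero_of_fixed (hn t) hfix hU₀ (pow_pos two_pos c) u.2
      (congrArg Subtype.val hu)))
    (MulAut.conjNormal (s ^ 2 ^ m)) (fun x => by rw [MulAut.conjNormal_apply])
  set φ : MulAut P := MulAut.conjNormal y with hφdef
  have hsend : ∀ a : P₀, a * MulAut.conjNormal (s ^ 2 ^ m) a ∈ scalarSub (ρ₀.comp P₀.subtype) ↔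
      e a * φ (e a) ∈ R := fun a => by rw [hmemR, map_mul, heφ]
  have hsend' : ∀ a : P₀, a⁻¹ * MulAut.conjNormal (s ^ 2 ^ m) a ∈ scalarSub (ρ₀.comp P₀.subtype) ↔
      (e a)⁻¹ * φ (e a) ∈ R := fun a => by rw [hmemR, map_mul, map_inv, heφ]
  have hTC : ∀ u v : P, u * φ u ∈ R → v⁻¹ * φ v ∈ R → σ u * σ v = σ v * σ u := by
    intro u v hu hv
    have := hTC₀ (e.symm u) (e.symm v) ((hsend _).2 (by rwa [MulEquiv.apply_symm_apply]))
      ((hsend' _).2 (by rwa [MulEquiv.apply_symm_apply]))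
    simpa only [hρe, MulEquiv.apply_symm_apply] using this
  have hdec : ∀ x : P, ∃ u v : P, x = u * v ∧ u * φ u ∈ R ∧ v⁻¹ * φ v ∈ R := by
    intro x
    obtain ⟨u, v, h1, h2, h3⟩ := hdec₀ (e.symm x)
    exact ⟨e u, e v, by rw [← map_mul, ← h1, MulEquiv.apply_symm_apply], (hsend u).1 h2, (hsend' v).1 h3⟩
  let T : Subgroup P := T₀.map e.toMonoidHom
  have hT : ∀ x, x ∈ T ↔ x * φ x ∈ R := by
    intro x
    obtain ⟨a, rfl⟩ := e.surjective x
    rw [← hsend, ← hT₀]
    exact Subgroup.mem_map_iff_mem (f := e.toMonoidHom) e.injective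
  refine false_of_inverted_rank_two htn hr hq hrq hr2 hPr hPfpf hQt hQq hQfpf hQy hQC hPQ R hRtop
    (fun g hg x hx => (hRconj g (hlinkQ g hg) x hx).1) hclR hpowR
    (fun x hx => (hRconj y hlinky x hx).1) hdec T hT
    ⟨e a₀, Subgroup.mem_map_of_mem _ ha₀, e b₀, Subgroup.mem_map_of_mem _ hb₀, ?_⟩ ?_
  · rintro _ ⟨a, ha, rfl⟩
    have hle : scalarSub (ρ₀.comp P₀.subtype) ⊔ Subgroup.zpowers a₀ ⊔ Subgroup.zpowers b₀ ≤
        (R ⊔ Subgroup.zpowers (e a₀) ⊔ Subgroup.zpowers (e b₀)).comap e.toMonoidHom := by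
      refine sup_le (sup_le (fun z hz => ?_) ?_) ?_
      · exact Subgroup.mem_sup_left (Subgroup.mem_sup_left ((hmemR z).1 hz))
      · rw [Subgroup.zpowers_le]
        exact Subgroup.mem_sup_left (Subgroup.mem_sup_right (Subgroup.mem_zpowers _))
      · rw [Subgroup.zpowers_le]
        exact Subgroup.mem_sup_right (Subgroup.mem_zpowers _)
    exact hle (hgen₀ ha)
  · intro x hx hxR
    obtain ⟨z, hz, hne⟩ : ∃ z : P, z⁻¹ * φ z ∈ R ∧ σ x * σ z ≠ σ z * σ x := by
      by_contra hall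
      push Not at hall
      refine hxR fun g => ?_
      obtain ⟨u, v, hg, hu, hv⟩ := hdec g
      rw [hg, map_mul, ← mul_assoc, ← hTC u x hu hx, mul_assoc, hall v hv, mul_assoc]
    refine ⟨z, hz, fun hzX => hne ?_⟩
    let Cx : Subgroup P :=
      { carrier := {g | σ x * σ g = σ g * σ x}
        one_mem' := by simp
        mul_mem' := fun {a b} (ha : σ x * σ a = σ a * σ x) (hb : σ x * σ b = σ b * σ x) => by
          show σ x * σ (a * b) = σ (a * b) * σ x
          rw [map_mul, ← mul_assoc, ha, mul_assoc, hb, mul_assoc]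
        inv_mem' := fun {a} (ha : σ x * σ a = σ a * σ x) => by
          show σ x * σ a⁻¹ = σ a⁻¹ * σ x
          calc σ x * σ a⁻¹ = σ a⁻¹ * (σ a * σ x) * σ a⁻¹ := by
                rw [← mul_assoc, ← map_mul σ a⁻¹ a, inv_mul_cancel, map_one, one_mul]
            _ = σ a⁻¹ * σ x := by
                rw [← ha, mul_assoc, mul_assoc, ← map_mul σ a a⁻¹, mul_inv_cancel, map_one, mul_one] }
    have hle : T ⊔ Subgroup.zpowers x ≤ Cx :=
      sup_le (fun g hg => (hTC g x ((hT g).1 hg) hx).symm) (Subgroup.zpowers_le.2 rfl)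
    exact hle hzX

end Cfsg.Agent.Lib.ShultGross
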