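import Cfsg.Agent.Lib.ShultGross.SmallOrder
import Cfsg.Agent.Lib.Ward.Dual
import Cfsg.Agent.Lib.Core.Fitting
import Cfsg.Agent.Lib.Coprime.Semidirect
import Cfsg.Agent.Lib.FittingLength.Residual

/-!
# The theorem of Shult and Gross: reduction to modules

`σ` of order dividing `p ^ (n + 1)`, `p` odd, fixed-point-free on the solvable group `G`: then
`σ ^ p ^ n` centralises `G ⧸ F(G)`, so the Fitting height is at most the exponent.
-/

set_option autoImplicit false
set_option linter.style.haveILetI false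

namespace Cfsg.Agent.Lib.ShultGross

open Subgroup
open Cfsg.Agent.Lib
open scoped Pointwise

/-- A fixed-point-free automorphism of `p`-power order forces an order prime to `p`. -/
theorem coprime_card_of_fpf {G : Type*} [Group G] [Finite G] {p : ℕ} (hp : p.Prime) {σ : MulAut G}
    {n : ℕ} (hσ : σ ^ p ^ n = 1) (hfpf : ∀ g, σ g = g → g = 1) : p.Coprime (Nat.card G) := by
  haveI := Fact.mk hp
  obtain ⟨a, -, ha⟩ := (Nat.dvd_prime_pow hp).1 (orderOf_dvd_of_pow_eq_one hσ)
  have hA : IsPGroup p (zpowers σ) := IsPGroup.of_card (n := a) (by rw [Nat.card_zpowers, ha])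
  have hfix : MulAction.fixedPoints (zpowers σ) G = {1} := by
    ext g
    rw [Set.mem_singleton_iff, MulAction.mem_fixedPoints]
    refine ⟨fun h => hfpf g (h ⟨σ, mem_zpowers σ⟩), fun h s => ?_⟩
    subst h
    exact map_one (s : MulAut G)
  have h1 := hA.card_modEq_card_fixedPoints G
  rw [hfix, Nat.card_coe_set_eq, Set.ncard_singleton] at h1
  rw [hp.coprime_iff_not_dvd]
  intro hdvd
  exact hp.one_lt.ne' (Nat.dvd_one.mp ((Nat.ModEq.dvd_iff h1 dvd_rfl).mp hdvd))

/-- An invariant Sylow subgroup, by the bijection `h ↦ (σ h)⁻¹ * h`. -/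
theorem exists_fpf_invariant_sylow {K : Type*} [Group K] [Finite K] {σ : MulAut K}
    (hfpf : ∀ g, σ g = g → g = 1) (q : ℕ) [Fact q.Prime] : ∃ P : Sylow q K, σ • P = P := by
  classical
  obtain ⟨P⟩ := (inferInstance : Nonempty (Sylow q K))
  obtain ⟨g, hg⟩ := MulAction.exists_smul_eq K P (σ • P)
  have hinj : Function.Injective fun h : K => (σ h)⁻¹ * h := by
    intro a b hab
    refine (mul_inv_eq_one.1 (hfpf _ ?_))
    have h1 : (σ a)⁻¹ * a = (σ b)⁻¹ * b := hab
    rw [map_mul, map_inv]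
    calc σ a * (σ b)⁻¹ = a * ((σ a)⁻¹ * a)⁻¹ * (σ b)⁻¹ := by group
      _ = a * ((σ b)⁻¹ * b)⁻¹ * (σ b)⁻¹ := by rw [h1]
      _ = a * b⁻¹ := by group
  obtain ⟨h, hh⟩ := Finite.surjective_of_injective hinj g
  refine ⟨h • P, ?_⟩
  have hkey : σ * MulAut.conj h = MulAut.conj (σ h) * σ := by
    ext x
    simp [MulAut.mul_apply, map_mul, map_inv]
  calc σ • h • P = (σ * MulAut.conj h) • P := by rw [mul_smul]; rfl
    _ = MulAut.conj (σ h) • σ • P := by rw [hkey, mul_smul]
    _ = σ h • g • P := by rw [hg]; rfl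
    _ = (σ h * g) • P := (mul_smul _ _ _).symm
    _ = h • P := by rw [← hh, mul_inv_cancel_left]

/-- The homomorphisms to a field of characteristic `r` detect the Frattini quotient. -/
theorem mem_frattini_of_forall_hom {R : Type*} [Group R] [Finite R] {r : ℕ} [Fact r.Prime]
    (hR : IsPGroup r R) {L : Type*} [Field L] [CharP L r] {v : R}
    (hv : ∀ f : R → L, (∀ a b, f (a * b) = f a + f b) → f v = 0) : v ∈ frattini R := by
  simp only [frattini, Order.radical, mem_iInf, Set.mem_ofPred_eq]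
  intro M hM
  haveI : Group.IsNilpotent R := hR.isNilpotent
  haveI hMn : M.Normal := NormalizerCondition.normal_of_coatom M Group.normalizerCondition_of_isNilpotent hM
  haveI : Nontrivial (R ⧸ M) := (QuotientGroup.nontrivial_iff).2 hM.1
  have hcard : Nat.card (R ⧸ M) = r := by
    obtain ⟨a, ha⟩ := (hR.to_quotient M).exists_card_eq
    obtain ⟨S, hS⟩ := Sylow.exists_subgroup_card_pow_prime r (G := R ⧸ M) (n := 1) (by
      rw [ha]; exact pow_dvd_pow r (by
        rcases Nat.eq_zero_or_pos a with h | h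
        · rw [h, pow_zero] at ha
          exact absurd ha (Finite.one_lt_card (α := R ⧸ M)).ne'
        · exact h))
    have hle : M ≤ S.comap (QuotientGroup.mk' M) := fun x hx => by
      rw [mem_comap, QuotientGroup.mk'_apply, (QuotientGroup.eq_one_iff x).2 hx]; exact one_mem S
    rcases eq_or_lt_of_le hle with h | h
    · exfalso
      have h2 : S = ⊥ := by
        rw [← map_comap_eq_self_of_surjective (QuotientGroup.mk'_surjective M) S, ← h]
        exact QuotientGroup.map_mk'_self M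
      rw [h2, card_bot, pow_one] at hS
      exact (Fact.out : r.Prime).one_lt.ne hS
    · have h2 : S = ⊤ := by
        rw [← map_comap_eq_self_of_surjective (QuotientGroup.mk'_surjective M) S, hM.2 _ h,
          map_top_of_surjective _ (QuotientGroup.mk'_surjective M)]
      rw [h2, pow_one] at hS
      rwa [card_top] at hS
  let e : R ⧸ M ≃* Multiplicative (ZMod r) :=
    mulEquivOfPrimeCardEq (p := r) hcard (by simp)
  by_contra hvM
  have h1 := hv (fun x => ZMod.castHom (dvd_refl r) L (Multiplicative.toAdd (e (QuotientGroup.mk x))))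
    (fun a b => by simp only [QuotientGroup.mk_mul, map_mul, toAdd_mul, map_add])
  rw [map_eq_zero_iff _ (ZMod.castHom (dvd_refl r) L).injective, toAdd_eq_zero,
    MulEquiv.map_eq_one_iff, QuotientGroup.eq_one_iff] at h1
  exact hvM h1

variable {G : Type*} [Group G] [Finite G]

/-- An `r`-subgroup of the Fitting subgroup lies in `O_r(G)`. -/
theorem le_pCore_of_le_fitting {r : ℕ} [Fact r.Prime] {T : Subgroup G}
    (hT : T ≤ Cfsg.fittingSubgroup G) (hTr : IsPGroup r T) : T ≤ Cfsg.pCore r G := by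
  set F := Cfsg.fittingSubgroup G
  let S : Sylow r F := (PSolvable.pCore_isPGroup (p := r) (G := G)).comap_subtype.toSylow
    (Fitting.not_dvd_relIndex_pCore_fitting r)
  haveI hn : (S : Subgroup F).Normal := by
    show ((Cfsg.pCore r G).subgroupOf F).Normal
    infer_instance
  obtain ⟨P, hP⟩ := (hTr.comap_subtype (K := F)).exists_le_sylow
  haveI := S.unique_of_normal hn
  rw [Subsingleton.elim P S] at hP
  intro x hx
  exact hP (show (⟨x, hT hx⟩ : F) ∈ T.comap F.subtype from hx)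

/-- Elements over `O_q(G ⧸ F)` centralising every `O_r(G)`, `r ≠ q`, lie in the Fitting subgroup. -/
theorem inf_centralizers_le_fitting {q : ℕ} [Fact q.Prime] [(Cfsg.fittingSubgroup G).Normal] :
    (Cfsg.pCore q (G ⧸ Cfsg.fittingSubgroup G)).comap (QuotientGroup.mk' _) ⊓
      (⨅ (r : ℕ) (_ : r.Prime ∧ r ≠ q), centralizer (Cfsg.pCore r G : Set G)) ≤
        Cfsg.fittingSubgroup G := by
  classical
  set F := Cfsg.fittingSubgroup G with hF
  set D := (Cfsg.pCore q (G ⧸ F)).comap (QuotientGroup.mk' F) ⊓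
    (⨅ (r : ℕ) (_ : r.Prime ∧ r ≠ q), centralizer (Cfsg.pCore r G : Set G)) with hD
  haveI hcn : ∀ r : ℕ, (Cfsg.pCore r G).Normal := fun r => sSup_normal _ fun _ h => h.1
  haveI : (Cfsg.pCore q (G ⧸ F)).Normal := sSup_normal _ fun _ h => h.1
  haveI : (⨅ (r : ℕ) (_ : r.Prime ∧ r ≠ q), centralizer (Cfsg.pCore r G : Set G)).Normal := by
    refine normal_iInf_normal fun r => normal_iInf_normal fun _ => ?_
    infer_instance
  haveI : D.Normal := by rw [hD]; infer_instance
  refine Fitting.le_fittingSubgroup ?_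
  -- Sylow subgroups for the other primes are central
  have hcent : ∀ r : ℕ, r.Prime → r ≠ q → ∀ S : Sylow r D, (S : Subgroup D) ≤ center D := by
    intro r hr hrq S x hx
    haveI := Fact.mk hr
    set T : Subgroup G := (S : Subgroup D).map D.subtype
    have hTD : T ≤ D := map_subtype_le _
    have hTr : IsPGroup r T := S.2.map _
    have hTF : T ≤ F := by
      have h1 : IsPGroup r (T.map (QuotientGroup.mk' F)) := hTr.map _
      have h2 : T.map (QuotientGroup.mk' F) ≤ Cfsg.pCore q (G ⧸ F) :=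
        map_le_iff_le_comap.2 (hTD.trans (hD ▸ inf_le_left))
      have h3 : Disjoint (T.map (QuotientGroup.mk' F)) (Cfsg.pCore q (G ⧸ F)) :=
        IsPGroup.disjoint_of_ne r q hrq _ _ h1 PSolvable.pCore_isPGroup
      rw [disjoint_of_le_iff_left_eq_bot h2] at h3
      rwa [Subgroup.map_eq_bot_iff, QuotientGroup.ker_mk'] at h3
    have hTO : T ≤ Cfsg.pCore r G := le_pCore_of_le_fitting hTF hTr
    rw [mem_center_iff]
    intro d
    have hd : (d : G) ∈ centralizer (Cfsg.pCore r G : Set G) := by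
      have := (mem_inf.1 d.2).2
      simp only [mem_iInf] at this
      exact this r ⟨hr, hrq⟩
    exact Subtype.ext ((mem_centralizer_iff.1 hd (x : G) (hTO ⟨x, hx, rfl⟩)).symm)
  refine ((Group.isNilpotent_of_finite_tfae (G := D)).out 0 3).mpr ?_
  intro r hr S
  rcases eq_or_ne r q with rfl | hrq
  · rw [← normalizer_eq_top_iff]
    refine Fitting.eq_top_of_sylow_le fun s hs => ?_
    haveI := Fact.mk hs
    rcases eq_or_ne s r with rfl | hsr
    · exact ⟨S, le_normalizer⟩
    · obtain ⟨S'⟩ := (inferInstance : Nonempty (Sylow s D))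
      exact ⟨S', (hcent s hs hsr S').trans (center_le_normalizer _)⟩
  · exact ⟨fun x hx g => by
      rw [mem_center_iff.1 (hcent r hr.out hrq S hx) g, mul_inv_cancel_right]
      exact hx⟩

section Dual

variable {Γ : Type*} [Group Γ] [Finite Γ] (R : Subgroup Γ) [R.Normal] {L : Type*} [Field L]

omit [Finite G] in
/-- A fixed-point-free element has no fixed functions. -/
theorem dual_eq_zero_of_fixed {t : Γ} (hR : ∀ w ∈ R, t * w * t⁻¹ = w → w = 1)
    {f : Ward.dualSpace R L} (hf : Ward.dualRep R L t f = f) : f = 0 := by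
  refine Subtype.ext (funext fun w => ?_)
  have hinj : Function.Injective fun v : R =>
      (⟨t⁻¹ * v * t, Normal.conj_mem' inferInstance _ v.2 t⟩ : R) * v⁻¹ := by
    intro a b hab
    have hab' : t⁻¹ * (a : Γ) * t * (a : Γ)⁻¹ = t⁻¹ * (b : Γ) * t * (b : Γ)⁻¹ :=
      congrArg Subtype.val hab
    have hu : t * ((b : Γ)⁻¹ * a) * t⁻¹ = (b : Γ)⁻¹ * a := by
      have h2 : t⁻¹ * ((b : Γ)⁻¹ * a) * t = (b : Γ)⁻¹ * a := by
        calc t⁻¹ * ((b : Γ)⁻¹ * a) * t
            = (t⁻¹ * (b : Γ) * t)⁻¹ * (t⁻¹ * (a : Γ) * t * (a : Γ)⁻¹) * a := by group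
          _ = (t⁻¹ * (b : Γ) * t)⁻¹ * (t⁻¹ * (b : Γ) * t * (b : Γ)⁻¹) * a := by rw [hab']
          _ = (b : Γ)⁻¹ * a := by group
      conv_lhs => rw [← h2]
      group
    have h1 := hR _ (mul_mem (inv_mem b.2) a.2) hu
    exact Subtype.ext (inv_mul_eq_one.1 h1).symm
  obtain ⟨v, hv⟩ := Finite.surjective_of_injective hinj w
  have h3 := congrArg (fun k : Ward.dualSpace R L => k.1 v) hf
  simp only [Ward.dualRep_apply] at h3
  have h2 := f.2 w v
  rw [← hv, inv_mul_cancel_right, h3] at h2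
  rw [← hv]
  exact right_eq_add.1 h2

omit [Finite G] in
/-- Acting trivially on the homomorphisms to `L` means centralising, for coprime orders. -/
theorem le_centralizer_of_dual_eq_one {r q : ℕ} [Fact r.Prime] [Fact q.Prime] (hrq : r ≠ q)
    [CharP L r] (hRr : IsPGroup r R) {A : Subgroup Γ} (hAq : IsPGroup q A)
    (hA : A ≤ (Ward.dualRep R L).ker) : A ≤ centralizer (R : Set Γ) := by
  refine Coprime.le_centralizer_of_frattini (K := R) (by rw [normalizer_eq_top]; exact le_top) ?_ ?_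
  · obtain ⟨b, hb⟩ := (IsPGroup.to_subgroup hRr (frattini R)).exists_card_eq
    obtain ⟨c, hc⟩ := hAq.exists_card_eq
    rw [hb, hc]
    exact Nat.Coprime.pow _ _ ((Nat.coprime_primes Fact.out Fact.out).2 hrq.symm)
  · intro b hb k hk
    have hkmem : b * k * b⁻¹ ∈ R := Normal.conj_mem inferInstance k hk b
    refine ⟨⟨b * k * b⁻¹, hkmem⟩ * ⟨k, hk⟩⁻¹, ?_, rfl⟩
    refine mem_frattini_of_forall_hom hRr (L := L) fun f hf => ?_
    have hρb : Ward.dualRep R L b⁻¹ = 1 := MonoidHom.mem_ker.1 (hA (inv_mem hb))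
    have h1 := congrArg (fun k' : Ward.dualSpace R L => k'.1 ⟨k, hk⟩)
      (LinearMap.congr_fun hρb ⟨f, hf⟩)
    simp only [Ward.dualRep_apply, Module.End.one_apply, inv_inv] at h1
    have h2 := hf (⟨b * k * b⁻¹, hkmem⟩ * ⟨k, hk⟩⁻¹) ⟨k, hk⟩
    rw [inv_mul_cancel_right, h1] at h2
    exact right_eq_add.1 h2

end Dual

section Transport

variable {Γ : Type*} [Group Γ] [Finite Γ] {L : Type*} [Field L]

/-- The linear theorem, transported along `ι : G →* Γ`. -/
theorem mul_pow_mem_ker [IsAlgClosed L] {V : Type*} [AddCommGroup V] [Module L V]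
    [FiniteDimensional L V] (ρ : Γ →* Module.End L V) {r : ℕ} [Fact r.Prime] [CharP L r] {p : ℕ}
    (hp : p.Prime) (hrp : r ≠ p) {σ : MulAut G} {n : ℕ} (hp2 : p ≠ 2 ∨ n ≤ 1)
    (hσ : σ ^ p ^ (n + 1) = 1) (hfpf : ∀ g, σ g = g → g = 1) (ι : G →* Γ) {t : Γ}
    (ht : ∀ g, t * ι g * t⁻¹ = ι (σ g)) (htn : t ^ p ^ (n + 1) = 1)
    (hV : ∀ v, ρ t v = v → v = 0) {q : ℕ} [Fact q.Prime] (hrq : r ≠ q)
    {P : Subgroup G} (hPq : IsPGroup q P) (hPσ : ∀ x ∈ P, σ x ∈ P) {x : G} (hxP : x ∈ P) :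
    ι (x⁻¹ * (σ ^ p ^ n) x) ∈ ρ.ker := by
  have hcopG := coprime_card_of_fpf hp hσ hfpf
  have htk : ∀ (i : ℕ) g, t ^ i * ι g * (t ^ i)⁻¹ = ι ((σ ^ i) g) := by
    intro i
    induction i with
    | zero => simp
    | succ i ih =>
      intro g
      rw [pow_succ', pow_succ' σ, MulAut.mul_apply, ← ht, ← ih]
      group
  have hn0 : ∀ m : ℕ, ¬ r ∣ m → (m : L) ≠ 0 := fun m hm h =>
    hm ((CharP.cast_eq_zero_iff L r m).1 h)
  set mk := QuotientGroup.mk' ρ.ker
  set O : Subgroup (Γ ⧸ ρ.ker) := P.map (mk.comp ι) with hO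
  have hOt : mk t ∈ normalizer (O : Set (Γ ⧸ ρ.ker)) := by
    refine mem_normalizer_fintype ?_
    rintro _ ⟨y, hy, rfl⟩
    refine ⟨σ y, hPσ y hy, ?_⟩
    simp only [MonoidHom.comp_apply]
    rw [← ht, map_mul, map_mul, map_inv]
  obtain ⟨a, ha⟩ := (hPq.map (mk.comp ι)).exists_card_eq
  have hOk : (Nat.card O : L) ≠ 0 := hn0 _ (by
    rw [hO, ha]
    intro h
    exact hrq ((Nat.prime_dvd_prime_iff_eq Fact.out Fact.out).1
      ((Fact.out : r.Prime).dvd_of_dvd_pow h)))
  have hOp : (Nat.card O).Coprime p := (hcopG.coprime_dvd_right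
    ((card_map_dvd P (mk.comp ι)).trans (card_subgroup_dvd_card P))).symm
  have hOfix : ∀ g ∈ O, mk t * g * (mk t)⁻¹ = g → g = 1 := by
    rintro _ ⟨y, hy, rfl⟩ hfix
    simp only [MonoidHom.comp_apply] at hfix ⊢
    rw [← map_inv, ← map_mul, ← map_mul, ht] at hfix
    have hKσ : ∀ z ∈ ρ.ker.comap ι, σ z ∈ ρ.ker.comap ι := fun z hz => by
      rw [mem_comap, ← ht]
      exact (MonoidHom.normal_ker ρ).conj_mem _ hz t
    refine (QuotientGroup.eq_one_iff _).2 (mem_of_fpf hfpf hKσ (g := y) ?_)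
    rw [mem_comap, map_mul, map_inv]
    exact QuotientGroup.eq.1 hfix.symm
  have hinj : Function.Injective (QuotientGroup.lift ρ.ker ρ le_rfl) := fun u v huv => by
    obtain ⟨u, rfl⟩ := QuotientGroup.mk_surjective u
    obtain ⟨v, rfl⟩ := QuotientGroup.mk_surjective v
    rw [QuotientGroup.lift_mk, QuotientGroup.lift_mk] at huv
    refine QuotientGroup.eq.2 ?_
    rw [MonoidHom.mem_ker, map_mul, ← huv, ← map_mul, inv_mul_cancel, map_one]
  have hlin := le_centralizer_of_fixedPointFree' (QuotientGroup.lift ρ.ker ρ le_rfl) hinj hp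
    (n := n + 1) (hp2.imp_right fun h => by omega) (hn0 p fun h => hrp ((Nat.prime_dvd_prime_iff_eq Fact.out hp).1 h))
    (t := mk t) (by rw [← map_pow, htn, map_one])
    (fun f hf => hV f (by rwa [QuotientGroup.mk'_apply, QuotientGroup.lift_mk] at hf)) hOt hOk hOp hOfix
  rw [Nat.add_sub_cancel] at hlin
  have h1 := mem_centralizer_singleton_iff.1 (hlin (mem_map_of_mem _ hxP))
  rw [MonoidHom.comp_apply, ← map_pow, ← map_mul, ← map_mul] at h1
  rw [map_mul, map_inv, ← htk]
  have h2 := (MonoidHom.normal_ker ρ).conj_mem _ (QuotientGroup.eq.1 h1) (t ^ p ^ n)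
  have e : (ι x)⁻¹ * (t ^ p ^ n * ι x * (t ^ p ^ n)⁻¹) =
      t ^ p ^ n * ((ι x * t ^ p ^ n)⁻¹ * (t ^ p ^ n * ι x)) * (t ^ p ^ n)⁻¹ := by group
  rw [e]
  exact h2

end Transport

/-- The moved elements of an invariant `q`-subgroup centralise every `O_r(G)`, `r ≠ q`. -/
theorem mul_pow_mem_centralizer_pCore {p : ℕ} (hp : p.Prime) {σ : MulAut G} {n : ℕ}
    (hp2 : p ≠ 2 ∨ n ≤ 1)
    (hσ : σ ^ p ^ (n + 1) = 1) (hfpf : ∀ g, σ g = g → g = 1) {q : ℕ} [Fact q.Prime] {r : ℕ}
    (hr : r.Prime) (hrq : r ≠ q) {P : Subgroup G} (hPq : IsPGroup q P)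
    (hPσ : ∀ x ∈ P, σ x ∈ P) {x : G} (hxP : x ∈ P) :
    x⁻¹ * (σ ^ p ^ n) x ∈ centralizer (Cfsg.pCore r G : Set G) := by
  haveI := Fact.mk hr
  have hcopG := coprime_card_of_fpf hp hσ hfpf
  rcases eq_or_ne r p with rfl | hrp
  · have hbot : Cfsg.pCore r G = ⊥ := by
      obtain ⟨b, hb⟩ := (PSolvable.pCore_isPGroup (p := r) (G := G)).exists_card_eq
      rcases Nat.eq_zero_or_pos b with h | h
      · exact eq_bot_of_card_eq _ (by rw [hb, h, pow_zero])
      · exfalso
        refine hp.coprime_iff_not_dvd.1 hcopG ?_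
        exact (dvd_pow_self r h.ne').trans (hb ▸ card_subgroup_dvd_card _)
    refine mem_centralizer_iff.2 fun y hy => ?_
    rw [hbot] at hy
    rw [show y = 1 from mem_bot.1 hy, one_mul, mul_one]
  let φ : zpowers σ →* MulAut G := (zpowers σ).subtype
  haveI : Finite (G ⋊[φ] zpowers σ) := Coprime.finite_semidirect φ
  set t : G ⋊[φ] zpowers σ := SemidirectProduct.inr ⟨σ, mem_zpowers σ⟩ with htdef
  have ht : ∀ g, t * SemidirectProduct.inl g * t⁻¹ = SemidirectProduct.inl (σ g) := fun g => by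
    rw [htdef, ← map_inv, ← SemidirectProduct.inl_aut]
    rfl
  set R : Subgroup (G ⋊[φ] zpowers σ) := (Cfsg.pCore r G).map SemidirectProduct.inl with hRdef
  haveI hRn : R.Normal := by
    refine ⟨?_⟩
    rintro _ ⟨z, hz, rfl⟩ y
    refine ⟨y.left * φ y.right z * y.left⁻¹, (sSup_normal _ fun _ h => h.1 :
      (Cfsg.pCore r G).Normal).conj_mem _ ?_ _, ?_⟩
    · have h := mem_map_of_mem (MulEquiv.toMonoidHom (φ y.right)) hz
      rwa [PSolvable.map_pCore_equiv] at h
    · conv_rhs => rw [← SemidirectProduct.inl_left_mul_inr_right y]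
      rw [map_mul, map_mul, map_inv, SemidirectProduct.inl_aut, mul_inv_rev]
      simp only [mul_assoc, map_inv]
  have hR : ∀ w ∈ R, t * w * t⁻¹ = w → w = 1 := by
    rintro _ ⟨z, _, rfl⟩ h
    rw [ht] at h
    rw [hfpf z (SemidirectProduct.inl_injective h), map_one]
  have hmain := mul_pow_mem_ker (Ward.dualRep R (AlgebraicClosure (ZMod r))) (r := r) hp hrp hp2 hσ
    hfpf SemidirectProduct.inl ht
    (by rw [htdef, ← map_pow,
      show (⟨σ, mem_zpowers σ⟩ : zpowers σ) ^ p ^ (n + 1) = 1 from Subtype.ext hσ, map_one])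
    (fun v hv => dual_eq_zero_of_fixed R hR hv) hrq hPq hPσ hxP
  set a := x⁻¹ * (σ ^ p ^ n) x with ha
  have haP : a ∈ P := by
    have hpow : ∀ i : ℕ, (σ ^ i) x ∈ P := fun i => by
      induction i with
      | zero => exact hxP
      | succ i ih => rw [pow_succ', MulAut.mul_apply]; exact hPσ _ ih
    exact mul_mem (inv_mem hxP) (hpow _)
  have hle := le_centralizer_of_dual_eq_one R hrq (PSolvable.pCore_isPGroup.map _)
    ((hPq.map SemidirectProduct.inl).to_le
      (zpowers_le.2 (mem_map_of_mem SemidirectProduct.inl haP)))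
    (zpowers_le.2 hmain)
  refine mem_centralizer_iff.2 fun y hy => SemidirectProduct.inl_injective (φ := φ) ?_
  rw [map_mul, map_mul]
  exact mem_centralizer_iff.1 (hle (mem_zpowers _)) _ (mem_map_of_mem _ hy)

/-- If the moved elements of invariant `q`-subgroups centralise every `O_r(G)`, `r ≠ q`, then
`σ ^ p ^ n` centralises `G` modulo the Fitting subgroup. -/
theorem mul_pow_mem_fitting_of_local [Group.IsSolvable G] {p : ℕ} (hp : p.Prime)
    {σ : MulAut G} {n : ℕ} (hσ : σ ^ p ^ (n + 1) = 1) (hfpf : ∀ g, σ g = g → g = 1)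
    (hlocal : ∀ (q : ℕ) [Fact q.Prime] (r : ℕ), r.Prime → r ≠ q → ∀ P : Subgroup G, IsPGroup q P →
      (∀ x ∈ P, σ x ∈ P) → ∀ x ∈ P, x⁻¹ * (σ ^ p ^ n) x ∈ centralizer (Cfsg.pCore r G : Set G))
    (g : G) : g⁻¹ * (σ ^ p ^ n) g ∈ Cfsg.fittingSubgroup G := by
  classical
  set τ : MulAut G := σ ^ p ^ n with hτ
  set F := Cfsg.fittingSubgroup G with hF
  haveI : F.Normal := Fitting.fittingSubgroup_normal
  have hτp : τ ^ p = 1 := by rw [hτ, ← pow_mul, ← pow_succ, hσ]
  have hFmap : ∀ (f : MulAut G) x, x ∈ F → f x ∈ F := fun f x hx => by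
    have h := mem_map_of_mem (MulEquiv.toMonoidHom f) hx
    rwa [hF, Fitting.map_fittingSubgroup_equiv] at h
  have hcopG := coprime_card_of_fpf hp hσ hfpf
  -- on each `O_q` of the quotient
  have hcore : ∀ q : ℕ, q.Prime →
      ∀ x ∈ (Cfsg.pCore q (G ⧸ F)).comap (QuotientGroup.mk' F), x⁻¹ * τ x ∈ F := by
    intro q hq
    haveI := Fact.mk hq
    set K := (Cfsg.pCore q (G ⧸ F)).comap (QuotientGroup.mk' F) with hK
    let σF : G ⧸ F ≃* G ⧸ F :=
      QuotientGroup.congr F F σ (Fitting.map_fittingSubgroup_equiv σ)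
    have hKσ : ∀ x ∈ K, σ x ∈ K := fun x hx => by
      have := mem_map_of_mem σF.toMonoidHom (mem_comap.1 hx)
      rwa [PSolvable.map_pCore_equiv] at this
    have hKσ' : ∀ x, σ x ∈ K → x ∈ K := fun x hx => by
      obtain ⟨y, hy⟩ := Finite.surjective_of_injective
        (f := fun k : K => (⟨σ k, hKσ k k.2⟩ : K))
        (fun a b h => Subtype.ext (σ.injective (congrArg Subtype.val h))) ⟨σ x, hx⟩
      rw [← σ.injective (congrArg Subtype.val hy)]
      exact y.2
    let σK : MulAut K :=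
      { toFun := fun k => ⟨σ k, hKσ k k.2⟩
        invFun := fun k => ⟨σ.symm k, hKσ' _ (by rw [MulEquiv.apply_symm_apply]; exact k.2)⟩
        left_inv := fun k => Subtype.ext (σ.symm_apply_apply k)
        right_inv := fun k => Subtype.ext (σ.apply_symm_apply k)
        map_mul' := fun a b => Subtype.ext (map_mul σ (a : G) b) }
    obtain ⟨PK, hPK⟩ := exists_fpf_invariant_sylow (σ := σK)
      (fun k hk => Subtype.ext (hfpf k (congrArg Subtype.val hk))) q
    set P : Subgroup G := (PK : Subgroup K).map K.subtype with hP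
    have hPle : P ≤ K := map_subtype_le _
    have hPσ : ∀ x ∈ P, σ x ∈ P := by
      rintro _ ⟨k, hk, rfl⟩
      have h1 : σK • k ∈ ((σK • PK : Sylow q K) : Subgroup K) := smul_mem_pointwise_smul k σK _ hk
      rw [hPK] at h1
      exact ⟨σK k, h1, rfl⟩
    have hPq : IsPGroup q P := PK.2.map _
    -- the moved elements centralise each `O_r(G)`
    have hker : ∀ r : ℕ, r.Prime → r ≠ q → ∀ x ∈ P,
        x⁻¹ * τ x ∈ centralizer (Cfsg.pCore r G : Set G) :=
      fun r hr hrq x hx => hlocal q r hr hrq P hPq hPσ x hx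
    -- hence into the Fitting subgroup
    have hPF : ∀ x ∈ P, x⁻¹ * τ x ∈ F := fun x hx => by
      refine inf_centralizers_le_fitting (q := q) (mem_inf.2 ⟨?_, ?_⟩)
      · have hpow : ∀ i : ℕ, (σ ^ i) x ∈ P := fun i => by
          induction i with
          | zero => exact hx
          | succ i ih => rw [pow_succ', MulAut.mul_apply]; exact hPσ _ ih
        exact hPle (mul_mem (inv_mem hx) (hpow _))
      · simp only [mem_iInf]
        exact fun r hr => hker r hr.1 hr.2 x hx
    -- `K` is covered by `P` and `F`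
    intro x hx
    let f : K →* Cfsg.pCore q (G ⧸ F) :=
      ((QuotientGroup.mk' F).comp K.subtype).codRestrict _ fun k => k.2
    have hf : Function.Surjective f := fun y => by
      obtain ⟨z, hz⟩ := QuotientGroup.mk'_surjective F (y : G ⧸ F)
      exact ⟨⟨z, by rw [hK, mem_comap, hz]; exact y.2⟩, Subtype.ext hz⟩
    have htop : (PK.mapSurjective hf : Subgroup (Cfsg.pCore q (G ⧸ F))) = ⊤ :=
      ((PK.mapSurjective hf).3
        ((PSolvable.pCore_isPGroup (p := q) (G := G ⧸ F)).to_subgroup ⊤) le_top).symm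
    obtain ⟨z, hz, hzx⟩ : f ⟨x, hx⟩ ∈ (PK : Subgroup K).map f := by
      rw [← Sylow.coe_mapSurjective hf, htop]
      exact mem_top _
    have hzx' : (QuotientGroup.mk (z : G) : G ⧸ F) = QuotientGroup.mk x := congrArg Subtype.val hzx
    obtain ⟨u, hu, rfl⟩ : ∃ u ∈ F, x = (z : G) * u :=
      ⟨(z : G)⁻¹ * x, QuotientGroup.eq.1 hzx', by rw [mul_inv_cancel_left]⟩
    rw [map_mul, mul_inv_rev, show u⁻¹ * (z : G)⁻¹ * (τ z * τ u) =
      u⁻¹ * ((z : G)⁻¹ * τ z) * τ u by group]
    exact mul_mem (mul_mem (inv_mem hu) (hPF _ ⟨z, hz, rfl⟩)) (hFmap τ u hu)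
  -- on the Fitting subgroup of the quotient
  let τF : G ⧸ F ≃* G ⧸ F := QuotientGroup.congr F F τ (Fitting.map_fittingSubgroup_equiv τ)
  have hfix : Cfsg.fittingSubgroup (G ⧸ F) ≤ τF.toMonoidHom.eqLocus (MonoidHom.id _) := by
    rw [Fitting.fittingSubgroup_eq_iSup_pCore]
    refine iSup_le fun q y hy => ?_
    obtain ⟨z, rfl⟩ := QuotientGroup.mk'_surjective F y
    show (QuotientGroup.mk (τ z) : G ⧸ F) = QuotientGroup.mk z
    exact (QuotientGroup.eq.2 (hcore q q.2 z hy)).symm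
  have hτF : ∀ y ∈ Cfsg.fittingSubgroup (G ⧸ F), τF y = y := fun y hy => hfix hy
  set gb : G ⧸ F := QuotientGroup.mk g with hgb
  have hcg : gb⁻¹ * τF gb ∈ centralizer (Cfsg.fittingSubgroup (G ⧸ F) : Set (G ⧸ F)) := by
    haveI : (Cfsg.fittingSubgroup (G ⧸ F)).Normal := Fitting.fittingSubgroup_normal
    rw [mem_centralizer_iff]
    intro y hy
    have hz : gb * y * gb⁻¹ ∈ Cfsg.fittingSubgroup (G ⧸ F) := Normal.conj_mem inferInstance y hy gb
    have h1 := hτF _ hz
    rw [map_mul, map_mul, map_inv, hτF y hy] at h1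
    calc y * (gb⁻¹ * τF gb) = gb⁻¹ * (gb * y * gb⁻¹) * τF gb := by group
      _ = gb⁻¹ * (τF gb * y * (τF gb)⁻¹) * τF gb := by rw [h1]
      _ = gb⁻¹ * τF gb * y := by group
  set c := gb⁻¹ * τF gb with hc
  have hcF : τF c = c := hτF c (Fitting.centralizer_fittingSubgroup_le hcg)
  have hiter : ∀ i : ℕ, (QuotientGroup.mk ((τ ^ i) g) : G ⧸ F) = gb * c ^ i := by
    intro i
    induction i with
    | zero => simp [hgb]
    | succ i ih =>
      rw [pow_succ', MulAut.mul_apply]
      show τF (QuotientGroup.mk ((τ ^ i) g)) = _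
      rw [ih, map_mul, map_pow, hcF, show τF gb = gb * c by rw [hc, mul_inv_cancel_left], mul_assoc,
        ← pow_succ']
  have hcp : c ^ p = 1 := by
    have := hiter p
    rw [hτp, MulAut.one_apply, ← hgb] at this
    exact mul_eq_left.1 this.symm
  have hc1 : c = 1 := orderOf_eq_one_iff.1 (Nat.eq_one_of_dvd_coprimes hcopG
    (orderOf_dvd_of_pow_eq_one hcp)
    ((orderOf_dvd_natCard c).trans (card_quotient_dvd_card F)))
  refine (QuotientGroup.eq_one_iff _).1 ?_
  rw [← hc1]
  rfl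

/-- The key step for odd primes and for automorphisms of order at most `4`. -/
theorem mul_pow_mem_fitting [Group.IsSolvable G] {p : ℕ} (hp : p.Prime) {σ : MulAut G} {n : ℕ}
    (hp2 : p ≠ 2 ∨ n ≤ 1) (hσ : σ ^ p ^ (n + 1) = 1) (hfpf : ∀ g, σ g = g → g = 1) (g : G) :
    g⁻¹ * (σ ^ p ^ n) g ∈ Cfsg.fittingSubgroup G :=
  mul_pow_mem_fitting_of_local hp hσ hfpf
    (fun _ _ _ hr hrq _ hPq hPσ _ hx => mul_pow_mem_centralizer_pCore hp hp2 hσ hfpf hr hrq hPq hPσ hx) g

universe u

/-- The residual series stops after `n` steps. -/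
theorem res_eq_bot_of_fpf {p : ℕ} (hp : p.Prime) : ∀ (n : ℕ), p ≠ 2 ∨ n ≤ 2 → ∀ {G : Type u} [Group G]
    [Finite G] [Group.IsSolvable G] (σ : MulAut G), σ ^ p ^ n = 1 → (∀ g, σ g = g → g = 1) →
      FittingLength.res (⊤ : Subgroup G) n = ⊥ := by
  intro n
  induction n with
  | zero =>
    intro _ G _ _ _ σ hσ hfpf
    rw [FittingLength.res_zero, eq_bot_iff]
    intro g _
    rw [pow_zero, pow_one] at hσ
    exact mem_bot.2 (hfpf g (by rw [hσ, MulAut.one_apply]))
  | succ n ih =>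
    intro hp2 G _ _ _ σ hσ hfpf
    set F := Cfsg.fittingSubgroup G with hF
    haveI : F.Normal := Fitting.fittingSubgroup_normal
    let σF : MulAut (G ⧸ F) := QuotientGroup.congr F F σ (Fitting.map_fittingSubgroup_equiv σ)
    have hσF : ∀ (i : ℕ) (g : G), (σF ^ i) (QuotientGroup.mk g) = QuotientGroup.mk ((σ ^ i) g) := by
      intro i
      induction i with
      | zero => intro g; rfl
      | succ i ih => intro g; rw [pow_succ', pow_succ', MulAut.mul_apply, MulAut.mul_apply, ih]; rfl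
    have hpow : σF ^ p ^ n = 1 := MulEquiv.ext fun y => by
      obtain ⟨g, rfl⟩ := QuotientGroup.mk_surjective y
      rw [hσF]
      exact (QuotientGroup.eq.2 (mul_pow_mem_fitting hp (hp2.imp_right fun h => by omega) hσ hfpf g)).symm
    have hfpfF : ∀ y, σF y = y → y = 1 := by
      intro y
      obtain ⟨g, rfl⟩ := QuotientGroup.mk_surjective y
      intro hy
      refine (QuotientGroup.eq_one_iff g).2 (mem_of_fpf hfpf (fun x hx => ?_) ?_)
      · have h := mem_map_of_mem (MulEquiv.toMonoidHom σ) hx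
        rwa [hF, Fitting.map_fittingSubgroup_equiv] at h
      · exact QuotientGroup.eq.1 hy.symm
    have h1 := ih (hp2.imp_right fun h => by omega) σF hpow hfpfF
    have h2 : FittingLength.res (⊤ : Subgroup G) n ≤ F := by
      rw [← QuotientGroup.ker_mk' F, ← Subgroup.map_eq_bot_iff, FittingLength.map_res,
        map_top_of_surjective _ (QuotientGroup.mk'_surjective F), h1]
    obtain ⟨k, hk⟩ := (isNilpotent_iff_lowerCentralSeries F).1 Fitting.isNilpotent_fittingSubgroup
    rw [FittingLength.res_succ, eq_bot_iff, ← hk]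
    exact (FittingLength.gammaInf_mono h2).trans (iInf_le _ k)

end Cfsg.Agent.Lib.ShultGross
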