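import Cfsg.Agent.Lib.ShultGross.Exceptional

/-!
# An exceptional module with a small `-1` space
-/

set_option autoImplicit false
set_option linter.style.haveILetI false

namespace Cfsg.Agent.Lib.ShultGross

open Module
open Cfsg.Agent.Lib.HallHigmanB

variable {k V H : Type*} [Field k] [IsAlgClosed k] [AddCommGroup V] [Module k V]
  [FiniteDimensional k V] [Group H] [Finite H]

theorem fixed_line_of_rank_two (ρ : H →* Module.End k V) (hk2 : (2 : k) ≠ 0) {t : H} {n : ℕ}
    (htn : t ^ 2 ^ (n + 1) = 1) (hfix : ∀ v, ρ t v = v → v = 0) {Q : Subgroup H}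
    (hQk : (Nat.card Q : k) ≠ 0) (hQt : t ∈ Subgroup.normalizer (Q : Set H))
    (hQ3 : ⁅⁅Q, Q⁆, Q⁆ = ⊥) (hQy : ⁅Q, Subgroup.zpowers (t ^ 2 ^ n)⁆ = Q)
    (hfpf : ∀ g ∈ Q, t * g * t⁻¹ = g → g = 1) {E : Submodule k V} (hE : E ≠ ⊥)
    (hEinv : Invt ρ Q E) (hEy : ∀ f ∈ E, ρ (t ^ 2 ^ n) f ∈ E)
    (hnofix : ∀ f ∈ E, (∀ g ∈ Q, ρ g f = f) → f = 0)
    (hM : finrank k (E ⊓ Module.End.eigenspace (ρ (t ^ 2 ^ n)) (-1) : Submodule k V) ≤ 2) :
    finrank k (E ⊓ Module.End.eigenspace (ρ (t ^ 2 ^ n)) 1 : Submodule k V) ≤ 1 ∧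
      ∃ w ∈ E, w ≠ 0 ∧ ρ (t ^ 2 ^ n) w = w := by
  classical
  obtain ⟨U, hUle, hU⟩ := exists_irredSub hE hEinv
  have hUnt : ∃ g ∈ Q, ∃ u ∈ U, ρ g u ≠ u := by
    by_contra hall
    push Not at hall
    obtain ⟨u, hu, hu0⟩ := (Submodule.ne_bot_iff _).1 hU.1
    exact hu0 (hnofix u (hUle hu) fun g hg => hall g hg u hu)
  obtain ⟨-, -, ⟨M, hM2, hdimU, hMle⟩, w, hwU, hw0, hwfix⟩ :=
    exceptional_spectrum ρ hk2 htn hfix hQk hQt hQ3 hQy hfpf hU hUnt
  refine ⟨?_, w, hUle hwU, hw0, hwfix⟩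
  set y := t ^ 2 ^ n with hy
  have hy2 : y * y = 1 := by rw [hy, ← pow_add, ← two_mul, ← pow_succ', htn]
  have hyv : ∀ v, ρ y (ρ y v) = v := fun v => by
    rw [← Module.End.mul_apply, ← map_mul, hy2, map_one, Module.End.one_apply]
  set EM : Submodule k V := E ⊓ Module.End.eigenspace (ρ y) (-1) with hEM
  set EP : Submodule k V := E ⊓ Module.End.eigenspace (ρ y) 1 with hEP
  have hUM : U ⊓ Module.End.eigenspace (ρ y) (-1) = EM := by
    have h := inf_le_inf_right (Module.End.eigenspace (ρ y) (-1)) hUle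
    have := Submodule.finrank_mono h
    exact Submodule.eq_of_le_of_finrank_le h (by omega)
  -- `Q` acts trivially on `E` modulo `U`
  have hEU : E ≤ U := by
    have hsub : ∀ f ∈ E, ρ y f - f ∈ U := fun f hf => by
      have : ρ y f - f ∈ EM := ⟨sub_mem (hEy f hf) hf, Module.End.mem_eigenspace_iff.2 (by
        rw [map_sub, hyv, neg_one_smul, neg_sub])⟩
      rw [← hUM] at this
      exact this.1
    let S : Subgroup H :=
      { carrier := {g | g ∈ Q ∧ ∀ f ∈ E, ρ g f - f ∈ U}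
        one_mem' := ⟨one_mem _, fun f _ => by simp⟩
        mul_mem' := fun {g g'} hg hg' => ⟨mul_mem hg.1 hg'.1, fun f hf => by
          have := add_mem (hg.2 _ (hEinv g' hg'.1 f hf)) (hg'.2 f hf)
          rwa [sub_add_sub_cancel, ← Module.End.mul_apply, ← map_mul] at this⟩
        inv_mem' := fun {g} hg => ⟨inv_mem hg.1, fun f hf => by
          have := U.neg_mem (hg.2 _ (hEinv g⁻¹ (inv_mem hg.1) f hf))
          rwa [apply_apply_inv, neg_sub] at this⟩ }
    have hle : ⁅Q, Subgroup.zpowers y⁆ ≤ S := by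
      rw [Subgroup.commutator_le]
      intro g hg z hz
      refine ⟨hQy ▸ Subgroup.commutator_mem_commutator hg hz, fun f hf => ?_⟩
      have hz' : z = 1 ∨ z = y := by
        obtain ⟨i, rfl⟩ := (mem_powers_iff_mem_zpowers (x := y) (y := z)).2 hz
        obtain ⟨l, hl⟩ := i.even_or_odd'
        rcases hl with hl | hl
        · left; show y ^ i = 1; rw [hl, pow_mul, pow_two, hy2, one_pow]
        · right; show y ^ i = y; rw [hl, pow_succ, pow_mul, pow_two, hy2, one_pow, one_mul]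
      rcases hz' with hzz | hzz
      · rw [hzz, commutatorElement_def, inv_one, mul_one, mul_one, mul_inv_cancel, map_one]
        simp
      · rw [hzz, commutatorElement_def, show y⁻¹ = y from inv_eq_of_mul_eq_one_right hy2, map_mul,
          Module.End.mul_apply, map_mul, Module.End.mul_apply, map_mul, Module.End.mul_apply]
        have m1 := hEy f hf
        have m2 := hEinv _ (inv_mem hg) _ m1
        have e1 : ρ g (ρ y (ρ g⁻¹ (ρ y f)) - ρ g⁻¹ (ρ y f)) ∈ U := hU.2.1 g hg _ (hsub _ m2)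
        rw [map_sub, apply_apply_inv] at e1
        have := add_mem e1 (hsub f hf)
        rwa [sub_add_sub_cancel] at this
    rw [hQy] at hle
    intro f hf
    letI := Fintype.ofFinite Q
    have hinv : ∀ g : Q, ρ (g : H) f ∈ E := fun g => hEinv g g.2 f hf
    have hsum : (∑ g : Q, ρ (g : H) f) = 0 := by
      refine hnofix _ (Submodule.sum_mem _ fun g _ => hinv g) fun g hg => ?_
      rw [map_sum]
      exact Fintype.sum_equiv (Equiv.mulLeft (⟨g, hg⟩ : Q)) _ _ fun x => by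
        rw [Equiv.coe_mulLeft, Subgroup.coe_mul, map_mul, Module.End.mul_apply]
    have h1 : (Fintype.card Q : k) • f = -∑ g : Q, (ρ (g : H) f - f) := by
      rw [Finset.sum_sub_distrib, hsum, zero_sub, neg_neg, Finset.sum_const, Finset.card_univ,
        Nat.cast_smul_eq_nsmul]
    have h2 : (Fintype.card Q : k) • f ∈ U :=
      h1 ▸ U.neg_mem (Submodule.sum_mem _ fun (g : Q) _ => (hle g.2).2 f hf)
    rwa [Submodule.smul_mem_iff _ (by rwa [← Nat.card_eq_fintype_card])] at h2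
  have h := Submodule.finrank_sup_add_finrank_inf_eq EM EP
  have h0 : EM ⊓ EP = ⊥ := by
    rw [eq_bot_iff]
    rintro f ⟨hf1, hf2⟩
    have e1 := Module.End.mem_eigenspace_iff.1 hf1.2
    rw [Module.End.mem_eigenspace_iff.1 hf2.2, one_smul, neg_one_smul, eq_neg_iff_add_eq_zero,
      ← two_smul k f] at e1
    exact (Submodule.mem_bot k).2 ((smul_eq_zero.1 e1).resolve_left hk2)
  have h1 : EM ⊔ EP ≤ U := sup_le (inf_le_left.trans hEU) (inf_le_left.trans hEU)
  have h2 := Submodule.finrank_mono h1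
  rw [h0, finrank_bot] at h
  rw [hUM] at hMle
  omega

end Cfsg.Agent.Lib.ShultGross
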