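import Cfsg.Agent.Lib.ShultGross.Exceptional
import Cfsg.Agent.Lib.ShultGross.Linear

/-!
# The linear theorem for odd primes, and for automorphisms of order at most `4`
-/

set_option autoImplicit false
set_option linter.style.haveILetI false

namespace Cfsg.Agent.Lib.ShultGross

open Module
open Cfsg.Agent.Lib.HallHigmanB

theorem le_centralizer_of_fixedPointFree' {k V H : Type*} [Field k] [IsAlgClosed k] [AddCommGroup V]
    [Module k V] [FiniteDimensional k V] [Group H] [Finite H] (ρ : H →* Module.End k V)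
    (hρ : Function.Injective ρ) {p : ℕ} (hp : p.Prime) {t : H} {n : ℕ} (hp2 : p ≠ 2 ∨ n ≤ 2)
    (hpk : (p : k) ≠ 0) (htn : t ^ p ^ n = 1) (hfix : ∀ v, ρ t v = v → v = 0) {O : Subgroup H}
    (hOt : t ∈ Subgroup.normalizer (O : Set H)) (hOk : (Nat.card O : k) ≠ 0)
    (hOp : (Nat.card O).Coprime p) (hfpf : ∀ g ∈ O, t * g * t⁻¹ = g → g = 1) :
    O ≤ Subgroup.centralizer {t ^ p ^ (n - 1)} := by
  rcases eq_or_ne p 2 with h2 | h2
  swap
  · exact le_centralizer_of_fixedPointFree ρ hρ hp h2 hpk htn hfix hOt hOk hOp hfpf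
  subst h2
  classical
  have hn : n ≤ 2 := hp2.resolve_left (fun h => h rfl)
  rcases Nat.eq_zero_or_pos n with h0 | h0
  · subst h0
    intro g _
    rw [Subgroup.mem_centralizer_singleton_iff, show 2 ^ (0 - 1) = 2 ^ 0 from rfl, htn, mul_one, one_mul]
  obtain ⟨n', rfl⟩ : ∃ n', n = n' + 1 := ⟨n - 1, by omega⟩
  rw [Nat.add_sub_cancel]
  by_contra hmoved
  haveI := Fact.mk hp
  obtain ⟨q, Q, hq, -, hQO, -, hQt, hQ3, hQy, hQne⟩ :=
    exists_moved_minimal (p := 2) hOt (Subgroup.npow_mem_zpowers t (2 ^ n')) htn hOp hmoved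
  letI := Fintype.ofFinite Q
  have hQk : (Nat.card Q : k) ≠ 0 := by
    obtain ⟨c, hc⟩ := Subgroup.card_dvd_of_le hQO
    intro h
    exact hOk (by rw [hc, Nat.cast_mul, h, zero_mul])
  let S : Module.End k V := ∑ g : Q, ρ g
  have hSinv : ∀ g ∈ Q, ∀ v, S (ρ g v) = S v := by
    intro g hg v
    suffices h : S * ρ g = S from LinearMap.congr_fun h v
    rw [Finset.sum_mul]
    refine Fintype.sum_equiv (Equiv.mulRight (⟨g, hg⟩ : Q)) _ _ fun x => ?_
    exact (map_mul ρ _ _).symm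
  have hker : LinearMap.ker S ≠ ⊥ := by
    intro h0
    refine hQne ((Subgroup.eq_bot_iff_forall _).2 fun g hg => hρ (LinearMap.ext fun v => ?_))
    rw [map_one, Module.End.one_apply]
    exact LinearMap.ker_eq_bot.1 h0 (hSinv g hg v)
  have hinv : Invt ρ Q (LinearMap.ker S) := fun g hg w hw => by
    rw [LinearMap.mem_ker] at hw ⊢
    rw [hSinv g hg, hw]
  obtain ⟨W, hWle, hW⟩ := exists_irredSub hker hinv
  have hnt : ∃ g ∈ Q, ∃ w ∈ W, ρ g w ≠ w := by
    by_contra hall
    push Not at hall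
    obtain ⟨w, hw, hw0⟩ := (Submodule.ne_bot_iff _).1 hW.1
    have h1 : S w = (Fintype.card Q : k) • w := by
      simp only [S, LinearMap.coe_sum, Finset.sum_apply]
      rw [Finset.sum_congr rfl fun (g : Q) _ => hall g g.2 w hw, Finset.sum_const, Finset.card_univ,
        ← Nat.cast_smul_eq_nsmul k]
    rw [LinearMap.mem_ker.1 (hWle hw), ← Nat.card_eq_fintype_card] at h1
    exact hw0 ((smul_eq_zero.1 h1.symm).resolve_left hQk)
  obtain ⟨h, -⟩ := exceptional_spectrum ρ (by simpa using hpk) htn hfix hQk hQt hQ3 hQy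
    (fun g hg => hfpf g (hQO hg)) hW hnt
  omega

end Cfsg.Agent.Lib.ShultGross
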